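import Groth.Agent.RootData.Inversions
import Groth.Agent.RootData.Coroot

/-!
# The roots in the span of two simple roots
-/

namespace Groth.Agent.Red23Lib.Pinned

open Groth.Agent.RootData RootD

variable {ι M N : Type*} [AddCommGroup M] [AddCommGroup N] [Fintype ι] {P : RootPairing ι ℤ M N}

/-- A root pairing over `ℤ` with a base is reduced. -/
theorem isIndiv_of_base (b : P.Base) (k : ι) : IsIndiv P k := by
  classical
  have hΔ := Simple.of_base b
  have hΔ' : Simple P.flip ((b.flip).support : Set ι) := Simple.of_base b.flip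
  have simple_case : ∀ a ∈ b.support, ∀ j, P.root j ≠ (2 : ℤ) • P.root a := by
    intro a ha j hj
    have h := coroot_of_double hj
    have h1 := hΔ'.co_zsmul (j := j) (k := a) (m := 2) h.symm
    rw [hΔ'.co_simple (i := a) ha] at h1
    have := congrFun h1 a
    simp at this
    omega
  intro j hj
  rw [two_smul_root] at hj
  have key : ∀ j k : ι, P.root k = (2 : ℤ) • P.root j → k ∈ posOf P (b.support : Set ι) → False := by
    intro j k hjk hk
    obtain ⟨g, -, a, ha, -, h⟩ := hΔ.exists_gen_smul (Δ' := (b.support : Set ι)) hk fun x hx =>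
      by_contra fun hx' => hx.ne' (hΔ.co_supp hx')
    rcases h with h | h
    · subst h
      have e : P.root a = (2 : ℤ) • P.root (g⁻¹ • j) := by
        have := smul_two_root g⁻¹ hjk
        rwa [inv_smul_smul] at this
      rcases hΔ.smul_eq ha e with hh | hh <;> norm_num at hh
    · have := smul_two_root g⁻¹ h
      rw [inv_smul_smul] at this
      exact simple_case a ha _ this
  by_cases hk : k ∈ posOf P (b.support : Set ι)
  · exact key j k hj.symm hk
  · refine key (P.reflectionPerm j j) (P.reflectionPerm k k) ?_ (hΔ.neg_mem_posOf_iff.mpr hk)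
    rw [root_neg, root_neg, ← hj, smul_neg]

variable {Δ : Set ι} (hΔ : Simple P Δ) (hind : ∀ i, IsIndiv P i) {a b : ι} (ha : a ∈ Δ) (hb : b ∈ Δ) (hne : a ≠ b)

include hΔ hind ha hb hne in
/-- Coefficients of the positive roots supported in a pair of simple roots stay in any set of pairs
which contains the two simple roots and is closed under the two reflections. -/
theorem co_mem_of_closed (S : Set (ℤ × ℤ)) (h10 : (1, 0) ∈ S) (h01 : (0, 1) ∈ S)
    (hcla : ∀ i j, (i, j) ∈ S → i < -i - nn P b a * j → (-i - nn P b a * j, j) ∈ S)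
    (hclb : ∀ i j, (i, j) ∈ S → j < -j - nn P a b * i → (i, -j - nn P a b * i) ∈ S) :
    ∀ k ∈ posOf P Δ, (∀ x, x ≠ a → x ≠ b → hΔ.co k x = 0) → (hΔ.co k a, hΔ.co k b) ∈ S := by
  classical
  intro k
  induction hn : (hΔ.ht k).toNat using Nat.strong_induction_on generalizing k with
  | _ n ih =>
    intro hk hsupp
    by_cases hne' : ∀ x ∈ Δ, ∃ y, y ≠ x ∧ hΔ.co k y ≠ 0
    · obtain ⟨c, hc, hcpos, hpos, hlt⟩ := hΔ.descend hk hne'
      have hcab : c = a ∨ c = b := by
        by_contra h; push Not at h; rw [hsupp c h.1 h.2] at hcpos; omega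
      set k' := P.reflectionPerm c k with hk'
      have hsupp' : ∀ x, x ≠ a → x ≠ b → hΔ.co k' x = 0 := by
        intro x hx hx'
        have hxc : x ≠ c := by rcases hcab with rfl | rfl <;> assumption
        rw [hk', hΔ.co_refl hc, Pi.sub_apply, hsupp x hx hx', Pi.single_eq_of_ne hxc, sub_zero]
      have hmem := ih _ (by have := hΔ.ht_pos hpos; have := hΔ.ht_pos hk; omega) k' rfl hpos hsupp'
      have hback : P.reflectionPerm c k' = k := P.reflectionPerm_self c k
      have hco : hΔ.co k = hΔ.co k' - Pi.single c (nn P k' c) := by rw [← hback, hΔ.co_refl hc]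
      have hnn : ∀ x, nn P k' x = hΔ.co k' a * nn P a x + hΔ.co k' b * nn P b x := by
        intro x
        rw [hΔ.nn_eq k' x, ← Finset.sum_subset (Finset.subset_univ {a, b}), Finset.sum_pair hne]
        intro y _ hy
        simp only [Finset.mem_insert, Finset.mem_singleton, not_or] at hy
        rw [hsupp' y hy.1 hy.2, zero_mul]
      have hht : ∀ m, hΔ.ht m = ∑ x, hΔ.co m x := fun m => rfl
      have hlt' : hΔ.co k' c < hΔ.co k c := by
        have h1 : hΔ.ht k = hΔ.ht k' - nn P k' c := by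
          simp only [hht, hco, Pi.sub_apply, Finset.sum_sub_distrib]; simp
        rw [hco, Pi.sub_apply, Pi.single_eq_same]
        omega
      rcases hcab with rfl | rfl
      · have e1 : hΔ.co k c = -hΔ.co k' c - nn P b c * hΔ.co k' b := by
          rw [hco, Pi.sub_apply, Pi.single_eq_same, hnn, nn_self]; ring
        have e2 : hΔ.co k b = hΔ.co k' b := by
          rw [hco, Pi.sub_apply, Pi.single_eq_of_ne hne.symm, sub_zero]
        rw [e1, e2]
        exact hcla _ _ hmem (by omega)
      · have e1 : hΔ.co k c = -hΔ.co k' c - nn P a c * hΔ.co k' a := by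
          rw [hco, Pi.sub_apply, Pi.single_eq_same, hnn, nn_self]; ring
        have e2 : hΔ.co k a = hΔ.co k' a := by
          rw [hco, Pi.sub_apply, Pi.single_eq_of_ne hne, sub_zero]
        rw [e1, e2]
        exact hclb _ _ hmem (by omega)
    · push Not at hne'
      obtain ⟨c, hc, h0⟩ := hne'
      obtain rfl := hΔ.eq_of_pos_multiple hc hk (hind k) h0
      rw [hΔ.co_simple hc]
      by_cases hka : k = a
      · subst hka; simpa [hne.symm] using h10
      · by_cases hkb : k = b
        · subst hkb; simpa [hne] using h01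
        · have := hsupp k hka hkb
          rw [hΔ.co_simple hc] at this
          simp at this

include hΔ hind ha hb hne in
theorem comb_mem_of_closed (S : Set (ℤ × ℤ)) (h10 : (1, 0) ∈ S) (h01 : (0, 1) ∈ S)
    (hcla : ∀ i j, (i, j) ∈ S → i < -i - nn P b a * j → (-i - nn P b a * j, j) ∈ S)
    (hclb : ∀ i j, (i, j) ∈ S → j < -j - nn P a b * i → (i, -j - nn P a b * i) ∈ S)
    {k : ι} {i j : ℤ} (hk : P.root k = i • P.root a + j • P.root b) : (i, j) ∈ S ∨ (-i, -j) ∈ S := by
  classical
  have key : ∀ (k : ι) (i j : ℤ), P.root k = i • P.root a + j • P.root b → k ∈ posOf P Δ → (i, j) ∈ S := by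
    intro k i j hk hpos
    have hco : hΔ.co k = Pi.single a i + Pi.single b j := by
      refine hΔ.co_unique (fun x hx => ?_) ?_
      · rw [Pi.add_apply, Pi.single_eq_of_ne (fun e => hx (by rw [e]; exact ha)),
          Pi.single_eq_of_ne (fun e => hx (by rw [e]; exact hb)), add_zero]
      · rw [comb_add, comb_single, comb_single, hk]
    have := co_mem_of_closed hΔ hind ha hb hne S h10 h01 hcla hclb k hpos (fun x hx hx' => by
      rw [hco]; simp [hx, hx'])
    simpa [hco, hne, hne.symm] using this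
  by_cases hpos : k ∈ posOf P Δ
  · exact .inl (key k i j hk hpos)
  · refine .inr (key (P.reflectionPerm k k) (-i) (-j) ?_ (hΔ.neg_mem_posOf_iff.mpr hpos))
    rw [root_neg, hk, neg_smul, neg_smul, neg_add]

/-- Coefficients of the positive roots of type `A₁ × A₁`. -/
def setA1A1 : Set (ℤ × ℤ) := {(1, 0), (0, 1)}

/-- Coefficients of the positive roots of type `A₂`. -/
def setA2 : Set (ℤ × ℤ) := {(1, 0), (0, 1), (1, 1)}

/-- Coefficients of the positive roots of type `B₂`, the first root short. -/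
def setB2 : Set (ℤ × ℤ) := {(1, 0), (0, 1), (1, 1), (2, 1)}

/-- Coefficients of the positive roots of type `G₂`, the first root short. -/
def setG2 : Set (ℤ × ℤ) := {(1, 0), (0, 1), (1, 1), (2, 1), (3, 1), (3, 2)}

include hΔ hind ha hb hne in
theorem roots_A1A1 (h1 : nn P b a = 0) (h2 : nn P a b = 0) {k : ι} {i j : ℤ}
    (hk : P.root k = i • P.root a + j • P.root b) : (i, j) ∈ setA1A1 ∨ (-i, -j) ∈ setA1A1 := by
  refine comb_mem_of_closed hΔ hind ha hb hne _ (by simp [setA1A1]) (by simp [setA1A1]) ?_ ?_ hk <;>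
  · intro i j h hl
    simp only [h1, h2, setA1A1, Set.mem_insert_iff, Set.mem_singleton_iff, Prod.mk.injEq] at h hl ⊢
    rcases h with ⟨rfl, rfl⟩ | ⟨rfl, rfl⟩ <;> omega

include hΔ hind ha hb hne in
theorem roots_A2 (h1 : nn P b a = -1) (h2 : nn P a b = -1) {k : ι} {i j : ℤ}
    (hk : P.root k = i • P.root a + j • P.root b) : (i, j) ∈ setA2 ∨ (-i, -j) ∈ setA2 := by
  refine comb_mem_of_closed hΔ hind ha hb hne _ (by simp [setA2]) (by simp [setA2]) ?_ ?_ hk <;>
  · intro i j h hl
    simp only [h1, h2, setA2, Set.mem_insert_iff, Set.mem_singleton_iff, Prod.mk.injEq] at h hl ⊢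
    rcases h with ⟨rfl, rfl⟩ | ⟨rfl, rfl⟩ | ⟨rfl, rfl⟩ <;> omega

include hΔ hind ha hb hne in
theorem roots_B2 (h1 : nn P b a = -2) (h2 : nn P a b = -1) {k : ι} {i j : ℤ}
    (hk : P.root k = i • P.root a + j • P.root b) : (i, j) ∈ setB2 ∨ (-i, -j) ∈ setB2 := by
  refine comb_mem_of_closed hΔ hind ha hb hne _ (by simp [setB2]) (by simp [setB2]) ?_ ?_ hk <;>
  · intro i j h hl
    simp only [h1, h2, setB2, Set.mem_insert_iff, Set.mem_singleton_iff, Prod.mk.injEq] at h hl ⊢
    rcases h with ⟨rfl, rfl⟩ | ⟨rfl, rfl⟩ | ⟨rfl, rfl⟩ | ⟨rfl, rfl⟩ <;> omega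

include hΔ hind ha hb hne in
theorem roots_G2 (h1 : nn P b a = -3) (h2 : nn P a b = -1) {k : ι} {i j : ℤ}
    (hk : P.root k = i • P.root a + j • P.root b) : (i, j) ∈ setG2 ∨ (-i, -j) ∈ setG2 := by
  refine comb_mem_of_closed hΔ hind ha hb hne _ (by simp [setG2]) (by simp [setG2]) ?_ ?_ hk <;>
  · intro i j h hl
    simp only [h1, h2, setG2, Set.mem_insert_iff, Set.mem_singleton_iff, Prod.mk.injEq] at h hl ⊢
    rcases h with ⟨rfl, rfl⟩ | ⟨rfl, rfl⟩ | ⟨rfl, rfl⟩ | ⟨rfl, rfl⟩ | ⟨rfl, rfl⟩ | ⟨rfl, rfl⟩ <;> omega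

end Groth.Agent.Red23Lib.Pinned
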