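import Groth.Prelude.Def_RedSub
import Mathlib.Data.List.OfFn

/-!
# Tuples of points of iterated products
-/

set_option autoImplicit false

universe u

open CategoryTheory MonoidalCategory CartesianMonoidalCategory AlgebraicGeometry
open scoped MonObj

noncomputable section

namespace Groth.Agent.Red23Lib.Pinned

variable {S : Scheme.{u}} {G X Y A : Over S}

/-- The point of `A^n` with given components. -/
def tuple : ∀ {n : ℕ}, (Fin n → (X ⟶ A)) → (X ⟶ RedSub.pow A n)
  | 0, _ => toUnit X
  | _ + 1, f => lift (f 0) (tuple fun k => f k.succ)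

/-- The projections of `A^n`. -/
def proj (A : Over S) : ∀ {n : ℕ}, Fin n → (RedSub.pow A n ⟶ A)
  | _ + 1, k => Fin.cases (fst _ _) (fun i => snd _ _ ≫ proj A i) k

theorem tuple_proj : ∀ {n : ℕ} (f : Fin n → (X ⟶ A)) (k : Fin n), tuple f ≫ proj A k = f k
  | _ + 1, f, k => by
    induction k using Fin.cases with
    | zero => exact lift_fst _ _
    | succ i =>
      show lift _ _ ≫ snd _ _ ≫ proj A i = _
      rw [lift_snd_assoc, tuple_proj]

theorem tuple_ext : ∀ {n : ℕ} {p q : X ⟶ RedSub.pow A n}, (∀ k, p ≫ proj A k = q ≫ proj A k) → p = q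
  | 0, p, q, _ => toUnit_unique p q
  | n + 1, p, q, h => by
    refine CartesianMonoidalCategory.hom_ext _ _ ?_ (tuple_ext fun k => ?_)
    · exact h 0
    · exact (Category.assoc _ _ _).trans ((h k.succ).trans (Category.assoc _ _ _).symm)

theorem tuple_eta {n : ℕ} (p : X ⟶ RedSub.pow A n) : tuple (fun k => p ≫ proj A k) = p :=
  tuple_ext fun k => tuple_proj _ k

theorem comp_tuple {n : ℕ} (g : Y ⟶ X) (f : Fin n → (X ⟶ A)) : g ≫ tuple f = tuple fun k => g ≫ f k :=
  tuple_ext fun k => by rw [Category.assoc, tuple_proj, tuple_proj]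

variable [GrpObj G]

theorem tuple_prodMap : ∀ {n : ℕ} (f : Fin n → (X ⟶ A)) (u : Fin n → (A ⟶ G)),
    tuple f ≫ RedSub.prodMap A n u = (List.ofFn fun k => f k ≫ u k).prod
  | 0, f, u => by
    rw [List.ofFn_zero, List.prod_nil]
    exact MonObj.comp_one _
  | n + 1, f, u => by
    rw [List.ofFn_succ, List.prod_cons, ← tuple_prodMap (fun k => f k.succ) fun k => u k.succ]
    show lift _ _ ≫ (fst _ _ ≫ _ * (snd _ _ ≫ _)) = _
    rw [MonObj.comp_mul, lift_fst_assoc, lift_snd_assoc]

end Groth.Agent.Red23Lib.Pinned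

end
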