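import Groth.Agent.Red23Lib.Pinned.Cell
import Groth.Agent.Red23Lib.Pinned.RootsTwo
import Groth.Agent.RootData.Dominant

/-!
# Consequences of the big cell for root homomorphisms of positive roots
-/

set_option autoImplicit false
set_option linter.style.haveILetI false

universe u

open CategoryTheory CategoryTheory.Limits AlgebraicGeometry MonoidalCategory CartesianMonoidalCategory
open Groth.Agent.GrpSchLib
open scoped MonObj

noncomputable section

namespace Groth.Agent.Red23Lib.Pinned

section RootDatum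

variable {κ M N : Type*} [AddCommGroup M] [AddCommGroup N] [Fintype κ] {P : RootPairing κ ℤ M N}

open Groth.Agent.RootData RootD

/-- A cocharacter positive on the simple roots. -/
theorem exists_pos_base (b : P.Base) : ∃ x : N, ∀ a ∈ b.support, 0 < P.root' a x := by
  obtain ⟨x, hx⟩ := exists_regular (P := P.flip) (Simple.of_base b.flip).posOf_isPosSys
  exact ⟨x, fun a ha => hx a ((Simple.of_base b.flip).subset_posOf ha)⟩

end RootDatum

variable {S : Scheme.{u}} {G : Over S} [GrpObj G] {D : Red.SplitRed G} (b : D.P.Base)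

theorem mem_posRoots_of_mem {a : D.idx} (ha : a ∈ b.support) : a ∈ RedSub.posRoots D.P b :=
  AddSubmonoid.subset_closure ⟨a, ha, rfl⟩

theorem mem_posRoots_of_comb {a c e : D.idx} (ha : a ∈ RedSub.posRoots D.P b) (hc : c ∈ RedSub.posRoots D.P b)
    {p q : ℕ} (h : D.P.root e = p • D.P.root a + q • D.P.root c) : e ∈ RedSub.posRoots D.P b := by
  show D.P.root e ∈ AddSubmonoid.closure (D.P.root '' (b.support : Set D.idx))
  rw [h]
  exact add_mem (AddSubmonoid.nsmul_mem _ ha p) (AddSubmonoid.nsmul_mem _ hc q)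

/-- A cocharacter positive on the positive and negative on the negative roots. -/
theorem exists_cochar : ∃ l : D.M →+ ℤ, (∀ k ∈ RedSub.posRoots D.P b, 0 < l (D.P.root k)) ∧
    ∀ k ∈ RedSub.negRoots D.P b, l (D.P.root k) < 0 := by
  obtain ⟨x, hx⟩ := exists_pos_base b
  have hval : ∀ a, D.P.root' a x = x (D.P.root a) := fun a => by
    show D.P.toLinearMap (D.P.root a) x = _
    rw [D.pairing_eq]
    rfl
  let l : D.M →+ ℤ := LinearMap.toAddMonoidHom x
  have key : ∀ y ∈ AddSubmonoid.closure (D.P.root '' (b.support : Set D.idx)), y = 0 ∨ 0 < l y := by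
    intro y hy
    induction hy using AddSubmonoid.closure_induction with
    | mem z hz =>
      obtain ⟨a, ha, rfl⟩ := hz
      exact .inr (lt_of_lt_of_eq (hx a ha) (hval a))
    | zero => exact .inl rfl
    | add y z _ _ hy hz =>
      rcases hy with rfl | hy
      · simpa using hz
      · rcases hz with rfl | hz
        · simpa using Or.inr hy
        · exact .inr (by rw [map_add]; omega)
  refine ⟨l, fun k hk => (key _ hk).resolve_left (D.P.ne_zero k), fun k hk => ?_⟩
  have h := (key _ hk).resolve_left (neg_ne_zero.2 (D.P.ne_zero k))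
  rw [map_neg] at h
  omega

/-- A list of positive roots starts an enumeration of all of them. -/
theorem exists_enum {r : ℕ} (e : Fin r → D.idx) (he : Function.Injective e)
    (hp : ∀ k, e k ∈ RedSub.posRoots D.P b) :
    ∃ (n r' : ℕ) (eneg : Fin n → D.idx) (e' : Fin r' → D.idx),
      RedSub.Enumerates (RedSub.negRoots D.P b) eneg ∧ RedSub.Enumerates (RedSub.posRoots D.P b) (Fin.append e e') := by
  classical
  let Rn := Finset.univ.filter (· ∈ RedSub.negRoots D.P b)
  let Rp := Finset.univ.filter (fun k => k ∈ RedSub.posRoots D.P b ∧ k ∉ Set.range e)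
  refine ⟨Rn.card, Rp.card, fun k => (Rn.equivFin.symm k : D.idx), fun k => (Rp.equivFin.symm k : D.idx),
    ⟨fun i j h => Rn.equivFin.symm.injective (Subtype.ext h), ?_⟩, ?_, ?_⟩
  · ext k
    constructor
    · rintro ⟨i, rfl⟩
      exact (Finset.mem_filter.1 (Rn.equivFin.symm i).2).2
    · intro hk
      exact ⟨Rn.equivFin ⟨k, Finset.mem_filter.2 ⟨Finset.mem_univ _, hk⟩⟩, by simp⟩
  · rw [Fin.append_injective_iff]
    refine ⟨he, fun i j h => Rp.equivFin.symm.injective (Subtype.ext h), ?_⟩
    intro i j h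
    exact (Finset.mem_filter.1 (Rp.equivFin.symm j).2).2.2 ⟨i, h⟩
  · ext k
    constructor
    · rintro ⟨i, rfl⟩
      induction i using Fin.addCases with
      | left i => rw [Fin.append_left]; exact hp i
      | right i => rw [Fin.append_right]; exact (Finset.mem_filter.1 (Rp.equivFin.symm i).2).2.1
    · intro hk
      by_cases h : k ∈ Set.range e
      · obtain ⟨i, rfl⟩ := h
        exact ⟨Fin.castAdd _ i, Fin.append_left _ _ i⟩
      · exact ⟨Fin.natAdd _ (Rp.equivFin ⟨k, Finset.mem_filter.2 ⟨Finset.mem_univ _, hk, h⟩⟩),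
          (Fin.append_right _ _ _).trans (by simp)⟩

theorem prod_up_append {X : Over S} {r r' : ℕ} (e : Fin r → D.idx) (e' : Fin r' → D.idx)
    (x : Fin r → Γ(X.left, ⊤)) (x' : Fin r' → Γ(X.left, ⊤)) :
    (List.ofFn fun k => up D (Fin.append e e' k) (Fin.append x x' k)).prod =
      (List.ofFn fun k => up D (e k) (x k)).prod * (List.ofFn fun k => up D (e' k) (x' k)).prod := by
  rw [← List.prod_append, ← List.ofFn_fin_append]
  congr 2
  funext k
  induction k using Fin.addCases with
  | left i => simp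
  | right i => simp

variable {b} (hax : CellAx D b)

include hax

/-- Ordered products over distinct positive roots determine their coordinates. -/
theorem prod_up_inj {r : ℕ} (e : Fin r → D.idx) (he : Function.Injective e)
    (hp : ∀ k, e k ∈ RedSub.posRoots D.P b) {X : Over S} {x x' : Fin r → Γ(X.left, ⊤)}
    (h : (List.ofFn fun k => up D (e k) (x k)).prod = (List.ofFn fun k => up D (e k) (x' k)).prod) : x = x' := by
  obtain ⟨n, r', eneg, e', hn, hep⟩ := exists_enum b e he hp
  have h1 : cellPt D eneg (Fin.append e e') (0 : Fin n → Γ(X.left, ⊤)) 1 (Fin.append x 0) =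
      cellPt D eneg (Fin.append e e') 0 1 (Fin.append x' 0) := by
    rw [cellPt, cellPt, prod_up_append, prod_up_append, h]
  have h2 := (cellPt_inj D (hax _ _ _ _ hn hep) h1).2.2
  funext k
  simpa using congrFun h2 (Fin.castAdd r' k)

/-- A family equivariant for positive weights is a product of monomials in any list of positive roots containing
all roots of weights occurring. -/
theorem exists_monomials {r : ℕ} (e : Fin r → D.idx) (he : Function.Injective e)
    (hp : ∀ k, e k ∈ RedSub.posRoots D.P b) {κ : Type} [Fintype κ] {w : κ → D.M} (F : EqFam D κ w)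
    (l : D.M →+ ℤ) (hl : ∀ k, 0 < l (w k)) (hneg : ∀ k ∈ RedSub.negRoots D.P b, l (D.P.root k) < 0)
    (d : Fin r → κ → ℕ) (hd : ∀ k (f : κ → ℕ), NatFn.wt w f = D.P.root (e k) → f = d k)
    (hall : ∀ k ∈ RedSub.posRoots D.P b, (∃ f : κ → ℕ, NatFn.wt w f = D.P.root k) → k ∈ Set.range e) :
    ∃ C : Fin r → Γ((𝟙_ (Over S)).left, ⊤), ∀ (X : Over S) (x : κ → Γ(X.left, ⊤)),
      F.toFun X x = (List.ofFn fun k => up D (e k) ((toUnit X).left.appTop (C k) * ∏ j, x j ^ d k j)).prod := by
  obtain ⟨n, r', eneg, e', hn, hep⟩ := exists_enum b e he hp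
  have hpe : ∀ k, Fin.append e e' k ∈ RedSub.posRoots D.P b := fun k => hep.2 ▸ ⟨k, rfl⟩
  obtain ⟨Φ, hΦ, hF⟩ := F.exists_coeff (hax _ _ _ _ hn hep) l hl fun k => hneg _ (hn.2 ▸ ⟨k, rfl⟩)
  have h' : ∀ (k : Fin r') (X : Over S) (x : κ → Γ(X.left, ⊤)), (Φ (Fin.natAdd r k)).toFun X x = 0 := by
    intro k
    refine (hΦ _).eq_zero fun f hf => ?_
    obtain ⟨i, hi⟩ := hall _ (hpe (Fin.natAdd r k)) ⟨f, hf⟩
    have := hep.1 (((Fin.append_left e e' i).trans hi))
    simp [Fin.ext_iff] at this
    omega
  refine ⟨fun k => (Φ (Fin.castAdd r' k)).toFun _ fun _ => 1, fun X x => ?_⟩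
  have hx : (fun k => (Φ k).toFun X x) =
      Fin.append (fun k => (toUnit X).left.appTop ((Φ (Fin.castAdd r' k)).toFun _ fun _ => 1) * ∏ j, x j ^ d k j)
        (0 : Fin r' → Γ(X.left, ⊤)) := by
    funext k
    induction k using Fin.addCases with
    | left i =>
      rw [Fin.append_left, ← (Φ (Fin.castAdd r' i)).natural, map_one]
      refine (hΦ _).eq_mono (d i) (fun f hf => hd i f ?_) X x
      rw [hf, Fin.append_left]
    | right i => rw [Fin.append_right, h' i X x]; rfl
  refine (hF X x).trans ?_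
  rw [show (fun k => up D (Fin.append e e' k) ((Φ k).toFun X x)) = fun k =>
    up D (Fin.append e e' k) ((fun k => (Φ k).toFun X x) k) from rfl, hx, prod_up_append]
  conv_rhs => rw [← mul_one (List.prod _)]
  congr 1
  refine List.prod_eq_one fun g hg => ?_
  obtain ⟨k, rfl⟩ := (List.mem_ofFn).1 hg
  exact up_zero D _

/-- A homomorphism from the line of positive weight is a multiple of the root homomorphism. -/
theorem exists_scale {c : D.idx} (hc : c ∈ RedSub.posRoots D.P b)
    (v : ∀ X : Over S, Γ(X.left, ⊤) → (X ⟶ G))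
    (hnat : ∀ {X Y : Over S} (g : Y ⟶ X) (x : Γ(X.left, ⊤)), v Y (g.left.appTop x) = g ≫ v X x)
    (hzero : ∀ X : Over S, v X 0 = 1)
    (hconj : ∀ (X : Over S) (t : X ⟶ D.T) (x : Γ(X.left, ⊤)),
      v X ((ch D t (D.P.root c) : Γ(X.left, ⊤)) * x) = (t ≫ D.i) * v X x * (t ≫ D.i)⁻¹) :
    ∃ C : Γ((𝟙_ (Over S)).left, ⊤), ∀ (X : Over S) (x : Γ(X.left, ⊤)),
      v X x = up D c ((toUnit X).left.appTop C * x) := by
  classical
  obtain ⟨l, hlp, hln⟩ := exists_cochar b
  let F : EqFam D (Fin 1) (fun _ => D.P.root c) :=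
    ⟨fun X x => v X (x 0), fun g x => hnat g _, fun X => hzero X, fun X t x => hconj X t _⟩
  have hwt : ∀ f : Fin 1 → ℕ, NatFn.wt (fun _ : Fin 1 => D.P.root c) f = f 0 • D.P.root c := fun f => by
    simp [NatFn.wt]
  have hd : ∀ (f : Fin 1 → ℕ), NatFn.wt (fun _ : Fin 1 => D.P.root c) f = D.P.root c → f = fun _ => 1 := by
    intro f hf
    funext j
    rw [hwt] at hf
    have h1 := congrArg l hf
    rw [map_nsmul, nsmul_eq_mul] at h1
    have := hlp c hc
    rw [Fin.fin_one_eq_zero j]
    have : (f 0 : ℤ) = 1 := mul_right_cancel₀ this.ne' (h1.trans (_root_.one_mul _).symm)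
    exact_mod_cast this
  have hall : ∀ k ∈ RedSub.posRoots D.P b, (∃ f : Fin 1 → ℕ, NatFn.wt (fun _ : Fin 1 => D.P.root c) f = D.P.root k) →
      k ∈ Set.range fun _ : Fin 1 => c := by
    intro k _ hk
    obtain ⟨f, hf⟩ := hk
    rw [hwt] at hf
    have h1 : (f 0 : ℤ) • D.P.root c = (1 : ℤ) • D.P.root k := by rw [natCast_zsmul, hf, one_smul]
    have hi := fun j => isIndiv_of_base b j
    have hpc := hlp c hc
    have hl : 0 ≤ l (D.P.root k) := by
      rw [← hf, map_nsmul]
      exact smul_nonneg (Nat.zero_le _) hpc.le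
    refine ⟨0, D.P.root.injective ?_⟩
    rcases Groth.Agent.RootData.proportional_cases (P := D.P) one_ne_zero h1 with e | e | e | e | e | e
    · exact e.symm
    · rw [e, map_neg] at hl; omega
    · exact absurd e.symm (hi k c)
    · rw [e, map_zsmul, smul_eq_mul] at hl; omega
    · exact absurd e.symm (hi c k)
    · rw [e, map_zsmul, smul_eq_mul] at hpc; omega
  obtain ⟨C, hC⟩ := exists_monomials hax (fun _ : Fin 1 => c) (Function.injective_of_subsingleton _) (fun _ => hc)
    F l (fun _ => hlp c hc) hln (fun _ _ => 1) (fun _ f hf => hd f hf) hall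
  exact ⟨C 0, fun X x => (hC X fun _ => x).trans (by simp)⟩

/-- The commutator formula for two positive roots. -/
theorem exists_commutator {α β : D.idx} (hα : α ∈ RedSub.posRoots D.P b) (hβ : β ∈ RedSub.posRoots D.P b)
    (hind : ∀ i j : ℤ, i • D.P.root α + j • D.P.root β = 0 → i = 0 ∧ j = 0)
    {r : ℕ} (e : Fin r → D.idx) (p q : Fin r → ℕ) (he : Function.Injective e)
    (hpq : ∀ k, 0 < p k ∧ 0 < q k ∧ D.P.root (e k) = p k • D.P.root α + q k • D.P.root β)
    (hall : ∀ (c : D.idx) (i j : ℕ), 0 < i → 0 < j → D.P.root c = i • D.P.root α + j • D.P.root β →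
      c ∈ Set.range e) :
    ∃ C : Fin r → Γ((𝟙_ (Over S)).left, ⊤), ∀ (X : Over S) (x y : Γ(X.left, ⊤)),
      up D α x * up D β y * (up D α x)⁻¹ =
        up D β y * (List.ofFn fun k => up D (e k) ((toUnit X).left.appTop (C k) * x ^ p k * y ^ q k)).prod := by
  classical
  obtain ⟨l, hlp, hln⟩ := exists_cochar b
  have hla := hlp α hα
  have hlb := hlp β hβ
  let w : Fin 2 → D.M := ![D.P.root α, D.P.root β]
  have hwt : ∀ f : Fin 2 → ℕ, NatFn.wt w f = f 0 • D.P.root α + f 1 • D.P.root β := fun f => by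
    simp [NatFn.wt, w, Fin.sum_univ_two]
  have huniq : ∀ f g : Fin 2 → ℕ, NatFn.wt w f = NatFn.wt w g → f = g := by
    intro f g h
    rw [hwt, hwt] at h
    obtain ⟨h0, h1⟩ := hind ((f 0 : ℤ) - g 0) ((f 1 : ℤ) - g 1) (by
      simp only [sub_smul, natCast_zsmul]
      linear_combination (norm := abel) h)
    funext i
    fin_cases i
    · exact_mod_cast sub_eq_zero.1 h0
    · exact_mod_cast sub_eq_zero.1 h1
  let F : EqFam D (Fin 2) w :=
    { toFun := fun X x => up D α (x 0) * up D β (x 1) * (up D α (x 0))⁻¹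
      natural := fun g x => by simp only [MonObj.comp_mul, GrpObj.comp_inv, comp_up]
      zero := fun X => by simp [up_zero]
      equiv := fun X t x => by
        show up D α ((ch D t (D.P.root α) : Γ(X.left, ⊤)) * x 0) * up D β ((ch D t (D.P.root β) : Γ(X.left, ⊤)) * x 1) *
          (up D α ((ch D t (D.P.root α) : Γ(X.left, ⊤)) * x 0))⁻¹ = _
        rw [← conj_up, ← conj_up]
        group }
  let d₀ : Fin 2 → ℕ := ![0, 1]
  have he' : Function.Injective (Fin.cons β e : Fin (r + 1) → D.idx) := by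
    refine Fin.cons_injective_iff.2 ⟨?_, he⟩
    rintro ⟨k, hk⟩
    have := huniq ![p k, q k] d₀ (by rw [hwt, hwt]; simpa [d₀, hk] using (hpq k).2.2.symm)
    have h0 := congrFun this 0
    simp [d₀] at h0
    exact (hpq k).1.ne' h0
  let d : Fin (r + 1) → Fin 2 → ℕ := Fin.cons d₀ fun k => ![p k, q k]
  have hd : ∀ k, NatFn.wt w (d k) = D.P.root ((Fin.cons β e : Fin (r + 1) → D.idx) k) := by
    intro k
    induction k using Fin.cases with
    | zero => simp [d, d₀, hwt]
    | succ k => simp [d, hwt, (hpq k).2.2]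
  have hzero : ∀ k : D.idx, (∃ n : ℕ, n • D.P.root β = D.P.root k ∨ n • D.P.root α = D.P.root k) →
      k = β ∨ k = α := by
    rintro k ⟨n, hn⟩
    have key : ∀ c, 0 < l (D.P.root c) → n • D.P.root c = D.P.root k → k = c := by
      intro c hpc hf
      have h1 : (n : ℤ) • D.P.root c = (1 : ℤ) • D.P.root k := by rw [natCast_zsmul, hf, one_smul]
      have hl : 0 ≤ l (D.P.root k) := by
        rw [← hf, map_nsmul]
        exact smul_nonneg (Nat.zero_le _) hpc.le
      apply D.P.root.injective
      rcases Groth.Agent.RootData.proportional_cases (P := D.P) one_ne_zero h1 with e | e | e | e | e | e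
      · exact e
      · rw [e, map_neg] at hl; omega
      · exact absurd e.symm (isIndiv_of_base b k c)
      · rw [e, map_zsmul, smul_eq_mul] at hl; omega
      · exact absurd e.symm (isIndiv_of_base b c k)
      · rw [e, map_zsmul, smul_eq_mul] at hpc; omega
    exact hn.imp (key β hlb) (key α hla)
  have hpos : ∀ k, (Fin.cons β e : Fin (r + 1) → D.idx) k ∈ RedSub.posRoots D.P b := Fin.cases hβ fun k => by
    rw [Fin.cons_succ]
    exact mem_posRoots_of_comb b hα hβ (hpq k).2.2
  by_cases hαe : α ∈ Set.range (Fin.cons β e : Fin (r + 1) → D.idx)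
  · obtain ⟨k, hk⟩ := hαe
    have hα' := huniq (d k) ![1, 0] (by rw [hd, hk, hwt]; simp)
    induction k using Fin.cases with
    | zero => simp [d, d₀] at hα'
    | succ k =>
      have := congrFun hα' 1
      simp [d] at this
      exact absurd this (hpq k).2.1.ne'
  · -- add `α` at the end of the list; its coefficient vanishes
    let e₂ : Fin (r + 1 + 1) → D.idx := Fin.snoc (Fin.cons β e) α
    let d₂ : Fin (r + 1 + 1) → Fin 2 → ℕ := Fin.snoc d ![1, 0]
    have hd₂ : ∀ k, NatFn.wt w (d₂ k) = D.P.root (e₂ k) := by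
      intro k
      induction k using Fin.lastCases with
      | last => simp [e₂, d₂, hwt]
      | cast k => simp only [e₂, d₂, Fin.snoc_castSucc]; exact hd k
    obtain ⟨C, hC⟩ := exists_monomials hax e₂ (Fin.snoc_injective_iff.2 ⟨he', hαe⟩)
      (Fin.lastCases (by simpa [e₂] using hα) fun k => by simpa [e₂] using hpos k)
      F l (Fin.forall_fin_two.2 ⟨hla, hlb⟩) hln d₂ (fun k f hf => huniq f _ (hf.trans (hd₂ k).symm))
      (fun c _ ⟨f, hf⟩ => by
        rw [hwt] at hf
        rcases Nat.eq_zero_or_pos (f 0) with h0 | h0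
        · rw [h0, zero_smul, zero_add] at hf
          rcases hzero c ⟨_, .inl hf⟩ with rfl | rfl
          · exact ⟨Fin.castSucc 0, by simp [e₂]⟩
          · exact ⟨Fin.last _, by simp [e₂]⟩
        · rcases Nat.eq_zero_or_pos (f 1) with h1 | h1
          · rw [h1, zero_smul, add_zero] at hf
            rcases hzero c ⟨_, .inr hf⟩ with rfl | rfl
            · exact ⟨Fin.castSucc 0, by simp [e₂]⟩
            · exact ⟨Fin.last _, by simp [e₂]⟩
          · obtain ⟨k, hk⟩ := hall c _ _ h0 h1 hf.symm
            exact ⟨Fin.castSucc k.succ, (Fin.snoc_castSucc _ _ _).trans ((Fin.cons_succ _ _ _).trans hk)⟩)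
    let c : Fin (r + 1 + 1) → ∀ X : Over S, Γ(X.left, ⊤) := fun k X => (toUnit X).left.appTop (C k)
    have hexp : ∀ (X : Over S) (x y : Γ(X.left, ⊤)), up D α x * up D β y * (up D α x)⁻¹ =
        up D β (c (Fin.castSucc 0) X * y) * (List.ofFn fun k => up D (e k)
          (c (Fin.castSucc k.succ) X * x ^ p k * y ^ q k)).prod * up D α (c (Fin.last _) X * x) := by
      intro X x y
      refine (hC X ![x, y]).trans ?_
      rw [List.ofFn_succ', List.concat_eq_append, List.prod_append, List.prod_singleton, List.ofFn_succ,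
        List.prod_cons]
      simp only [c, e₂, d₂, d, d₀, Fin.snoc_castSucc, Fin.snoc_last, Fin.cons_zero, Fin.cons_succ, Fin.prod_univ_two,
        Matrix.cons_val_zero, Matrix.cons_val_one, pow_zero, pow_one, one_mul, mul_one, mul_assoc]
    have hinj := fun (X : Over S) (x x' : Fin 2 → Γ(X.left, ⊤))
        (h : up D β (x 0) * up D α (x 1) = up D β (x' 0) * up D α (x' 1)) =>
      prod_up_inj hax ![β, α] (Fin.forall_fin_two.2
        ⟨Fin.forall_fin_two.2 ⟨fun _ => rfl, fun hij => absurd ⟨0, by rw [Fin.cons_zero]; exact hij⟩ hαe⟩,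
          Fin.forall_fin_two.2 ⟨fun hij => absurd ⟨0, by rw [Fin.cons_zero]; exact hij.symm⟩ hαe, fun _ => rfl⟩⟩) (Fin.forall_fin_two.2 ⟨hβ, hα⟩) (x := x) (x' := x')
        (by simpa [List.ofFn_succ] using h)
    have hprod0 : ∀ (X : Over S) (x y : Γ(X.left, ⊤)), (x = 0 ∨ y = 0) →
        (List.ofFn fun k => up D (e k) (c (Fin.castSucc k.succ) X * x ^ p k * y ^ q k)).prod = 1 := by
      intro X x y hxy
      refine List.prod_eq_one fun g hg => ?_
      obtain ⟨k, rfl⟩ := (List.mem_ofFn).1 hg
      rcases hxy with rfl | rfl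
      · simp [zero_pow (hpq k).1.ne', up_zero]
      · simp [zero_pow (hpq k).2.1.ne', up_zero]
    have hlast : ∀ X, c (Fin.last _) X = 0 := fun X => by
      have h := hexp X 1 0
      rw [hprod0 X 1 0 (.inr rfl)] at h
      simp [up_zero] at h
      exact (congrFun (hinj X ![0, 0] ![0, c (Fin.last _) X] (by simpa [up_zero] using h)) 1).symm
    have hfirst : ∀ X, c (Fin.castSucc 0) X = 1 := fun X => by
      have h := hexp X 0 1
      rw [hprod0 X 0 1 (.inl rfl), hlast] at h
      simp [up_zero] at h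
      exact ((congrFun (hinj X ![1, 0] ![c (Fin.castSucc 0) X, 0] (by simpa [up_zero] using h)) 0)).symm
    exact ⟨fun k => C (Fin.castSucc k.succ), fun X x y => by
      rw [hexp X x y, hfirst, hlast, _root_.one_mul, zero_mul, up_zero, _root_.mul_one]⟩

/-- Root groups of positive roots whose positive combinations are no roots commute. -/
theorem commute_of_no_comb {α β : D.idx} (hα : α ∈ RedSub.posRoots D.P b) (hβ : β ∈ RedSub.posRoots D.P b)
    (hind : ∀ i j : ℤ, i • D.P.root α + j • D.P.root β = 0 → i = 0 ∧ j = 0)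
    (hall : ∀ (c : D.idx) (i j : ℕ), 0 < i → 0 < j → D.P.root c ≠ i • D.P.root α + j • D.P.root β)
    {X : Over S} (x y : Γ(X.left, ⊤)) : Commute (up D α x) (up D β y) := by
  obtain ⟨C, hC⟩ := exists_commutator hax hα hβ hind Fin.elim0 Fin.elim0 Fin.elim0 (fun k => k.elim0)
    (fun k => k.elim0) fun c i j hi hj h => absurd h (hall c i j hi hj)
  have h := hC X x y
  rw [List.ofFn_zero, List.prod_nil, _root_.mul_one] at h
  exact (mul_inv_eq_iff_eq_mul.1 h)

end Groth.Agent.Red23Lib.Pinned

end
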