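import Groth.Agent.Red23Lib.Pinned.Setup
import Groth.Agent.Red23Lib.Pinned.Comm

/-!
# Conjugation of root homomorphisms by the Weyl elements of a pinning
-/

set_option autoImplicit false
set_option linter.style.haveILetI false

universe u

open CategoryTheory CategoryTheory.Limits AlgebraicGeometry MonoidalCategory CartesianMonoidalCategory
open Groth.Agent.GrpSchLib
open scoped MonObj

noncomputable section

namespace Groth.Agent.Red23Lib.Pinned

variable {S : Scheme.{u}} {G : Over S} [GrpObj G]

/-- A constant on the base, pulled back. -/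
abbrev cst (C : Γ((𝟙_ (Over S)).left, ⊤)) (X : Over S) : Γ(X.left, ⊤) := (toUnit X).left.appTop C

theorem cst_natural (C : Γ((𝟙_ (Over S)).left, ⊤)) {X Y : Over S} (g : Y ⟶ X) :
    g.left.appTop (cst C X) = cst C Y := by
  rw [cst, cst, ← toUnit_unique (g ≫ toUnit X) (toUnit Y), Over.comp_left]
  exact (GmPts.appTop_comp_apply g.left (toUnit X).left C).symm

theorem sT_ch_root (D : Red.SplitRed G) (a k : D.idx) {X : Over S} (t : X ⟶ D.T) :
    ch D (sT D a t) (D.P.root k) = ch D t (D.P.root (D.P.reflectionPerm a k)) := by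
  rw [ch_sT, RootPairing.root_reflectionPerm]

theorem refl_pos {D : Red.SplitRed G} (b : D.P.Base) {a k : D.idx} (ha : a ∈ b.support)
    (hk : k ∈ RedSub.posRoots D.P b) (hka : k ≠ a) : D.P.reflectionPerm a k ∈ RedSub.posRoots D.P b := by
  have hΔ := Groth.Agent.RootData.Simple.of_base b
  refine hΔ.refl_pos ha hk ?_
  by_contra h
  push Not at h
  exact hka (hΔ.eq_of_pos_multiple ha hk (isIndiv_of_base b k) h)

variable {D : Red.Pinning G} (hd : Duals D) (hax : CellAx D.toSplitRed D.base) {a : D.idx}
  (ha : a ∈ D.base.support)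

include hd hax ha

/-- The Weyl element of a simple root conjugates the root homomorphism to the opposite one. -/
theorem W_conj_self {X : Over S} (x : Γ(X.left, ⊤)) :
    W D.toSplitRed a X * up D.toSplitRed a x * (W D.toSplitRed a X)⁻¹ = up D.toSplitRed (neg D.toSplitRed a) (-x) := by
  let v : ∀ X : Over S, Γ(X.left, ⊤) → (X ⟶ G) := fun X x =>
    (W D.toSplitRed a X)⁻¹ * up D.toSplitRed (neg D.toSplitRed a) (-x) * W D.toSplitRed a X
  obtain ⟨C, hC⟩ := exists_scale hax (mem_posRoots_of_mem D.base ha) v
    (fun g x => by simp only [v, MonObj.comp_mul, GrpObj.comp_inv, comp_up, comp_W, map_neg])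
    (fun X => by simp [v, up_zero]) (fun X t x => by
      have e : (ch D.toSplitRed (sT D.toSplitRed a t) (D.P.root (neg D.toSplitRed a)) : Γ(X.left, ⊤)) =
          ch D.toSplitRed t (D.P.root a) := by
        rw [sT_ch_root, neg, RootPairing.reflectionPerm_self]
      simp only [v]
      rw [← e, ← mul_neg, ← conj_up, ← W_conj_T hd ha]
      group)
  have h1 : cst C X = 1 := by
    refine up_injective D.toSplitRed a (Eq.trans ?_ (?_ : v X 1 = _))
    · rw [hC, mul_one]
    · show (W D.toSplitRed a X)⁻¹ * up D.toSplitRed (neg D.toSplitRed a) (-1) * W D.toSplitRed a X = _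
      rw [← W_conj_one hd ha]
      group
  have h2 := hC X x
  simp only [cst] at h1
  rw [h1, _root_.one_mul] at h2
  rw [← h2]
  simp only [v]
  group

/-- The Weyl element of a simple root carries the other positive root homomorphisms to multiples of root
homomorphisms. -/
theorem exists_conj_pos {k : D.idx} (hk : k ∈ RedSub.posRoots D.P D.base) (hka : k ≠ a) :
    ∃ C : Γ((𝟙_ (Over S)).left, ⊤), ∀ (X : Over S) (x : Γ(X.left, ⊤)),
      W D.toSplitRed a X * up D.toSplitRed k x * (W D.toSplitRed a X)⁻¹ =
        up D.toSplitRed (D.P.reflectionPerm a k) (cst C X * x) :=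
  exists_scale hax (refl_pos D.base ha hk hka)
    (fun X x => W D.toSplitRed a X * up D.toSplitRed k x * (W D.toSplitRed a X)⁻¹)
    (fun g x => by simp only [MonObj.comp_mul, GrpObj.comp_inv, comp_up, comp_W])
    (fun X => by simp [up_zero]) fun X t x => by
      rw [← sT_ch_root, ← conj_up, ← W_inv_conj_T hd ha]
      group

/-- The multiplier is invertible. -/
theorem exists_conj_unit {k : D.idx} (hk : k ∈ RedSub.posRoots D.P D.base) (hka : k ≠ a) :
    ∃ C : (Γ((𝟙_ (Over S)).left, ⊤))ˣ, ∀ (X : Over S) (x : Γ(X.left, ⊤)),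
      W D.toSplitRed a X * up D.toSplitRed k x * (W D.toSplitRed a X)⁻¹ =
        up D.toSplitRed (D.P.reflectionPerm a k) (cst C X * x) := by
  obtain ⟨C, hC⟩ := exists_conj_pos hd hax ha hk hka
  have hk' := refl_pos D.base ha hk hka
  have hka' : D.P.reflectionPerm a k ≠ a := by
    intro e
    have hkn : k = neg D.toSplitRed a := by
      rw [← D.P.reflectionPerm_self a k, e]
    obtain ⟨l, hlp, -⟩ := exists_cochar (D := D.toSplitRed) D.base
    have h1 := hlp k hk
    have h2 := hlp a (mem_posRoots_of_mem D.base ha)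
    rw [hkn, root_neg', map_neg] at h1
    omega
  obtain ⟨C', hC'⟩ := exists_conj_pos hd hax ha hk' hka'
  let X₀ : Over S := 𝟙_ (Over S)
  have e := W_W_conj hd ha (X := X₀) k 1
  rw [hC, hC', RootPairing.reflectionPerm_self] at e
  have h := up_injective D.toSplitRed k e
  have hid : ∀ C : Γ(X₀.left, ⊤), cst C X₀ = C := fun C => by
    show (toUnit (𝟙_ (Over S))).left.appTop C = C
    rw [show toUnit (𝟙_ (Over S)) = 𝟙 _ from toUnit_unique _ _]
    simp
  rw [hid, hid, mul_one, mul_one] at h
  have hu : IsUnit (C' * C) := h ▸ Units.isUnit _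
  exact ⟨(isUnit_of_mul_isUnit_right hu).unit, hC⟩

end Groth.Agent.Red23Lib.Pinned

end
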