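import Mathlib.Algebra.Ring.Basic
import Mathlib.Algebra.Group.Commute.Basic
import Mathlib.Tactic.Group
import Mathlib.Tactic.Ring
import Mathlib.Tactic.LinearCombination

/-!
# Additive one-parameter subgroups of an abstract group
-/

namespace Groth.Agent.Red23Lib.Pinned

variable {R G : Type*} [CommRing R] [Group G]

/-- `f` turns addition into multiplication. -/
def IsParam (f : R → G) : Prop := ∀ x y, f (x + y) = f x * f y

/-- The element `f 1 * f' (-1) * f 1`. -/
def weylElt (f f' : R → G) : G := f 1 * f' (-1) * f 1

namespace IsParam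

variable {f : R → G} (hf : IsParam f)

include hf

theorem zero : f 0 = 1 := by simpa using hf 0 0

theorem neg (x : R) : f (-x) = (f x)⁻¹ := by
  rw [eq_inv_iff_mul_eq_one, ← hf, neg_add_cancel, hf.zero]

theorem mul_cancel_left (x : R) (g : G) : f x * (f (-x) * g) = g := by
  rw [← mul_assoc, ← hf, add_neg_cancel, hf.zero, one_mul]

theorem merge (x y : R) (g : G) : f x * (f y * g) = f (x + y) * g := by
  rw [hf, mul_assoc]

theorem mul (x y : R) : f x * f y = f (x + y) := (hf x y).symm

end IsParam

/-- Conjugation distributes over products. -/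
theorem conj_distrib (w g h : G) : w * (g * h) * w⁻¹ = w * g * w⁻¹ * (w * h * w⁻¹) := by group

/-- If conjugation by a Weyl element sends `g` to `z` and `f` commutes with `z`, then conjugation by
`f 1` sends `g` to the conjugate of `z` by `f' 1`. -/
theorem conj_one_eq {f f' : R → G} (hf : IsParam f) (hf' : IsParam f') {g z : G}
    (h : weylElt f f' * g * (weylElt f f')⁻¹ = z) (hc : Commute (f (-1)) z) :
    f 1 * g * f (-1) = f' 1 * z * f' (-1) := by
  have h2 : f (-1) * z * f 1 = z := by
    rw [hc.eq, mul_assoc, hf.mul, neg_add_cancel, hf.zero, mul_one]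
  conv_rhs => rw [← h2, ← h]
  simp only [weylElt, mul_inv_rev, ← hf.neg, ← hf'.neg, neg_neg, mul_assoc, hf.merge, hf'.merge, hf.mul, hf'.mul,
    neg_add_cancel, add_neg_cancel, hf.zero, hf'.zero, one_mul, mul_one]

/-- Moving past a commuting pair inside a product. -/
theorem swap {p q : G} (h : Commute p q) (g : G) : p * (q * g) = q * (p * g) := by
  rw [← mul_assoc, h.eq, mul_assoc]

end Groth.Agent.Red23Lib.Pinned
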