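import Groth.Agent.Red23Lib.Pinned.Additive

/-!
# Rank two computations: type `A₂`
-/

namespace Groth.Agent.Red23Lib.Pinned

variable {R G : Type*} [CommRing R] [Group G]

/-- Root subgroups of type `A₂` in a group, with their Weyl elements. -/
structure A2Rel (R G : Type*) [CommRing R] [Group G] where
  a : R → G
  b : R → G
  c : R → G
  na : R → G
  nb : R → G
  ha : IsParam a
  hb : IsParam b
  hc : IsParam c
  hna : IsParam na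
  hnb : IsParam nb
  A : R
  ν : R
  μ : R
  rel : ∀ x y, b y * a x = a x * b y * c (A * (x * y))
  comm_ac : ∀ x y, Commute (a x) (c y)
  comm_bc : ∀ x y, Commute (b x) (c y)
  conj_a_self : ∀ x, weylElt a na * a x * (weylElt a na)⁻¹ = na (-x)
  conj_b_self : ∀ x, weylElt b nb * b x * (weylElt b nb)⁻¹ = nb (-x)
  def_c : ∀ x, weylElt b nb * a x * (weylElt b nb)⁻¹ = c x
  conj_b_c : ∀ x, weylElt b nb * c x * (weylElt b nb)⁻¹ = a (-x)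
  conj_a_b : ∀ x, weylElt a na * b x * (weylElt a na)⁻¹ = c (ν * x)
  conj_a_c : ∀ x, weylElt a na * c x * (weylElt a na)⁻¹ = b (μ * x)
  inj : ∀ x y z x' y' z', a x * b y * c z = a x' * b y' * c z' → x = x' ∧ y = y' ∧ z = z'

namespace A2Rel

variable (Φ : A2Rel R G)

theorem conj_ab (x y : R) : Φ.a x * Φ.b y * Φ.a (-x) = Φ.b y * Φ.c (-(Φ.A * (x * y))) := by
  rw [mul_assoc, Φ.rel (-x) y, mul_assoc (Φ.a (-x)), Φ.ha.mul_cancel_left]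
  congr 2; ring

theorem conj_ba (x : R) : Φ.b 1 * Φ.a x * Φ.b (-1) = Φ.a x * Φ.c (Φ.A * x) := by
  rw [Φ.rel x 1, mul_assoc, ← (Φ.comm_bc (-1) _).eq, mul_assoc, Φ.hb.mul_cancel_left, mul_one]

theorem image_b (x : R) : Φ.nb (-1) * Φ.c x = Φ.c x * Φ.nb (-1) * Φ.a (-(Φ.A * x)) := by
  have h := congrArg (fun g => weylElt Φ.b Φ.nb * g * (weylElt Φ.b Φ.nb)⁻¹) (Φ.rel x 1)
  simp only [conj_distrib, Φ.conj_b_self, Φ.def_c, Φ.conj_b_c, mul_one] at h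
  exact h

theorem image_a : Φ.c Φ.ν * Φ.na (-1) = Φ.na (-1) * Φ.c Φ.ν * Φ.b (Φ.μ * Φ.A) := by
  have h := congrArg (fun g => weylElt Φ.a Φ.na * g * (weylElt Φ.a Φ.na)⁻¹) (Φ.rel 1 1)
  simp only [conj_distrib, Φ.conj_a_self, Φ.conj_a_b, Φ.conj_a_c, mul_one] at h
  exact h

theorem A_eq_one : Φ.A = 1 := by
  have e1 : Φ.nb 1 * Φ.c 1 * Φ.nb (-1) = Φ.c 1 * Φ.a Φ.A := by
    have h := Φ.image_b 1
    rw [mul_one] at h
    have h' : Φ.c 1 = Φ.nb 1 * Φ.c 1 * Φ.nb (-1) * Φ.a (-Φ.A) := by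
      rw [mul_assoc (Φ.nb 1), mul_assoc (Φ.nb 1), ← h, ← mul_assoc, ← Φ.hnb, add_neg_cancel, Φ.hnb.zero, one_mul]
    conv_rhs => rw [h', mul_assoc, ← Φ.ha, neg_add_cancel, Φ.ha.zero, mul_one]
  have e2 : Φ.b 1 * Φ.a 1 * Φ.b (-1) = Φ.nb 1 * Φ.c 1 * Φ.nb (-1) :=
    conj_one_eq Φ.hb Φ.hnb (Φ.def_c 1) (Φ.comm_bc _ _)
  rw [Φ.conj_ba, mul_one, e1, ← (Φ.comm_ac _ _).eq] at e2
  exact (Φ.inj 1 0 Φ.A Φ.A 0 1 (by simpa [Φ.hb.zero] using e2)).2.2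

theorem signs : Φ.ν = -1 ∧ Φ.μ = 1 := by
  have e1 : Φ.na 1 * Φ.c Φ.ν * Φ.na (-1) = Φ.c Φ.ν * Φ.b Φ.μ := by
    rw [mul_assoc, Φ.image_a, ← mul_assoc, ← mul_assoc, ← Φ.hna, add_neg_cancel, Φ.hna.zero, one_mul,
      Φ.A_eq_one, mul_one]
  have e2 : Φ.a 1 * Φ.b 1 * Φ.a (-1) = Φ.na 1 * Φ.c Φ.ν * Φ.na (-1) :=
    conj_one_eq Φ.ha Φ.hna (by rw [Φ.conj_a_b, mul_one]) (Φ.comm_ac _ _)
  rw [Φ.conj_ab, e1, ← (Φ.comm_bc _ _).eq, Φ.A_eq_one] at e2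
  have := Φ.inj 0 1 _ 0 Φ.μ Φ.ν (by simpa [Φ.ha.zero] using e2)
  exact ⟨by simpa using this.2.2.symm, this.2.1.symm⟩

/-- The commutator formula. -/
theorem commutator (x y : R) : Φ.b y * Φ.a x = Φ.a x * Φ.b y * Φ.c (x * y) := by
  rw [Φ.rel, Φ.A_eq_one, one_mul]

end A2Rel

end Groth.Agent.Red23Lib.Pinned
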