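import Groth.Agent.Red23Lib.Pinned.Additive

/-!
# Rank two computations: type `B₂`
-/

namespace Groth.Agent.Red23Lib.Pinned

variable {R G : Type*} [CommRing R] [Group G]

/-- Root subgroups of type `B₂` in a group, `a` short, with their Weyl elements. -/
structure B2Rel (R G : Type*) [CommRing R] [Group G] where
  a : R → G
  b : R → G
  c : R → G
  d : R → G
  na : R → G
  nb : R → G
  ha : IsParam a
  hb : IsParam b
  hc : IsParam c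
  hd : IsParam d
  hna : IsParam na
  hnb : IsParam nb
  A : R
  B : R
  E : R
  ν : R
  rel_ba : ∀ x y, b y * a x = a x * b y * c (A * (x * y)) * d (B * (x ^ 2 * y))
  rel_ca : ∀ x y, c y * a x = a x * c y * d (E * (x * y))
  comm_bc : ∀ x y, Commute (b x) (c y)
  comm_bd : ∀ x y, Commute (b x) (d y)
  comm_ad : ∀ x y, Commute (a x) (d y)
  comm_cd : ∀ x y, Commute (c x) (d y)
  conj_a_self : ∀ x, weylElt a na * a x * (weylElt a na)⁻¹ = na (-x)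
  conj_b_self : ∀ x, weylElt b nb * b x * (weylElt b nb)⁻¹ = nb (-x)
  def_c : ∀ x, weylElt b nb * a x * (weylElt b nb)⁻¹ = c x
  def_d : ∀ x, weylElt a na * b x * (weylElt a na)⁻¹ = d x
  conj_b_c : ∀ x, weylElt b nb * c x * (weylElt b nb)⁻¹ = a (-x)
  conj_b_d : ∀ x, weylElt b nb * d x * (weylElt b nb)⁻¹ = d x
  conj_a_c : ∀ x, weylElt a na * c x * (weylElt a na)⁻¹ = c (ν * x)
  conj_a_d : ∀ x, weylElt a na * d x * (weylElt a na)⁻¹ = b x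
  inj : ∀ x y z t x' y' z' t', a x * b y * c z * d t = a x' * b y' * c z' * d t' →
    x = x' ∧ y = y' ∧ z = z' ∧ t = t'

namespace B2Rel

variable (Φ : B2Rel R G)

theorem conj_ba : Φ.b 1 * Φ.a 1 * Φ.b (-1) = Φ.a 1 * Φ.c Φ.A * Φ.d Φ.B := by
  rw [Φ.rel_ba, mul_assoc, ← (Φ.comm_bd (-1) _).eq, ← mul_assoc, mul_assoc (Φ.a 1 * Φ.b 1),
    ← (Φ.comm_bc (-1) _).eq]
  simp only [mul_assoc, Φ.hb.mul_cancel_left, mul_one, one_pow]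

theorem conj_ab : Φ.a 1 * Φ.b 1 * Φ.a (-1) = Φ.b 1 * Φ.c (-Φ.A) * Φ.d Φ.B := by
  rw [mul_assoc, Φ.rel_ba]
  simp [mul_assoc, Φ.ha.mul_cancel_left]

theorem image_b : Φ.nb (-1) * Φ.c 1 = Φ.c 1 * Φ.nb (-1) * Φ.a (-Φ.A) * Φ.d Φ.B := by
  have h := congrArg (fun g => weylElt Φ.b Φ.nb * g * (weylElt Φ.b Φ.nb)⁻¹) (Φ.rel_ba 1 1)
  simp only [conj_distrib, Φ.conj_b_self, Φ.def_c, Φ.conj_b_c, Φ.conj_b_d, mul_one, one_pow] at h
  exact h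

theorem image_a : Φ.d 1 * Φ.na (-1) = Φ.na (-1) * Φ.d 1 * Φ.c (Φ.ν * Φ.A) * Φ.b Φ.B := by
  have h := congrArg (fun g => weylElt Φ.a Φ.na * g * (weylElt Φ.a Φ.na)⁻¹) (Φ.rel_ba 1 1)
  simp only [conj_distrib, Φ.conj_a_self, Φ.def_d, Φ.conj_a_c, Φ.conj_a_d, mul_one, one_pow] at h
  exact h

theorem constants : Φ.A = 1 ∧ Φ.B = 1 ∧ Φ.E = 2 ∧ Φ.ν = -1 := by
  -- conjugation of `a 1` by `b 1`
  have e1 : Φ.nb 1 * Φ.c 1 * Φ.nb (-1) = Φ.c 1 * Φ.d (-Φ.B) * Φ.a Φ.A := by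
    have h' : Φ.c 1 = Φ.nb 1 * Φ.c 1 * Φ.nb (-1) * Φ.a (-Φ.A) * Φ.d Φ.B := by
      have h := congrArg (Φ.nb 1 * ·) Φ.image_b
      simp only [Φ.hnb.mul_cancel_left] at h
      simpa only [mul_assoc] using h
    conv_rhs => rw [h']
    simp only [mul_assoc, Φ.hd.merge, Φ.ha.mul, add_neg_cancel, neg_add_cancel, Φ.hd.zero, Φ.ha.zero, one_mul,
      mul_one]
  have e2 := conj_one_eq Φ.hb Φ.hnb (Φ.def_c 1) (Φ.comm_bc _ _)
  rw [Φ.conj_ba, e1, mul_assoc (Φ.c 1), ← (Φ.comm_ad _ _).eq, ← mul_assoc (Φ.c 1), Φ.rel_ca,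
    mul_assoc (Φ.a Φ.A * Φ.c 1), Φ.hd.mul] at e2
  obtain ⟨-, -, hA, hE⟩ := Φ.inj 1 0 Φ.A Φ.B Φ.A 0 1 (Φ.E * (Φ.A * 1) + -Φ.B) (by simpa [Φ.hb.zero] using e2)
  -- conjugation of `b 1` by `a 1`
  have e3 : Φ.na 1 * Φ.d 1 * Φ.na (-1) = Φ.d 1 * Φ.c (Φ.ν * Φ.A) * Φ.b Φ.B := by
    rw [mul_assoc, Φ.image_a]
    simp only [mul_assoc, Φ.hna.mul_cancel_left]
  have e4 := conj_one_eq Φ.ha Φ.hna (Φ.def_d 1) (Φ.comm_ad _ _)
  rw [Φ.conj_ab, e3, ← (Φ.comm_cd _ _).eq, mul_assoc, mul_assoc, ← (Φ.comm_bd _ _).eq, ← mul_assoc, ← mul_assoc,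
    ← (Φ.comm_bc _ _).eq] at e4
  obtain ⟨-, hB, hν, hB'⟩ := Φ.inj 0 1 (-Φ.A) Φ.B 0 Φ.B (Φ.ν * Φ.A) 1 (by simpa [Φ.ha.zero, mul_assoc] using e4)
  refine ⟨hA, hB', ?_, ?_⟩
  · rw [hA, hB', mul_one, mul_one] at hE
    linear_combination -hE
  · rw [hA, mul_one] at hν; exact hν.symm

/-- The first commutator formula. -/
theorem commutator_ba (x y : R) :
    Φ.b y * Φ.a x = Φ.a x * Φ.b y * Φ.c (x * y) * Φ.d (x ^ 2 * y) := by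
  rw [Φ.rel_ba, Φ.constants.1, Φ.constants.2.1, one_mul, one_mul]

/-- The second commutator formula. -/
theorem commutator_ca (x y : R) : Φ.c y * Φ.a x = Φ.a x * Φ.c y * Φ.d (2 * (x * y)) := by
  rw [Φ.rel_ca, Φ.constants.2.2.1]

end B2Rel

end Groth.Agent.Red23Lib.Pinned
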