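import Groth.Agent.Red23Lib.Pinned.Additive

/-!
# Rank two computations: type `G₂`
-/

namespace Groth.Agent.Red23Lib.Pinned

variable {R G : Type*} [CommRing R] [Group G]

/-- Root subgroups of type `G₂` in a group, `a` short, with their Weyl elements. -/
structure G2Rel (R G : Type*) [CommRing R] [Group G] where
  a : R → G
  b : R → G
  c : R → G
  d : R → G
  e : R → G
  f : R → G
  na : R → G
  nb : R → G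
  ha : IsParam a
  hb : IsParam b
  hc : IsParam c
  hd : IsParam d
  he : IsParam e
  hf : IsParam f
  hna : IsParam na
  hnb : IsParam nb
  A : R
  B : R
  C : R
  D : R
  E : R
  F : R
  Gc : R
  H : R
  K : R
  L : R
  rel_ba : ∀ x y, b y * a x = a x * b y * c (A * (x * y)) * d (B * (x ^ 2 * y)) * e (C * (x ^ 3 * y)) *
    f (D * (x ^ 3 * y ^ 2))
  rel_ca : ∀ x y, c y * a x = a x * c y * d (E * (x * y)) * e (F * (x ^ 2 * y)) * f (Gc * (x * y ^ 2))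
  rel_da : ∀ x y, d y * a x = a x * d y * e (H * (x * y))
  rel_eb : ∀ x y, e y * b x = b x * e y * f (K * (x * y))
  rel_dc : ∀ x y, d y * c x = c x * d y * f (L * (x * y))
  comm_ae : ∀ x y, Commute (a x) (e y)
  comm_af : ∀ x y, Commute (a x) (f y)
  comm_bc : ∀ x y, Commute (b x) (c y)
  comm_bd : ∀ x y, Commute (b x) (d y)
  comm_bf : ∀ x y, Commute (b x) (f y)
  comm_ce : ∀ x y, Commute (c x) (e y)
  comm_cf : ∀ x y, Commute (c x) (f y)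
  comm_de : ∀ x y, Commute (d x) (e y)
  comm_df : ∀ x y, Commute (d x) (f y)
  comm_ef : ∀ x y, Commute (e x) (f y)
  conj_a_self : ∀ x, weylElt a na * a x * (weylElt a na)⁻¹ = na (-x)
  conj_b_self : ∀ x, weylElt b nb * b x * (weylElt b nb)⁻¹ = nb (-x)
  def_c : ∀ x, weylElt b nb * a x * (weylElt b nb)⁻¹ = c x
  def_d : ∀ x, weylElt a na * c x * (weylElt a na)⁻¹ = d x
  def_e : ∀ x, weylElt a na * b x * (weylElt a na)⁻¹ = e (-x)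
  def_f : ∀ x, weylElt b nb * e x * (weylElt b nb)⁻¹ = f x
  conj_a_d : ∀ x, weylElt a na * d x * (weylElt a na)⁻¹ = c (-x)
  conj_a_e : ∀ x, weylElt a na * e x * (weylElt a na)⁻¹ = b x
  conj_a_f : ∀ x, weylElt a na * f x * (weylElt a na)⁻¹ = f x
  conj_b_c : ∀ x, weylElt b nb * c x * (weylElt b nb)⁻¹ = a (-x)
  conj_b_d : ∀ x, weylElt b nb * d x * (weylElt b nb)⁻¹ = d x
  conj_b_f : ∀ x, weylElt b nb * f x * (weylElt b nb)⁻¹ = e (-x)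
  inj : ∀ x₁ x₂ x₃ x₄ x₅ x₆ y₁ y₂ y₃ y₄ y₅ y₆,
    a x₁ * b x₂ * c x₃ * d x₄ * e x₅ * f x₆ = a y₁ * b y₂ * c y₃ * d y₄ * e y₅ * f y₆ →
      x₁ = y₁ ∧ x₂ = y₂ ∧ x₃ = y₃ ∧ x₄ = y₄ ∧ x₅ = y₅ ∧ x₆ = y₆

namespace G2Rel

variable (Φ : G2Rel R G)

/-- The normal form of an element. -/
def nf (x₁ x₂ x₃ x₄ x₅ x₆ : R) : G := Φ.a x₁ * Φ.b x₂ * Φ.c x₃ * Φ.d x₄ * Φ.e x₅ * Φ.f x₆

theorem move_ba (x : R) (g : G) : Φ.b 1 * (Φ.a x * g) = Φ.a x * (Φ.b 1 * (Φ.c (Φ.A * x) *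
    (Φ.d (Φ.B * x ^ 2) * (Φ.e (Φ.C * x ^ 3) * (Φ.f (Φ.D * x ^ 3) * g))))) := by
  rw [← mul_assoc, Φ.rel_ba]; simp [mul_assoc]

theorem move_ca (x y : R) (g : G) : Φ.c y * (Φ.a x * g) = Φ.a x * (Φ.c y * (Φ.d (Φ.E * (x * y)) *
    (Φ.e (Φ.F * (x ^ 2 * y)) * (Φ.f (Φ.Gc * (x * y ^ 2)) * g)))) := by
  rw [← mul_assoc, Φ.rel_ca]; simp only [mul_assoc]

theorem move_da (x y : R) (g : G) :
    Φ.d y * (Φ.a x * g) = Φ.a x * (Φ.d y * (Φ.e (Φ.H * (x * y)) * g)) := by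
  rw [← mul_assoc, Φ.rel_da]; simp only [mul_assoc]

theorem move_eb (x y : R) (g : G) :
    Φ.e y * (Φ.b x * g) = Φ.b x * (Φ.e y * (Φ.f (Φ.K * (x * y)) * g)) := by
  rw [← mul_assoc, Φ.rel_eb]; simp only [mul_assoc]

theorem move_dc (x y : R) (g : G) :
    Φ.d y * (Φ.c x * g) = Φ.c x * (Φ.d y * (Φ.f (Φ.L * (x * y)) * g)) := by
  rw [← mul_assoc, Φ.rel_dc]; simp only [mul_assoc]

theorem move_ea (x y : R) (g : G) : Φ.e y * (Φ.a x * g) = Φ.a x * (Φ.e y * g) :=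
  swap (Φ.comm_ae x y).symm g

theorem move_fa (x y : R) (g : G) : Φ.f y * (Φ.a x * g) = Φ.a x * (Φ.f y * g) :=
  swap (Φ.comm_af x y).symm g

theorem move_cb (x y : R) (g : G) : Φ.c y * (Φ.b x * g) = Φ.b x * (Φ.c y * g) :=
  swap (Φ.comm_bc x y).symm g

theorem move_db (x y : R) (g : G) : Φ.d y * (Φ.b x * g) = Φ.b x * (Φ.d y * g) :=
  swap (Φ.comm_bd x y).symm g

theorem move_fb (x y : R) (g : G) : Φ.f y * (Φ.b x * g) = Φ.b x * (Φ.f y * g) :=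
  swap (Φ.comm_bf x y).symm g

theorem move_ec (x y : R) (g : G) : Φ.e y * (Φ.c x * g) = Φ.c x * (Φ.e y * g) :=
  swap (Φ.comm_ce x y).symm g

theorem move_fc (x y : R) (g : G) : Φ.f y * (Φ.c x * g) = Φ.c x * (Φ.f y * g) :=
  swap (Φ.comm_cf x y).symm g

theorem move_ed (x y : R) (g : G) : Φ.e y * (Φ.d x * g) = Φ.d x * (Φ.e y * g) :=
  swap (Φ.comm_de x y).symm g

theorem move_fd (x y : R) (g : G) : Φ.f y * (Φ.d x * g) = Φ.d x * (Φ.f y * g) :=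
  swap (Φ.comm_df x y).symm g

theorem move_fe (x y : R) (g : G) : Φ.f y * (Φ.e x * g) = Φ.e x * (Φ.f y * g) :=
  swap (Φ.comm_ef x y).symm g

theorem image_b (y : R) : Φ.nb (-y) * Φ.c 1 = Φ.c 1 * Φ.nb (-y) * Φ.a (-(Φ.A * y)) * Φ.d (Φ.B * y) *
    Φ.f (Φ.C * y) * Φ.e (-(Φ.D * y ^ 2)) := by
  have h := congrArg (fun g => weylElt Φ.b Φ.nb * g * (weylElt Φ.b Φ.nb)⁻¹) (Φ.rel_ba 1 y)
  simp only [conj_distrib, Φ.conj_b_self, Φ.def_c, Φ.conj_b_c, Φ.conj_b_d, Φ.def_f, Φ.conj_b_f, one_mul,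
    one_pow] at h
  exact h

theorem image_a (y : R) : Φ.e (-y) * Φ.na (-1) = Φ.na (-1) * Φ.e (-y) * Φ.d (Φ.A * y) * Φ.c (-(Φ.B * y)) *
    Φ.b (Φ.C * y) * Φ.f (Φ.D * y ^ 2) := by
  have h := congrArg (fun g => weylElt Φ.a Φ.na * g * (weylElt Φ.a Φ.na)⁻¹) (Φ.rel_ba 1 y)
  simp only [conj_distrib, Φ.conj_a_self, Φ.def_e, Φ.def_d, Φ.conj_a_d, Φ.conj_a_e, Φ.conj_a_f, one_mul,
    one_pow] at h
  exact h

theorem image_a_c : Φ.d 1 * Φ.na (-1) = Φ.na (-1) * Φ.d 1 * Φ.c (-Φ.E) * Φ.b Φ.F * Φ.f Φ.Gc := by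
  have h := congrArg (fun g => weylElt Φ.a Φ.na * g * (weylElt Φ.a Φ.na)⁻¹) (Φ.rel_ca 1 1)
  simp only [conj_distrib, Φ.conj_a_self, Φ.def_d, Φ.conj_a_d, Φ.conj_a_e, Φ.conj_a_f, one_mul,
    one_pow, mul_one] at h
  exact h

theorem L_eq_H : Φ.L = Φ.H := by
  have h := congrArg (fun g => weylElt Φ.b Φ.nb * g * (weylElt Φ.b Φ.nb)⁻¹) (Φ.rel_da 1 1)
  simp only [conj_distrib, Φ.def_c, Φ.conj_b_d, Φ.def_f, mul_one] at h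
  rw [Φ.rel_dc] at h
  have h' : Φ.f Φ.L = Φ.f Φ.H := by simpa using mul_left_cancel h
  exact (Φ.inj 0 0 0 0 0 Φ.L 0 0 0 0 0 Φ.H (by simp [Φ.ha.zero, Φ.hb.zero, Φ.hc.zero, Φ.hd.zero, Φ.he.zero, h'])).2.2.2.2.2

theorem conj_ba : Φ.b 1 * Φ.a 1 * Φ.b (-1) = Φ.nf 1 0 Φ.A Φ.B Φ.C (Φ.D - Φ.K * Φ.C) := by
  rw [Φ.rel_ba]
  simp only [nf, mul_assoc, Φ.hb.zero, one_mul, one_pow, mul_one]
  rw [← mul_one (Φ.b (-1))]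
  simp only [Φ.move_fb, Φ.move_eb, Φ.move_db, Φ.move_cb, Φ.hb.mul_cancel_left]
  simp only [Φ.hf.mul, mul_one]
  congr 5
  ring

theorem conj_ab : Φ.a 1 * Φ.b 1 * Φ.a (-1) = Φ.nf 0 1 (-Φ.A) Φ.B (-Φ.C) (-Φ.D) := by
  rw [← mul_one (Φ.a (-1)), mul_assoc, Φ.move_ba]
  simp only [nf, Φ.ha.zero, one_mul, Φ.ha.mul_cancel_left, mul_assoc, mul_one]
  congr 5 <;> ring

theorem conj_ac : Φ.a 1 * Φ.c 1 * Φ.a (-1) = Φ.nf 0 0 1 (-Φ.E) Φ.F (-Φ.Gc) := by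
  rw [← mul_one (Φ.a (-1)), mul_assoc, Φ.move_ca]
  simp only [nf, Φ.ha.zero, Φ.hb.zero, one_mul, Φ.ha.mul_cancel_left, mul_assoc, mul_one]
  congr 4 <;> ring

theorem conj_nb : Φ.nb 1 * Φ.c 1 * Φ.nb (-1) = Φ.nf Φ.A 0 1 (Φ.E * Φ.A + -Φ.B)
    (Φ.F * Φ.A ^ 2 + Φ.D + Φ.H * (Φ.A * -Φ.B)) (Φ.Gc * Φ.A + -Φ.C) := by
  have h' : Φ.c 1 * (Φ.e Φ.D * (Φ.f (-Φ.C) * (Φ.d (-Φ.B) * (Φ.a Φ.A * 1)))) =
      Φ.nb 1 * Φ.c 1 * Φ.nb (-1) := by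
    have h := congrArg (fun g => Φ.nb 1 * g) (Φ.image_b 1)
    simp only [Φ.hnb.mul_cancel_left, mul_one, one_pow] at h
    conv_lhs => rw [h]
    simp only [mul_assoc, Φ.he.merge, Φ.hf.merge, Φ.hd.merge, Φ.ha.merge, Φ.ha.mul, neg_add_cancel, add_neg_cancel,
      Φ.he.zero, Φ.hf.zero, Φ.hd.zero, Φ.ha.zero, one_mul, mul_one]
  rw [← h']
  simp only [Φ.move_da, Φ.move_fa, Φ.move_ea, Φ.move_ca]
  simp only [nf, mul_assoc, Φ.hb.zero, one_mul, Φ.move_fe, Φ.move_fd, Φ.move_ed]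
  simp only [Φ.hd.merge, Φ.he.merge]
  simp only [mul_one, one_pow, Φ.hf.mul]
  congr 5 <;> ring

theorem conj_na (y : R) : Φ.na 1 * Φ.e (-y) * Φ.na (-1) =
    Φ.nf 0 (Φ.C * y) (-(Φ.B * y)) (Φ.A * y) (-y)
      ((Φ.D - Φ.K * Φ.C - Φ.L * (Φ.A * Φ.B)) * y ^ 2) := by
  rw [mul_assoc, Φ.image_a]
  simp only [mul_assoc, Φ.hna.mul_cancel_left]
  simp only [Φ.move_cb, Φ.move_db, Φ.move_eb, Φ.move_fc, Φ.move_dc, Φ.move_ec, Φ.move_fd, Φ.move_ed,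
    Φ.move_fe, Φ.hf.mul, Φ.hf.merge, nf, Φ.ha.zero, one_mul, mul_assoc]
  congr 5
  ring

theorem conj_na_d : ∃ r, Φ.na 1 * (Φ.d 1 * Φ.e Φ.H) * Φ.na (-1) =
    Φ.nf 0 (Φ.F - Φ.C * Φ.H) (-Φ.E + Φ.B * Φ.H) (1 - Φ.A * Φ.H) Φ.H r := by
  have hr := Φ.conj_na (-Φ.H)
  have h1 : Φ.na 1 * Φ.d 1 * Φ.na (-1) = Φ.d 1 * (Φ.c (-Φ.E) * (Φ.b Φ.F * Φ.f Φ.Gc)) := by
    rw [mul_assoc, Φ.image_a_c]
    simp only [mul_assoc, Φ.hna.mul_cancel_left]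
  have h2 : Φ.na 1 * (Φ.d 1 * Φ.e Φ.H) * Φ.na (-1) =
      (Φ.na 1 * Φ.d 1 * Φ.na (-1)) * (Φ.na 1 * Φ.e Φ.H * Φ.na (-1)) := by
    simp only [Φ.hna.neg]; group
  rw [neg_neg] at hr
  rw [h2, h1, hr]
  simp only [nf, Φ.ha.zero, one_mul, mul_assoc]
  simp only [Φ.move_fb, Φ.move_cb, Φ.move_db, Φ.hb.merge]
  simp only [Φ.move_fc, Φ.move_dc, Φ.hc.merge]
  simp only [Φ.move_fd, Φ.hd.merge, Φ.move_fe, Φ.hf.mul]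
  rw [show Φ.F - Φ.C * Φ.H = Φ.F + Φ.C * -Φ.H by ring,
    show -Φ.E + Φ.B * Φ.H = -Φ.E + -(Φ.B * -Φ.H) by ring, show 1 - Φ.A * Φ.H = 1 + Φ.A * -Φ.H by ring]
  exact ⟨_, rfl⟩

theorem constants : Φ.A = 1 ∧ Φ.B = 1 ∧ Φ.C = 1 ∧ Φ.D = 1 ∧ Φ.E = 2 ∧ Φ.F = 3 ∧ Φ.Gc = 3 ∧ Φ.H = 3 ∧
    Φ.K = -1 ∧ Φ.L = 3 := by
  have e1 := conj_one_eq Φ.hb Φ.hnb (Φ.def_c 1) (Φ.comm_bc _ _)
  rw [Φ.conj_ba, Φ.conj_nb] at e1
  obtain ⟨hA', -, hA, hE, hF, hG⟩ := Φ.inj _ _ _ _ _ _ _ _ _ _ _ _ e1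
  have e2 := conj_one_eq Φ.ha Φ.hna (Φ.def_e 1) (Φ.comm_ae _ _)
  have hr := Φ.conj_na 1
  rw [Φ.conj_ab, hr] at e2
  obtain ⟨-, hC, hB, -, -, hr'⟩ := Φ.inj _ _ _ _ _ _ _ _ _ _ _ _ e2
  simp only [mul_one, one_pow] at hC hB hr'
  have hB1 : Φ.B = 1 := by linear_combination hB + hA
  have hC1 : Φ.C = 1 := hC.symm
  have e3 : Φ.a 1 * Φ.c 1 * Φ.a (-1) = Φ.na 1 * (Φ.d 1 * Φ.e Φ.H) * Φ.na (-1) := by
    have hz : Φ.a (-1) * Φ.d 1 * Φ.a 1 = Φ.d 1 * Φ.e Φ.H := by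
      rw [mul_assoc, Φ.rel_da]
      simp only [mul_assoc, mul_one]
      rw [← mul_assoc, Φ.ha.mul, neg_add_cancel, Φ.ha.zero, one_mul]
    conv_rhs => rw [← hz, ← Φ.def_d 1]
    simp only [weylElt, mul_inv_rev, ← Φ.ha.neg, ← Φ.hna.neg, neg_neg, mul_assoc, Φ.ha.merge, Φ.hna.merge,
      Φ.ha.mul, Φ.hna.mul, neg_add_cancel, add_neg_cancel, Φ.ha.zero, Φ.hna.zero, one_mul, mul_one]
  obtain ⟨r', hr₂⟩ := Φ.conj_na_d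
  rw [Φ.conj_ac, hr₂] at e3
  obtain ⟨-, hFH, hEH, -, -, -⟩ := Φ.inj _ _ _ _ _ _ _ _ _ _ _ _ e3
  rw [hC1] at hFH hG hF
  rw [hB1] at hEH hE hF
  rw [hA] at hE hF hG
  have hE2 : Φ.E = 2 := by linear_combination -hE
  have hH : Φ.H = 3 := by linear_combination -hEH + hE2
  have hF3 : Φ.F = 3 := by linear_combination -hFH + hH
  have hD : Φ.D = 1 := by linear_combination -hF + hH - hF3
  rw [hC1, hB1, hA, Φ.L_eq_H, hH, hD] at hr'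
  rw [hD] at hG
  have hK : Φ.K = -1 := by linear_combination hr'
  refine ⟨hA, hB1, hC1, hD, hE2, hF3, ?_, hH, hK, Φ.L_eq_H.trans hH⟩
  linear_combination -hG - hK

end G2Rel

end Groth.Agent.Red23Lib.Pinned
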