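import Groth.Agent.Red23Lib.Pinned.Pair
import Mathlib.Algebra.DualNumber

/-!
# Transport of Weyl elements and braid relations
-/

set_option autoImplicit false
set_option linter.style.haveILetI false

universe u

open CategoryTheory CategoryTheory.Limits AlgebraicGeometry MonoidalCategory CartesianMonoidalCategory
open Groth.Agent.GrpSchLib Groth.Agent.GrpSchLib.RankOne
open scoped MonObj

noncomputable section

namespace Groth.Agent.Red23Lib.Pinned

variable {S : Scheme.{u}} {G : Over S} [GrpObj G] {D : Red.Pinning G}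
variable (hd : Duals D) (hax : CellAx D.toSplitRed D.base)

theorem neg_mem_negRoots {a : D.idx} (ha : a ∈ D.base.support) :
    neg D.toSplitRed a ∈ RedSub.negRoots D.P D.base := by
  show -D.P.root (neg D.toSplitRed a) ∈ AddSubmonoid.closure (D.P.root '' (D.base.support : Set D.idx))
  rw [root_neg' D.toSplitRed, neg_neg]
  exact mem_posRoots_of_mem D.base ha

include hax in
/-- Uniqueness of the decomposition along an opposite pair of simple roots. -/
theorem opp_cell_inj {b : D.idx} (hb : b ∈ D.base.support) {X : Over S} {y y' x x' : Γ(X.left, ⊤)}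
    {t t' : X ⟶ D.T}
    (h : up D.toSplitRed (neg D.toSplitRed b) y * (t ≫ D.i) * up D.toSplitRed b x =
      up D.toSplitRed (neg D.toSplitRed b) y' * (t' ≫ D.i) * up D.toSplitRed b x') : y = y' ∧ t = t' ∧ x = x' := by
  classical
  obtain ⟨_, _, _, e', -, hep⟩ := exists_enum D.base (fun _ : Fin 1 => b) (Function.injective_of_subsingleton _)
    fun _ => mem_posRoots_of_mem D.base hb
  let R := Finset.univ.filter (fun k => k ∈ RedSub.negRoots D.P D.base ∧ k ≠ neg D.toSplitRed b)
  let en : Fin R.card → D.idx := fun k => (R.equivFin.symm k : D.idx)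
  have hen : RedSub.Enumerates (RedSub.negRoots D.P D.base) (Fin.cons (neg D.toSplitRed b) en) := by
    refine ⟨Fin.cons_injective_iff.2 ⟨?_, fun i j h => R.equivFin.symm.injective (Subtype.ext h)⟩, ?_⟩
    · rintro ⟨k, hk⟩
      exact (Finset.mem_filter.1 (R.equivFin.symm k).2).2.2 hk
    · ext k
      constructor
      · rintro ⟨i, rfl⟩
        induction i using Fin.cases with
        | zero => rw [Fin.cons_zero]; exact neg_mem_negRoots hb
        | succ i => rw [Fin.cons_succ]; exact (Finset.mem_filter.1 (R.equivFin.symm i).2).2.1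
      · intro hk
        by_cases he : k = neg D.toSplitRed b
        · exact ⟨0, by rw [Fin.cons_zero, he]⟩
        · exact ⟨(R.equivFin ⟨k, Finset.mem_filter.2 ⟨Finset.mem_univ _, hk, he⟩⟩).succ, by
            rw [Fin.cons_succ]; simp [en]⟩
  have hcell : ∀ (y x : Γ(X.left, ⊤)) (t : X ⟶ D.T),
      cellPt D.toSplitRed (Fin.cons (neg D.toSplitRed b) en) (Fin.append (fun _ : Fin 1 => b) e')
        (Fin.cons y 0) t (Fin.append (fun _ => x) 0) =
      up D.toSplitRed (neg D.toSplitRed b) y * (t ≫ D.i) * up D.toSplitRed b x := by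
    intro y x t
    have h0 : ∀ {l : ℕ} (e : Fin l → D.idx),
        (List.ofFn fun k => up D.toSplitRed (e k) ((0 : Fin l → Γ(X.left, ⊤)) k)).prod = 1 := fun e =>
      List.prod_eq_one fun g hg => by
        obtain ⟨k, rfl⟩ := (List.mem_ofFn).1 hg
        exact up_zero D.toSplitRed _
    rw [cellPt, prod_up_append, h0 e', List.ofFn_succ, List.prod_cons]
    simp only [Fin.cons_zero, Fin.cons_succ]
    rw [h0 en]
    simp [List.ofFn_succ, mul_assoc]
  rw [← hcell, ← hcell] at h
  obtain ⟨h1, h2, h3⟩ := cellPt_inj D.toSplitRed (hax _ _ _ _ hen hep) h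
  exact ⟨by simpa using congrFun h1 0, h2, by simpa using congrFun h3 (Fin.castAdd _ 0)⟩

include hd hax in
/-- A family of the weight of a negative simple root is a multiple of the root homomorphism. -/
theorem exists_scale_neg {b : D.idx} (hb : b ∈ D.base.support) (v : ∀ X : Over S, Γ(X.left, ⊤) → (X ⟶ G))
    (hnat : ∀ {X Y : Over S} (g : Y ⟶ X) (x : Γ(X.left, ⊤)), v Y (g.left.appTop x) = g ≫ v X x)
    (hzero : ∀ X : Over S, v X 0 = 1)
    (hconj : ∀ (X : Over S) (t : X ⟶ D.T) (x : Γ(X.left, ⊤)),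
      v X ((ch D.toSplitRed t (D.P.root (neg D.toSplitRed b)) : Γ(X.left, ⊤)) * x) =
        (t ≫ D.i) * v X x * (t ≫ D.i)⁻¹) :
    ∃ C : Γ((𝟙_ (Over S)).left, ⊤), ∀ (X : Over S) (x : Γ(X.left, ⊤)),
      v X x = up D.toSplitRed (neg D.toSplitRed b) (cst C X * x) := by
  obtain ⟨C, hC⟩ := exists_scale hax (mem_posRoots_of_mem D.base hb)
    (fun X x => (W D.toSplitRed b X)⁻¹ * v X x * W D.toSplitRed b X)
    (fun g x => by simp only [MonObj.comp_mul, GrpObj.comp_inv, comp_W, hnat])
    (fun X => by simp [hzero]) (fun X t x => by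
      have e : (ch D.toSplitRed (sT D.toSplitRed b t) (D.P.root (neg D.toSplitRed b)) : Γ(X.left, ⊤)) =
          ch D.toSplitRed t (D.P.root b) := by
        rw [sT_ch_root, neg, RootPairing.reflectionPerm_self]
      rw [← e, hconj, ← W_conj_T hd hb]
      group)
  refine ⟨-C, fun X x => ?_⟩
  have h := hC X x
  have hneg : cst (-C) X = -cst C X := map_neg (toUnit X).left.appTop.hom C
  rw [hneg, neg_mul, ← W_conj_self hd hax hb, ← h]
  group

include hd hax in
/-- An element carrying one simple root group to another carries the Weyl element to the Weyl element. -/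
theorem conj_W {a b : D.idx} (ha : a ∈ D.base.support) (hb : b ∈ D.base.support) (g : ∀ X : Over S, X ⟶ G)
    (hg : ∀ {X Y : Over S} (f : Y ⟶ X), f ≫ g X = g Y)
    (σ : ∀ {X : Over S}, (X ⟶ D.T) → (X ⟶ D.T))
    (hσ : ∀ {X : Over S} (t : X ⟶ D.T), g X * (σ t ≫ D.i) * (g X)⁻¹ = t ≫ D.i)
    (hch : ∀ {X : Over S} (t : X ⟶ D.T), ch D.toSplitRed (σ t) (D.P.root a) = ch D.toSplitRed t (D.P.root b))
    (hT : ∀ {X : Over S} (t : X ⟶ D.T), ∃ t', g X * (t ≫ D.i) * (g X)⁻¹ = t' ≫ D.i)
    (h : ∀ (X : Over S) (x : Γ(X.left, ⊤)), g X * up D.toSplitRed a x * (g X)⁻¹ = up D.toSplitRed b x)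
    (X : Over S) : g X * W D.toSplitRed a X * (g X)⁻¹ = W D.toSplitRed b X := by
  obtain ⟨C, hC⟩ := exists_scale_neg hd hax hb
    (fun X x => g X * up D.toSplitRed (neg D.toSplitRed a) x * (g X)⁻¹)
    (fun f x => by simp only [MonObj.comp_mul, GrpObj.comp_inv, hg, comp_up])
    (fun X => by simp [up_zero]) (fun X t x => by
      have e : (ch D.toSplitRed (σ t) (D.P.root (neg D.toSplitRed a)) : Γ(X.left, ⊤)) =
          ch D.toSplitRed t (D.P.root (neg D.toSplitRed b)) := by
        have := hch t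
        simp only [ch] at this ⊢
        rw [root_neg' D.toSplitRed, root_neg' D.toSplitRed, dsCh_neg, dsCh_neg, this]
      rw [← e, ← conj_up, ← hσ t]
      group)
  have hC1 : C = 1 := by
    refine NatFn.eq_of_val_eq fun A s j => (sval s).injective ?_
    let E := DualNumber A
    let φ : A →+* E := TrivSqZeroExt.inlHom A A
    let s' : Spec (CommRingCat.of E) ⟶ S := Spec.map (CommRingCat.ofHom φ) ≫ s
    let Y : Over S := Over.mk s'
    let p : Y ⟶ Over.mk s := specHom φ rfl
    let ε : E := DualNumber.eps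
    let y : Γ(Y.left, ⊤) := (sval s').symm ε
    have hy : y * y = 0 := by rw [← map_mul, DualNumber.eps_mul_eps, map_zero]
    let u : (Γ(Y.left, ⊤))ˣ := ⟨1 + y, 1 - y, by linear_combination -hy, by linear_combination -hy⟩
    let u' : (Γ(Y.left, ⊤))ˣ := ⟨1 + cst C Y * y, 1 - cst C Y * y,
      by linear_combination -(cst C Y * cst C Y) * hy, by linear_combination -(cst C Y * cst C Y) * hy⟩
    have r1 : up D.toSplitRed a 1 * up D.toSplitRed (neg D.toSplitRed a) y =
        up D.toSplitRed (neg D.toSplitRed a) ((1 - y) * y) *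
          (cochar D.toSplitRed (corHom D.toSplitRed a) u ≫ D.i) * up D.toSplitRed a ((1 - y) * 1) :=
      (rsys hd ha Y).rule 1 y u (by rw [_root_.one_mul])
    have r2 : up D.toSplitRed b 1 * up D.toSplitRed (neg D.toSplitRed b) (cst C Y * y) =
        up D.toSplitRed (neg D.toSplitRed b) ((1 - cst C Y * y) * (cst C Y * y)) *
          (cochar D.toSplitRed (corHom D.toSplitRed b) u' ≫ D.i) * up D.toSplitRed b ((1 - cst C Y * y) * 1) :=
      (rsys hd hb Y).rule 1 (cst C Y * y) u' (by rw [_root_.one_mul])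
    -- conjugate the rule of `a`
    obtain ⟨t', ht'⟩ := hT (cochar D.toSplitRed (corHom D.toSplitRed a) u)
    have r3 := congrArg (fun e => g Y * e * (g Y)⁻¹) r1
    simp only [conj_distrib, h, hC, ht', mul_one] at r3
    rw [r2] at r3
    obtain ⟨-, -, h3⟩ := opp_cell_inj hax hb r3
    rw [mul_one] at h3
    have h4 : cst C Y * y = y := by linear_combination -h3
    have hcY : sval s' (cst C Y) = φ (sval s (j.left.appTop C)) := by
      rw [← sval_specHom (A := A) (B := CommRingCat.of E) (b := s) (b' := s') φ rfl, cst, ← toUnit_unique (p ≫ j) (toUnit Y), Over.comp_left, GmPts.appTop_comp_apply]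
    have h5 := congrArg (TrivSqZeroExt.snd ∘ sval s') h4
    simp only [Function.comp_apply, map_mul, y, RingEquiv.apply_symm_apply, hcY] at h5
    rw [map_one, map_one]
    rw [show φ = TrivSqZeroExt.inlHom A A from rfl, show ε = DualNumber.eps from rfl] at h5
    have key : ∀ c : A, TrivSqZeroExt.snd ((TrivSqZeroExt.inlHom A A c) * DualNumber.eps : DualNumber A) = c :=
      fun c => by simp
    exact (key _).symm.trans h5
  simp only [W, weylElt, conj_distrib, h, hC, hC1, cst_one, _root_.one_mul]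

/-- The value of a coroot at minus one. -/
def tau (D : Red.SplitRed G) (a : D.idx) (X : Over S) : X ⟶ G :=
  cochar D (corHom D a) (-1 : (Γ(X.left, ⊤))ˣ) ≫ D.i

theorem toUnit_tau (D : Red.Pinning G) (avc : D.idx → (Red.Gm S ⟶ D.T))
    (havc : ∀ a, avc a = Red.DSmap S (D.P.coroot a).toAddMonoidHom ≫ D.split.inv.hom.hom)
    (m₁ : 𝟙_ (Over S) ⟶ Red.Gm S) (hm₁ : Red.gmFn m₁ = -1) (a : D.idx) :
    m₁ ≫ avc a ≫ D.i = tau D.toSplitRed a (𝟙_ (Over S)) := by
  have e : m₁ = GmPts.ptOfUnit (-1 : (Γ((𝟙_ (Over S)).left, ⊤))ˣ) :=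
    GmPts.gmFn_injective (hm₁.trans (by simp only [GmPts.gmFn_ptOfUnit, Units.val_neg, Units.val_one]))
  rw [havc, e]
  rfl

theorem tau_mul_self (D : Red.SplitRed G) (a : D.idx) (X : Over S) : tau D a X * tau D a X = 1 := by
  haveI := D.maximalTorus.1
  rw [tau, ← MonObj.mul_comp]
  refine (congrArg (· ≫ D.i) (ch_ext D fun m => ?_ : _ = (1 : X ⟶ D.T))).trans (MonObj.one_comp D.i)
  rw [ch_mul, ch_cochar, ch_one, ← mul_zpow, neg_one_mul, neg_neg, one_zpow]

theorem tau_comm (D : Red.SplitRed G) (a b : D.idx) (X : Over S) : Commute (tau D a X) (tau D b X) := by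
  haveI := D.maximalTorus.1
  show _ * _ = _ * _
  rw [tau, tau, ← MonObj.mul_comp, ← MonObj.mul_comp, T_mul_comm]

include hd in
/-- Conjugation of a coroot value by a Weyl element, even case. -/
theorem W_tau_even {a : D.idx} (ha : a ∈ D.base.support) (b : D.idx) (h : Even (D.P.pairing a b)) (X : Over S) :
    W D.toSplitRed a X * tau D.toSplitRed b X = tau D.toSplitRed b X * W D.toSplitRed a X := by
  rw [← mul_inv_eq_iff_eq_mul, tau, W_conj_T hd ha]
  refine congrArg (· ≫ D.i) (ch_ext D.toSplitRed fun m => ?_)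
  rw [ch_sT, reflection_eq D.toSplitRed, ch_cochar, ch_cochar, map_sub, map_zsmul, corHom_root, smul_eq_mul, zpow_sub,
    (h.mul_left _).neg_one_zpow, inv_one, _root_.mul_one]

include hd in
/-- Conjugation of a coroot value by a Weyl element, odd case. -/
theorem W_tau_odd {a : D.idx} (ha : a ∈ D.base.support) (b : D.idx) (h : Odd (D.P.pairing a b)) (X : Over S) :
    W D.toSplitRed a X * tau D.toSplitRed b X =
      tau D.toSplitRed b X * tau D.toSplitRed a X * W D.toSplitRed a X := by
  haveI := D.maximalTorus.1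
  rw [← mul_inv_eq_iff_eq_mul, tau, tau, W_conj_T hd ha, ← MonObj.mul_comp]
  refine congrArg (· ≫ D.i) (ch_ext D.toSplitRed fun m => ?_)
  rw [ch_mul, ch_sT, reflection_eq D.toSplitRed, ch_cochar, ch_cochar, ch_cochar, map_sub, map_zsmul, corHom_root,
    smul_eq_mul, zpow_sub, mul_comm (corHom D.toSplitRed a m) _, zpow_mul, h.neg_one_zpow, ← inv_zpow, inv_neg, inv_one]

end Groth.Agent.Red23Lib.Pinned

end
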