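import Groth.Agent.S3951
import Groth.Agent.Red23Lib.Pinned.Braid

/-!
# The big cell of a pinning and the points of its Weyl elements
-/

set_option autoImplicit false
set_option linter.style.haveILetI false

universe u

open CategoryTheory CategoryTheory.Limits AlgebraicGeometry MonoidalCategory CartesianMonoidalCategory
open scoped MonObj

noncomputable section

namespace Groth.Agent.Red23Lib.Pinned

variable {S : Scheme.{u}} {G : Over S} [GrpObj G]

theorem cellAx (D : Red.SplitRed G) (b : D.P.Base) : CellAx D b := fun _ _ en ep hn hp =>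
  (Groth.Agent.S3951.result D b en ep hn hp).1

theorem up_neg (D : Red.SplitRed G) (c : D.idx) {X : Over S} (v : Γ(X.left, ⊤)) :
    up D c (-v) = (up D c v)⁻¹ := (isParam_up D c X).neg v

/-- The product of two Weyl elements, at the base. -/
theorem W_base (D : Red.Pinning G) (e₁ : 𝟙_ (Over S) ⟶ Red.Ga S) (he₁ : Red.gaFn e₁ = 1)
    (w : D.idx → (𝟙_ (Over S) ⟶ G))
    (hw : ∀ a, w a = (e₁ ≫ D.u a) * (e₁ ≫ D.u (D.P.reflectionPerm a a))⁻¹ * (e₁ ≫ D.u a)) (a : D.idx) :
    w a = W D.toSplitRed a (𝟙_ (Over S)) := by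
  rw [← toUnit_w D e₁ he₁ w hw a, show toUnit (𝟙_ (Over S)) = 𝟙 _ from toUnit_unique _ _, Category.id_comp]

end Groth.Agent.Red23Lib.Pinned

end
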