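import Mathlib.Algebra.Group.Commute.Basic
import Mathlib.Tactic.Group

/-!
# The powers of products of two Weyl elements satisfying a braid relation
-/

namespace Groth.Agent.Red23Lib.Pinned

variable {G : Type*} [Group G] {x y α β : G} (hx : x * x = α) (hy : y * y = β) (hα : α * α = 1) (hβ : β * β = 1)
  (hyβ : y * β = β * y)

include hx hy

theorem pow_two_of_commute (h : x * y = y * x) : (x * y) ^ 2 = α * β ∧ (y * x) ^ 2 = α * β := by
  have h1 : (x * y) ^ 2 = α * β := by
    rw [pow_two, mul_assoc, ← mul_assoc y x y, ← h, mul_assoc x y y, hy, ← mul_assoc, hx]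
  exact ⟨h1, h ▸ h1⟩

include hα hβ hyβ

theorem pow_three_of_braid (hxb : x * β = β * α * x) (hya : y * α = α * β * y) (hxα : x * α = α * x)
    (h : x * y * x = y * x * y) : (x * y) ^ 3 = 1 ∧ (y * x) ^ 3 = 1 := by
  constructor
  · calc (x * y) ^ 3 = (x * y * x) * (y * x * y) := by simp [pow_succ, mul_assoc]
      _ = y * x * (y * y) * x * y := by rw [h]; simp only [mul_assoc]
      _ = y * (x * β) * x * y := by rw [hy]; simp only [mul_assoc]
      _ = y * (β * α * (x * x)) * y := by rw [hxb]; simp only [mul_assoc]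
      _ = (y * β) * y := by rw [hx, mul_assoc β, hα, mul_one]
      _ = 1 := by rw [hyβ, mul_assoc, hy, hβ]
  · calc (y * x) ^ 3 = (y * x * y) * (x * y * x) := by simp [pow_succ, mul_assoc]
      _ = x * y * (x * x) * y * x := by rw [← h]; simp only [mul_assoc]
      _ = x * (y * α) * y * x := by rw [hx]; simp only [mul_assoc]
      _ = x * (α * β * (y * y)) * x := by rw [hya]; simp only [mul_assoc]
      _ = (x * α) * x := by rw [hy, mul_assoc α, hβ, mul_one]
      _ = 1 := by rw [hxα, mul_assoc, hx, hα]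

theorem pow_four_of_braid (hxb : x * β = β * α * x)
    (h : x * y * x * y = y * x * y * x) : (x * y) ^ 4 = α ∧ (y * x) ^ 4 = α := by
  have h1 : (x * y) ^ 4 = α := by
    calc (x * y) ^ 4 = (x * y * x * y) * (x * y * x * y) := by simp [pow_succ, mul_assoc]
      _ = (x * y * x * y) * (y * x * y * x) := by rw [h]
      _ = x * y * (x * (y * y)) * x * y * x := by simp only [mul_assoc]
      _ = x * y * (β * α * (x * x)) * y * x := by rw [hy, hxb]; simp only [mul_assoc]
      _ = x * ((y * β) * y) * x := by rw [hx, mul_assoc β, hα, mul_one]; simp only [mul_assoc]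
      _ = α := by rw [hyβ, mul_assoc β, hy, hβ, mul_one, hx]
  refine ⟨h1, ?_⟩
  calc (y * x) ^ 4 = (y * x * y * x) * (y * x * y * x) := by simp [pow_succ, mul_assoc]
    _ = (x * y) ^ 4 := by rw [← h]; simp [pow_succ, mul_assoc]
    _ = α := h1

theorem pow_six_of_braid (hxb : x * β = β * α * x) (hya : y * α = α * β * y) (hxα : x * α = α * x)
    (h : x * y * x * y * x * y = y * x * y * x * y * x) : (x * y) ^ 6 = 1 ∧ (y * x) ^ 6 = 1 := by
  have h1 : (x * y) ^ 6 = 1 := by
    calc (x * y) ^ 6 = (x * y * x * y * x * y) * (x * y * x * y * x * y) := by simp [pow_succ, mul_assoc]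
      _ = (x * y * x * y * x * y) * (y * x * y * x * y * x) := by rw [h]
      _ = x * y * x * y * (x * (y * y)) * x * y * x * y * x := by simp only [mul_assoc]
      _ = x * y * x * y * (β * α * (x * x)) * y * x * y * x := by rw [hy, hxb]; simp only [mul_assoc]
      _ = x * y * x * ((y * β) * y) * x * y * x := by rw [hx, mul_assoc β, hα, mul_one]; simp only [mul_assoc]
      _ = x * y * (x * x) * y * x := by rw [hyβ, mul_assoc β, hy, hβ, mul_one]; simp only [mul_assoc]
      _ = x * (α * β * (y * y)) * x := by rw [hx, mul_assoc x y α, hya]; simp only [mul_assoc]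
      _ = (x * α) * x := by rw [hy, mul_assoc α, hβ, mul_one]
      _ = 1 := by rw [hxα, mul_assoc, hx, hα]
  refine ⟨h1, ?_⟩
  calc (y * x) ^ 6 = (y * x * y * x * y * x) * (y * x * y * x * y * x) := by simp [pow_succ, mul_assoc]
    _ = (x * y) ^ 6 := by rw [← h]; simp [pow_succ, mul_assoc]
    _ = 1 := h1

end Groth.Agent.Red23Lib.Pinned
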