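import Groth.Agent.Red23Lib.Pinned.Torus
import Groth.Agent.Red23Lib.Pinned.Tuple
import Mathlib.RingTheory.Localization.FractionRing
import Mathlib.Algebra.Polynomial.Basic

/-!
# Families equivariant for a split torus land in the big cell
-/

set_option autoImplicit false
set_option linter.style.haveILetI false

universe u

open CategoryTheory CategoryTheory.Limits AlgebraicGeometry MonoidalCategory CartesianMonoidalCategory
open Groth.Agent.GrpSchLib Groth.Agent.GrpSchLib.RankOne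
open scoped MonObj Polynomial

noncomputable section

namespace Groth.Agent.Red23Lib.Pinned

variable {S : Scheme.{u}} {G : Over S} [GrpObj G] (D : Red.SplitRed G)

/-- The root homomorphism evaluated at a function. -/
def up (c : D.idx) {X : Over S} (v : Γ(X.left, ⊤)) : X ⟶ G := GaPts.ptOfFn v ≫ D.u c

theorem comp_ptOfFn {X Y : Over S} (g : Y ⟶ X) (v : Γ(X.left, ⊤)) :
    g ≫ (GaPts.ptOfFn v : X ⟶ Red.Ga S) = GaPts.ptOfFn (g.left.appTop v) :=
  GaPts.gaFn_injective (by simp only [GaPts.gaFn_comp, GaPts.gaFn_ptOfFn])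

theorem comp_up (c : D.idx) {X Y : Over S} (g : Y ⟶ X) (v : Γ(X.left, ⊤)) :
    g ≫ up D c v = up D c (g.left.appTop v) := by rw [up, up, ← Category.assoc, comp_ptOfFn]

theorem up_eq (c : D.idx) {X : Over S} (x : X ⟶ Red.Ga S) : x ≫ D.u c = up D c (Red.gaFn x) := by
  rw [up]
  exact congrArg (· ≫ D.u c) (GaPts.gaFn_injective (GaPts.gaFn_ptOfFn _).symm)

theorem up_add (c : D.idx) {X : Over S} (v w : Γ(X.left, ⊤)) : up D c (v + w) = up D c v * up D c w := by
  haveI : IsMonHom (D.u c) := (D.rootHom c).1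
  refine Eq.trans ?_ (MonObj.mul_comp _ _ (D.u c))
  exact congrArg (· ≫ D.u c) (GaPts.gaFn_injective (by simp only [GaPts.gaFn_mul, GaPts.gaFn_ptOfFn]))

theorem up_zero (c : D.idx) {X : Over S} : up D c (0 : Γ(X.left, ⊤)) = 1 := by
  have h := up_add D c (0 : Γ(X.left, ⊤)) 0
  simpa using h

theorem up_injective (c : D.idx) {X : Over S} : Function.Injective (up D c : Γ(X.left, ⊤) → (X ⟶ G)) := by
  intro v w h
  haveI := (D.rootHom c).2.1
  haveI : Mono (D.u c) := (Over.forget S).mono_of_mono_map (inferInstanceAs (Mono (D.u c).left))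
  have := congrArg Red.gaFn ((cancel_mono (D.u c)).1 h)
  simpa only [GaPts.gaFn_ptOfFn] using this

/-- The value of a character at a point of the maximal torus. -/
def ch {X : Over S} (t : X ⟶ D.T) (m : D.M) : (Γ(X.left, ⊤))ˣ := dsCh (t ≫ D.split.hom.hom.hom) m

theorem ch_comp {X Y : Over S} (g : Y ⟶ X) (t : X ⟶ D.T) (m : D.M) :
    (ch D (g ≫ t) m : Γ(Y.left, ⊤)) = g.left.appTop (ch D t m : Γ(X.left, ⊤)) := by
  rw [ch, ch, Category.assoc, dsCh_comp]

theorem ch_one {X : Over S} (m : D.M) : ch D (1 : X ⟶ D.T) m = 1 := by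
  haveI : IsMonHom (M := D.T) (N := Red.DS S D.M) D.split.hom.hom.hom := D.split.hom.hom.isMonHom_hom
  exact (congrArg (dsCh · m) (MonObj.one_comp D.split.hom.hom.hom)).trans (dsCh_one m)

theorem ch_mul {X : Over S} (t t' : X ⟶ D.T) (m : D.M) : ch D (t * t') m = ch D t m * ch D t' m := by
  haveI : IsMonHom (M := D.T) (N := Red.DS S D.M) D.split.hom.hom.hom := D.split.hom.hom.isMonHom_hom
  exact (congrArg (dsCh · m) (MonObj.mul_comp t t' D.split.hom.hom.hom)).trans (dsCh_mul _ _ m)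

theorem ch_inv {X : Over S} (t : X ⟶ D.T) (m : D.M) : ch D t⁻¹ m = (ch D t m)⁻¹ :=
  eq_inv_of_mul_eq_one_left (by rw [← ch_mul, inv_mul_cancel, ch_one])

theorem ch_ext {X : Over S} {t t' : X ⟶ D.T} (h : ∀ m, ch D t m = ch D t' m) : t = t' := by
  haveI : IsIso D.split.hom.hom.hom := ((Grp.forget _).mapIso D.split).isIso_hom
  exact (cancel_mono D.split.hom.hom.hom).1 (dsCh_ext h)

theorem T_mul_comm {X : Over S} (t t' : X ⟶ D.T) : t * t' = t' * t :=
  ch_ext D fun m => by rw [ch_mul, ch_mul, mul_comm]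

theorem conj_up (c : D.idx) {X : Over S} (t : X ⟶ D.T) (v : Γ(X.left, ⊤)) :
    (t ≫ D.i) * up D c v * (t ≫ D.i)⁻¹ = up D c ((ch D t (D.P.root c) : Γ(X.left, ⊤)) * v) := by
  obtain ⟨y, hy, hv⟩ := (D.rootHom c).2.2 X t (GaPts.ptOfFn v)
  rw [GaPts.gaFn_ptOfFn] at hv
  rw [up, ← hy, up_eq, hv, ch, val_dsCh, Category.assoc]

/-- The point of the torus given by a cocharacter. -/
def cochar (l : D.M →+ ℤ) {X : Over S} (z : (Γ(X.left, ⊤))ˣ) : X ⟶ D.T :=
  GmPts.ptOfUnit z ≫ Red.DSmap S l ≫ D.split.inv.hom.hom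

theorem ch_cochar (l : D.M →+ ℤ) {X : Over S} (z : (Γ(X.left, ⊤))ˣ) (m : D.M) :
    ch D (cochar D l z) m = z ^ l m := by
  have e : D.split.inv.hom.hom ≫ D.split.hom.hom.hom = 𝟙 _ := ((Grp.forget _).mapIso D.split).inv_hom_id
  rw [ch, cochar, Category.assoc, Category.assoc, e, Category.comp_id, dsCh_DSmap, dsCh_ptOfUnit]

/-- The hypothesis that the cell maps of a base are open immersions. -/
def CellAx (b : D.P.Base) : Prop :=
  ∀ (n m : ℕ) (eneg : Fin n → D.idx) (epos : Fin m → D.idx), RedSub.Enumerates (RedSub.negRoots D.P b) eneg →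
    RedSub.Enumerates (RedSub.posRoots D.P b) epos → IsOpenImmersion (RedSub.cellMap D eneg epos).left

section Cell

variable {n m : ℕ} (eneg : Fin n → D.idx) (epos : Fin m → D.idx)

/-- The point of the cell with given coordinates. -/
def cellPt {X : Over S} (y : Fin n → Γ(X.left, ⊤)) (t : X ⟶ D.T) (x : Fin m → Γ(X.left, ⊤)) : X ⟶ G :=
  (List.ofFn fun k => up D (eneg k) (y k)).prod * ((t ≫ D.i) * (List.ofFn fun k => up D (epos k) (x k)).prod)

/-- The point of the source of the cell map with given coordinates. -/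
def coordPt {X : Over S} (y : Fin n → Γ(X.left, ⊤)) (t : X ⟶ D.T) (x : Fin m → Γ(X.left, ⊤)) :
    X ⟶ RedSub.pow (Red.Ga S) n ⊗ (D.T ⊗ RedSub.pow (Red.Ga S) m) :=
  lift (tuple fun k => GaPts.ptOfFn (y k)) (lift t (tuple fun k => GaPts.ptOfFn (x k)))

theorem coordPt_cellMap {X : Over S} (y : Fin n → Γ(X.left, ⊤)) (t : X ⟶ D.T) (x : Fin m → Γ(X.left, ⊤)) :
    coordPt D y t x ≫ RedSub.cellMap D eneg epos = cellPt D eneg epos y t x := by
  simp only [coordPt, RedSub.cellMap, MonObj.comp_mul, lift_fst_assoc, lift_snd_assoc, tuple_prodMap]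
  rfl

theorem exists_coordPt {X : Over S} (q : X ⟶ RedSub.pow (Red.Ga S) n ⊗ (D.T ⊗ RedSub.pow (Red.Ga S) m)) :
    ∃ y t x, q = coordPt D y t x := by
  refine ⟨fun k => Red.gaFn ((q ≫ fst _ _) ≫ proj _ k), q ≫ snd _ _ ≫ fst _ _,
    fun k => Red.gaFn ((q ≫ snd _ _ ≫ snd _ _) ≫ proj _ k), ?_⟩
  have hp : ∀ p : X ⟶ Red.Ga S, GaPts.ptOfFn (Red.gaFn p) = p := fun p =>
    GaPts.gaFn_injective (GaPts.gaFn_ptOfFn _)
  simp only [coordPt, hp, tuple_eta]
  refine CartesianMonoidalCategory.hom_ext _ _ (lift_fst _ _).symm ?_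
  rw [lift_snd]
  refine CartesianMonoidalCategory.hom_ext _ _ ?_ ?_ <;> simp

theorem comp_cellPt {X Y : Over S} (g : Y ⟶ X) (y : Fin n → Γ(X.left, ⊤)) (t : X ⟶ D.T)
    (x : Fin m → Γ(X.left, ⊤)) :
    g ≫ cellPt D eneg epos y t x =
      cellPt D eneg epos (fun k => g.left.appTop (y k)) (g ≫ t) (fun k => g.left.appTop (x k)) := by
  rw [← coordPt_cellMap, ← coordPt_cellMap, ← Category.assoc]
  congr 1
  simp only [coordPt, CartesianMonoidalCategory.comp_lift, comp_tuple, comp_ptOfFn]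

theorem cellPt_one {X : Over S} : cellPt D eneg epos (0 : Fin n → Γ(X.left, ⊤)) 1 0 = 1 := by
  haveI := D.maximalTorus.1
  have h : ∀ {l : ℕ} (e : Fin l → D.idx),
      (List.ofFn fun k => up D (e k) ((0 : Fin l → Γ(X.left, ⊤)) k)).prod = 1 := fun e =>
    List.prod_eq_one fun g hg => by
      obtain ⟨k, rfl⟩ := (List.mem_ofFn).1 hg
      exact up_zero D _
  rw [cellPt, h, h, MonObj.one_comp, one_mul, one_mul]

theorem conj_prod {X : Over S} (g : X ⟶ G) {l : ℕ} (f : Fin l → (X ⟶ G)) :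
    g * (List.ofFn f).prod * g⁻¹ = (List.ofFn fun k => g * f k * g⁻¹).prod := by
  have h := map_list_prod (MulAut.conj g).toMonoidHom (List.ofFn f)
  rw [List.map_ofFn] at h
  exact h

theorem conj_cellPt {X : Over S} (s : X ⟶ D.T) (y : Fin n → Γ(X.left, ⊤)) (t : X ⟶ D.T)
    (x : Fin m → Γ(X.left, ⊤)) :
    (s ≫ D.i) * cellPt D eneg epos y t x * (s ≫ D.i)⁻¹ =
      cellPt D eneg epos (fun k => (ch D s (D.P.root (eneg k)) : Γ(X.left, ⊤)) * y k) t
        (fun k => (ch D s (D.P.root (epos k)) : Γ(X.left, ⊤)) * x k) := by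
  haveI := D.maximalTorus.1
  have hc : (s ≫ D.i) * (t ≫ D.i) * (s ≫ D.i)⁻¹ = t ≫ D.i := by
    rw [← MonObj.mul_comp, T_mul_comm, MonObj.mul_comp, mul_inv_cancel_right]
  calc (s ≫ D.i) * cellPt D eneg epos y t x * (s ≫ D.i)⁻¹
      = ((s ≫ D.i) * (List.ofFn fun k => up D (eneg k) (y k)).prod * (s ≫ D.i)⁻¹) *
          (((s ≫ D.i) * (t ≫ D.i) * (s ≫ D.i)⁻¹) *
            ((s ≫ D.i) * (List.ofFn fun k => up D (epos k) (x k)).prod * (s ≫ D.i)⁻¹)) := by
        rw [cellPt]; group
    _ = _ := by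
        rw [hc, conj_prod, conj_prod]
        simp only [conj_up]
        rfl

variable {eneg epos} (hΩ : IsOpenImmersion (RedSub.cellMap D eneg epos).left)

include hΩ

theorem cellPt_inj {X : Over S} {y y' : Fin n → Γ(X.left, ⊤)} {t t' : X ⟶ D.T} {x x' : Fin m → Γ(X.left, ⊤)}
    (h : cellPt D eneg epos y t x = cellPt D eneg epos y' t' x') : y = y' ∧ t = t' ∧ x = x' := by
  haveI : Mono (RedSub.cellMap D eneg epos) :=
    (Over.forget S).mono_of_mono_map (inferInstanceAs (Mono (RedSub.cellMap D eneg epos).left))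
  rw [← coordPt_cellMap, ← coordPt_cellMap, cancel_mono] at h
  have h1 := congrArg (fun k => k ≫ fst _ _) h
  have h2 := congrArg (fun k => k ≫ snd _ _ ≫ fst _ _) h
  have h3 := congrArg (fun k => k ≫ snd _ _ ≫ snd _ _) h
  simp only [coordPt, lift_fst, lift_snd_assoc, lift_snd] at h1 h2 h3
  refine ⟨funext fun k => ?_, h2, funext fun k => ?_⟩
  · have := congrArg (fun p => Red.gaFn (p ≫ proj _ k)) h1
    simpa only [tuple_proj, GaPts.gaFn_ptOfFn] using this
  · have := congrArg (fun p => Red.gaFn (p ≫ proj _ k)) h3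
    simpa only [tuple_proj, GaPts.gaFn_ptOfFn] using this

/-- A point with image in the cell is a point of the cell. -/
theorem exists_cellPt_of_range {X : Over S} (g : X ⟶ G)
    (h : Set.range g.left ⊆ Set.range (RedSub.cellMap D eneg epos).left) :
    ∃ y t x, g = cellPt D eneg epos y t x := by
  let l : X ⟶ RedSub.pow (Red.Ga S) n ⊗ (D.T ⊗ RedSub.pow (Red.Ga S) m) :=
    Over.homMk (IsOpenImmersion.lift (RedSub.cellMap D eneg epos).left g.left h) (by
      rw [← Over.w (RedSub.cellMap D eneg epos), IsOpenImmersion.lift_fac_assoc, Over.w])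
  have hl : l ≫ RedSub.cellMap D eneg epos = g := Over.OverMorphism.ext (IsOpenImmersion.lift_fac _ _ _)
  obtain ⟨y, t, x, hq⟩ := exists_coordPt D l
  exact ⟨y, t, x, by rw [← hl, hq, coordPt_cellMap]⟩

end Cell

/-- A natural family of points of `G`, equivariant for given weights. -/
structure EqFam (κ : Type) (w : κ → D.M) where
  toFun : ∀ X : Over S, (κ → Γ(X.left, ⊤)) → (X ⟶ G)
  natural : ∀ {X Y : Over S} (g : Y ⟶ X) (x : κ → Γ(X.left, ⊤)),
    toFun Y (fun k => g.left.appTop (x k)) = g ≫ toFun X x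
  zero : ∀ X : Over S, toFun X 0 = 1
  equiv : ∀ (X : Over S) (t : X ⟶ D.T) (x : κ → Γ(X.left, ⊤)),
    toFun X (fun k => (ch D t (w k) : Γ(X.left, ⊤)) * x k) = (t ≫ D.i) * toFun X x * (t ≫ D.i)⁻¹

namespace EqFam

variable {D} {κ : Type} {w : κ → D.M} (F : EqFam D κ w) {n m : ℕ} {eneg : Fin n → D.idx} {epos : Fin m → D.idx}
  (hΩ : IsOpenImmersion (RedSub.cellMap D eneg epos).left) (l : D.M →+ ℤ) (hl : ∀ k, 0 < l (w k))

include hΩ hl

/-- Over a field the values lie in the cell. -/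
theorem mem_range_of_field (K : Type u) [Field K] (b : Spec (CommRingCat.of K) ⟶ S)
    (x : κ → Γ((Over.mk b).left, ⊤)) :
    Set.range (F.toFun _ x).left ⊆ Set.range (RedSub.cellMap D eneg epos).left := by
  let R := K[X]
  let bR : Spec (CommRingCat.of R) ⟶ S := Spec.map (CommRingCat.ofHom (Polynomial.C : K →+* R)) ≫ b
  let xR : κ → Γ((Over.mk bR).left, ⊤) := fun k =>
    (sval bR).symm (Polynomial.C (sval b (x k)) * Polynomial.X ^ (l (w k)).toNat)
  let g : Over.mk bR ⟶ G := F.toFun _ xR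
  let Ω : Set G.left := Set.range (RedSub.cellMap D eneg epos).left
  have hopen : IsOpen Ω := (RedSub.cellMap D eneg epos).left.isOpenEmbedding.isOpen_range
  -- the origin of the line
  have h0 : Spec.map (CommRingCat.ofHom (Polynomial.evalRingHom (0 : K) : R →+* K)) ≫ bR = b := by
    rw [← Category.assoc, ← Spec.map_comp, ← CommRingCat.ofHom_comp,
      show (Polynomial.evalRingHom (0 : K)).comp Polynomial.C = RingHom.id K from RingHom.ext fun r => by simp]
    simp
  have hg0 : specHom (A := CommRingCat.of R) (B := CommRingCat.of K) _ h0 ≫ g = 1 := by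
    rw [← F.natural, ← F.zero]
    congr 1
    funext k
    rw [appTop_specHom]
    have : (l (w k)).toNat ≠ 0 := by have := hl k; omega
    rw [map_mul, map_pow, show Polynomial.evalRingHom (0 : K) Polynomial.X = 0 from Polynomial.eval_X, zero_pow this, mul_zero]
    exact map_zero (sval b).symm
  let p0 : Spec (CommRingCat.of K) := ⟨⊥, Ideal.isPrime_bot⟩
  let q0 : Spec (CommRingCat.of R) := Spec.map (CommRingCat.ofHom (Polynomial.evalRingHom (0 : K) : R →+* K)) p0
  have hq0 : g.left q0 ∈ Ω := by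
    have e := hg0.trans (cellPt_one D eneg epos).symm
    rw [← coordPt_cellMap] at e
    exact ⟨_, (congrArg (fun k : Over.mk b ⟶ G => k.left p0) e).symm⟩
  -- the generic point of the line
  let L := FractionRing R
  let φ : R →+* L := algebraMap R L
  let ζ : Spec (CommRingCat.of R) := ⟨⊥, Ideal.isPrime_bot⟩
  have hζ : g.left ζ ∈ Ω := by
    have hs : ζ ⤳ q0 := (PrimeSpectrum.le_iff_specializes _ _).1 bot_le
    exact (hs.map g.left.continuous).mem_open hopen hq0
  let bL : Spec (CommRingCat.of L) ⟶ S := Spec.map (CommRingCat.ofHom φ) ≫ bR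
  let ψ : K →+* L := φ.comp Polynomial.C
  have hψ : Spec.map (CommRingCat.ofHom ψ) ≫ b = bL := by
    simp only [bL, bR, ψ, CommRingCat.ofHom_comp, Spec.map_comp, Category.assoc]
  have hgL : Set.range (specHom (A := CommRingCat.of R) (B := CommRingCat.of L) φ rfl ≫ g).left ⊆ Ω := by
    rintro _ ⟨p, rfl⟩
    have hp : Spec.map (CommRingCat.ofHom φ) p = ζ := by
      apply PrimeSpectrum.ext
      show Ideal.comap φ p.asIdeal = ⊥
      rw [((Ideal.eq_bot_or_top p.asIdeal).resolve_right p.isPrime.ne_top), ← RingHom.ker_eq_comap_bot,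
        (RingHom.injective_iff_ker_eq_bot φ).1 (IsFractionRing.injective R L)]
    exact (congrArg g.left hp).symm ▸ hζ
  obtain ⟨y, t, z, hyz⟩ := exists_cellPt_of_range D hΩ _ hgL
  -- rescale to parameter one
  have hX : φ Polynomial.X ≠ 0 := by
    exact (map_ne_zero_iff φ (IsFractionRing.injective R L)).2 Polynomial.X_ne_zero
  let Z : (Γ((Over.mk bL).left, ⊤))ˣ := Units.map (sval bL).symm.toMonoidHom (Units.mk0 _ hX)
  let s : Over.mk bL ⟶ D.T := cochar D l Z
  let xL : κ → Γ((Over.mk bL).left, ⊤) := fun k =>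
    (specHom (A := CommRingCat.of K) (B := CommRingCat.of L) ψ hψ).left.appTop (x k)
  have hs : (fun k => (ch D s (w k) : Γ((Over.mk bL).left, ⊤)) * xL k) =
      fun k => (specHom (A := CommRingCat.of R) (B := CommRingCat.of L) φ rfl).left.appTop (xR k) := by
    funext k
    apply (sval bL).injective
    rw [ch_cochar, map_mul, sval_specHom, sval_specHom]
    conv_lhs => rw [← Int.toNat_of_nonneg (hl k).le, zpow_natCast, Units.val_pow_eq_pow_val, map_pow]
    simp only [Z, xR, Units.coe_map, RingEquiv.apply_symm_apply, map_mul, map_pow, ψ, RingHom.comp_apply]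
    rw [show sval bL ((sval bL).symm.toMonoidHom (Units.mk0 (φ Polynomial.X) hX : L)) = φ Polynomial.X from
      RingEquiv.apply_symm_apply _ _]
    ring
  have e1 : F.toFun _ xL = (s ≫ D.i)⁻¹ * cellPt D eneg epos y t z * (s ≫ D.i) := by
    rw [← hyz, ← F.natural, ← hs, F.equiv]
    group
    rfl
  have e2 : ∃ y' t' z', F.toFun _ xL = cellPt D eneg epos y' t' z' := by
    haveI := D.maximalTorus.1
    have := conj_cellPt D eneg epos s⁻¹ y t z
    rw [GrpObj.inv_comp, inv_inv] at this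
    exact ⟨_, _, _, e1.trans this⟩
  obtain ⟨y', t', z', h'⟩ := e2
  rintro _ ⟨p, rfl⟩
  let pL : Spec (CommRingCat.of L) := ⟨⊥, Ideal.isPrime_bot⟩
  have hp : p = Spec.map (CommRingCat.ofHom ψ) pL := by
    apply PrimeSpectrum.ext
    exact ((Ideal.eq_bot_or_top _).resolve_right (PrimeSpectrum.isPrime _).ne_top).trans
      ((Ideal.eq_bot_or_top _).resolve_right (PrimeSpectrum.isPrime _).ne_top).symm
  rw [F.natural, ← coordPt_cellMap] at h'
  exact ⟨_, ((congrArg (fun k : Over.mk bL ⟶ G => k.left pL) h').symm).trans (congrArg (F.toFun _ x).left hp.symm)⟩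

/-- The values lie in the cell. -/
theorem exists_cellPt (X : Over S) (x : κ → Γ(X.left, ⊤)) :
    ∃ y t z, F.toFun X x = cellPt D eneg epos y t z := by
  refine exists_cellPt_of_range D hΩ _ ?_
  rintro _ ⟨p, rfl⟩
  let j : Over.mk (X.left.fromSpecResidueField p ≫ X.hom) ⟶ X := Over.homMk (X.left.fromSpecResidueField p) rfl
  let p0 : Spec (CommRingCat.of (X.left.residueField p)) := ⟨⊥, Ideal.isPrime_bot⟩
  have hp : j.left p0 = p := by
    have hm : j.left p0 ∈ Set.range (X.left.fromSpecResidueField p) := ⟨p0, rfl⟩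
    rwa [Scheme.range_fromSpecResidueField, Set.mem_singleton_iff] at hm
  have := F.mem_range_of_field hΩ l hl (X.left.residueField p) _ (fun k => j.left.appTop (x k)) ⟨p0, rfl⟩
  rw [F.natural] at this
  exact hp ▸ this

/-- The coordinates of the values in a cell whose first roots take negative values under `l`. -/
theorem exists_coeff [Fintype κ] (hneg : ∀ k, l (D.P.root (eneg k)) < 0) :
    ∃ Φ : Fin m → NatFn S κ, (∀ k, (Φ k).Homog w (D.P.root (epos k))) ∧
      ∀ (X : Over S) (x : κ → Γ(X.left, ⊤)),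
        F.toFun X x = (List.ofFn fun k => up D (epos k) ((Φ k).toFun X x)).prod := by
  choose Y T Z hF using fun X x => F.exists_cellPt hΩ l hl X x
  have hnat : ∀ {X X' : Over S} (g : X' ⟶ X) (x : κ → Γ(X.left, ⊤)),
      Y X' (fun k => g.left.appTop (x k)) = (fun k => g.left.appTop (Y X x k)) ∧
      T X' (fun k => g.left.appTop (x k)) = g ≫ T X x ∧
      Z X' (fun k => g.left.appTop (x k)) = fun k => g.left.appTop (Z X x k) := fun g x =>
    cellPt_inj D hΩ (by rw [← hF, F.natural, hF, comp_cellPt])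
  have heq : ∀ (X : Over S) (t : X ⟶ Red.DS S D.M) (x : κ → Γ(X.left, ⊤)),
      Y X (fun k => Red.gmFn (t ≫ Red.chi S (w k)) * x k) =
        (fun k => Red.gmFn (t ≫ Red.chi S (D.P.root (eneg k))) * Y X x k) ∧
      T X (fun k => Red.gmFn (t ≫ Red.chi S (w k)) * x k) = T X x ∧
      Z X (fun k => Red.gmFn (t ≫ Red.chi S (w k)) * x k) =
        fun k => Red.gmFn (t ≫ Red.chi S (D.P.root (epos k))) * Z X x k := by
    intro X t x
    have e : D.split.inv.hom.hom ≫ D.split.hom.hom.hom = 𝟙 _ := ((Grp.forget _).mapIso D.split).inv_hom_id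
    have hs : ∀ m, (ch D (t ≫ D.split.inv.hom.hom) m : Γ(X.left, ⊤)) = Red.gmFn (t ≫ Red.chi S m) := by
      intro m
      rw [ch, Category.assoc, e, Category.comp_id, val_dsCh]
    simp only [← hs]
    exact cellPt_inj D hΩ (by rw [← hF, F.equiv, hF, conj_cellPt])
  have h0 : ∀ X, T X 0 = 1 := fun X =>
    (cellPt_inj D hΩ (((hF X 0).symm.trans (F.zero X)).trans (cellPt_one D eneg epos).symm)).2.1
  have hwt : ∀ d : κ → ℕ, 0 ≤ l (NatFn.wt w d) := fun d => by
    rw [NatFn.wt, map_sum]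
    exact Finset.sum_nonneg fun k _ => by rw [map_nsmul]; exact smul_nonneg (Nat.zero_le _) (hl k).le
  let Φ : Fin m → NatFn S κ := fun k => ⟨fun X x => Z X x k, fun g x => congrFun (hnat g x).2.2 k⟩
  refine ⟨Φ, fun k X t x => congrFun (heq X t x).2.2 k, fun X x => ?_⟩
  have hY : Y X x = 0 := by
    funext k
    let Ψ : NatFn S κ := ⟨fun X x => Y X x k, fun g x => congrFun (hnat g x).1 k⟩
    have hΨ : Ψ.Homog w (D.P.root (eneg k)) := fun X t x => congrFun (heq X t x).1 k
    exact hΨ.eq_zero (fun d hd => not_lt_of_ge (hwt d) (hd ▸ hneg k)) X x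
  have hT : T X x = 1 := by
    refine ch_ext D fun ν => Units.ext ?_
    let Ψ : NatFn S κ := ⟨fun X x => (ch D (T X x) ν : Γ(X.left, ⊤)), fun g x => by
      rw [(hnat g x).2.1, ch_comp]⟩
    have hΨ : Ψ.Homog w 0 := fun X t x => by
      show ((ch D (T X _) ν : _ˣ) : Γ(X.left, ⊤)) = _ * _
      rw [(heq X t x).2.1, ← val_dsCh, dsCh_zero, Units.val_one, _root_.one_mul]
    have hu : ∀ e : κ → ℕ, NatFn.wt w e = 0 → e = 0 := by
      intro e he
      funext k
      by_contra hk
      have : (0 : ℤ) < l (NatFn.wt w e) := by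
        rw [NatFn.wt, map_sum]
        refine Finset.sum_pos' (fun j _ => by rw [map_nsmul]; exact smul_nonneg (Nat.zero_le _) (hl j).le)
          ⟨k, Finset.mem_univ _, ?_⟩
        rw [map_nsmul]
        exact smul_pos (Nat.pos_of_ne_zero hk) (hl k)
      rw [he, map_zero] at this
      exact lt_irrefl _ this
    have h2 := fun x => hΨ.eq_mono 0 hu X x
    show Ψ.toFun X x = _
    rw [h2 x, ch_one]
    have h3 := h2 0
    simp only [Pi.zero_apply, pow_zero, Finset.prod_const_one, _root_.mul_one] at h3 ⊢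
    rw [← h3]
    show ((ch D (T X 0) ν : _ˣ) : Γ(X.left, ⊤)) = _
    rw [h0, ch_one]
  rw [hF, cellPt, hY, hT]
  haveI := D.maximalTorus.1
  rw [MonObj.one_comp, _root_.one_mul, List.prod_eq_one, _root_.one_mul]
  intro g hg
  obtain ⟨k, rfl⟩ := (List.mem_ofFn).1 hg
  exact up_zero D _

end EqFam

end Groth.Agent.Red23Lib.Pinned

end
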