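import Groth.Agent.Red23Lib.Pinned.WeylLift
import Groth.Agent.Red23Lib.BCComp
import Groth.Agent.RootData.Inversions

/-!
# Chevalley systems extending a pinning
-/

set_option autoImplicit false
set_option linter.style.haveILetI false

universe u

open CategoryTheory CategoryTheory.Limits AlgebraicGeometry MonoidalCategory CartesianMonoidalCategory
open Groth.Agent.GrpSchLib
open RootPairing (Equiv.reflection)
open scoped MonObj

noncomputable section

namespace Groth.Agent.Red23Lib.Pinned

open Groth.Agent.RootData Groth.Agent.RootCox RootD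

variable {S : Scheme.{u}} {G : Over S} [GrpObj G]

/-- The action of a word on points of the torus. -/
def sW (D : Red.SplitRed G) : List D.idx → ∀ {X : Over S}, (X ⟶ D.T) → (X ⟶ D.T)
  | [], _, t => t
  | c :: l, _, t => sT D c (sW D l t)

theorem word_inv_cons {κ R M N : Type*} [CommRing R] [IsDomain R] [CharZero R] [AddCommGroup M] [Module R M]
    [AddCommGroup N] [Module R N] {P : RootPairing κ R M N} [Fintype κ] [P.IsCrystallographic] (c : κ) (l : List κ)
    (k : κ) : (word P (c :: l))⁻¹ • k = (word P l)⁻¹ • P.reflectionPerm c k := by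
  rw [word_cons, mul_inv_rev, mul_smul, inv_eq_of_mul_eq_one_left (refl_mul_self c), refl_smul_idx]

theorem word_reverse {κ R M N : Type*} [CommRing R] [IsDomain R] [CharZero R] [AddCommGroup M] [Module R M]
    [AddCommGroup N] [Module R N] {P : RootPairing κ R M N} [Fintype κ] [P.IsCrystallographic] (l : List κ) :
    word P l.reverse = (word P l)⁻¹ := by
  induction l with
  | nil => simp [word]
  | cons a t ih =>
    rw [List.reverse_cons, word_append, ih, word_cons a t, mul_inv_rev, inv_eq_of_mul_eq_one_left (refl_mul_self a)]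
    simp [word]

theorem corHom_reflection (D : Red.SplitRed G) (c k : D.idx) (m : D.M) :
    corHom D k (D.P.reflection c m) = corHom D (D.P.reflectionPerm c k) m := by
  show (D.P.coroot k) (D.P.reflection c m) = (D.P.coroot (D.P.reflectionPerm c k)) m
  have h : ∀ (n : D.M) (f : Module.Dual ℤ D.M), D.P.toLinearMap n f = f n := fun n f => by rw [D.pairing_eq]; rfl
  rw [D.P.coroot_reflectionPerm, RootPairing.coreflection_apply, RootPairing.reflection_apply]
  simp [RootPairing.root', RootPairing.coroot', h, mul_comm]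

theorem sT_cochar (D : Red.SplitRed G) (c k : D.idx) {X : Over S} (z : (Γ(X.left, ⊤))ˣ) :
    sT D c (cochar D (corHom D k) z) = cochar D (corHom D (D.P.reflectionPerm c k)) z :=
  ch_ext D fun m => by rw [ch_sT, ch_cochar, ch_cochar, corHom_reflection]

theorem sW_cochar (D : Red.SplitRed G) (l : List D.idx) (k : D.idx) {X : Over S} (z : (Γ(X.left, ⊤))ˣ) :
    sW D l (cochar D (corHom D k) z) = cochar D (corHom D (word D.P l • k)) z := by
  induction l with
  | nil => simp [sW, word]
  | cons c t ih => rw [sW, ih, sT_cochar, word_cons, mul_smul, refl_smul_idx]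

theorem ch_sW_root (D : Red.SplitRed G) (l : List D.idx) (k : D.idx) {X : Over S} (t : X ⟶ D.T) :
    ch D (sW D l t) (D.P.root k) = ch D t (D.P.root ((word D.P l)⁻¹ • k)) := by
  induction l generalizing k with
  | nil => simp [sW, word]
  | cons c l ih => rw [sW, sT_ch_root, ih, word_inv_cons]

variable {D : Red.Pinning G}

theorem WW_conj_T (hd : Duals D) {l : List D.idx} (hl : ∀ c ∈ l, c ∈ D.base.support) {X : Over S} (t : X ⟶ D.T) :
    WW D.toSplitRed l X * (t ≫ D.i) * (WW D.toSplitRed l X)⁻¹ = sW D.toSplitRed l t ≫ D.i := by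
  induction l with
  | nil => simp [WW, sW]
  | cons c l ih =>
    rw [sW, ← W_conj_T hd (hl c List.mem_cons_self), ← ih fun x hx => hl x (List.mem_cons_of_mem _ hx)]
    simp only [WW, List.map_cons, List.prod_cons]
    group

theorem exists_word_conj (D : Red.Pinning G) (c : D.idx) :
    ∃ (l : List D.idx) (a : D.idx), (∀ x ∈ l, x ∈ D.base.support) ∧ a ∈ D.base.support ∧ word D.P l • a = c ∧
      (c ∈ D.base.support → l = [] ∧ a = c) := by
  by_cases hc : c ∈ D.base.support
  · exact ⟨[], c, by simp, hc, by simp [word], fun _ => ⟨rfl, rfl⟩⟩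
  obtain ⟨g, hg, a, ha, h⟩ := (Simple.of_base D.base).indiv_conj (isIndiv_of_base D.base c)
  rw [← (Simple.of_base D.base).gen_eq_weylGroup] at hg
  obtain ⟨l, hl, rfl⟩ := exists_word hg
  exact ⟨l, a, fun x hx => hl x hx, ha, h, fun h' => absurd h' hc⟩

/-- A chosen word carrying a simple root to a root. -/
def wordOf (D : Red.Pinning G) (c : D.idx) : List D.idx := (exists_word_conj D c).choose

/-- The chosen simple root. -/
def simpleOf (D : Red.Pinning G) (c : D.idx) : D.idx := (exists_word_conj D c).choose_spec.choose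

theorem wordOf_spec (D : Red.Pinning G) (c : D.idx) :
    (∀ x ∈ wordOf D c, x ∈ D.base.support) ∧ simpleOf D c ∈ D.base.support ∧
      word D.P (wordOf D c) • simpleOf D c = c ∧ (c ∈ D.base.support → wordOf D c = [] ∧ simpleOf D c = c) :=
  (exists_word_conj D c).choose_spec.choose_spec

/-- The transported root homomorphism. -/
def transport (D : Red.Pinning G) (l : List D.idx) (a : D.idx) : Red.Ga S ⟶ G :=
  WW D.toSplitRed l (Red.Ga S) * D.u a * (WW D.toSplitRed l (Red.Ga S))⁻¹

theorem comp_transport (l : List D.idx) (a : D.idx) {X : Over S} (x : X ⟶ Red.Ga S) :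
    x ≫ transport D l a = WW D.toSplitRed l X * up D.toSplitRed a (Red.gaFn x) * (WW D.toSplitRed l X)⁻¹ := by
  rw [transport, MonObj.comp_mul, MonObj.comp_mul, GrpObj.comp_inv, comp_WW, up_eq D.toSplitRed a x]

theorem isMonHom_transport (l : List D.idx) (a : D.idx) : IsMonHom (transport D l a) :=
  isMonHom_of_mul _ fun X x y => by
    rw [comp_transport, comp_transport, comp_transport, GaPts.gaFn_mul, up_add]
    group

theorem isClosedImmersion_transport (l : List D.idx) (a : D.idx) : IsClosedImmersion (transport D l a).left := by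
  let g : 𝟙_ (Over S) ⟶ G := WW D.toSplitRed l (𝟙_ (Over S))
  let e : G ≅ G :=
    { hom := (toUnit G ≫ g) * 𝟙 G * (toUnit G ≫ g)⁻¹
      inv := (toUnit G ≫ g)⁻¹ * 𝟙 G * (toUnit G ≫ g)
      hom_inv_id := by
        rw [MonObj.comp_mul, MonObj.comp_mul, GrpObj.comp_inv, ← Category.assoc, toUnit_unique (_ ≫ toUnit G) (toUnit G),
          Category.comp_id]
        group
      inv_hom_id := by
        rw [MonObj.comp_mul, MonObj.comp_mul, GrpObj.comp_inv, ← Category.assoc, toUnit_unique (_ ≫ toUnit G) (toUnit G),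
          Category.comp_id]
        group }
  have h : transport D l a = D.u a ≫ e.hom := by
    simp only [e, transport, MonObj.comp_mul, GrpObj.comp_inv, Category.comp_id, ← Category.assoc, g]
    rw [toUnit_unique (D.u a ≫ toUnit G) (toUnit (Red.Ga S)), comp_WW]
  haveI := (D.rootHom a).2.1
  haveI : IsIso e.hom.left := ((Over.forget S).mapIso e).isIso_hom
  rw [h, Over.comp_left]
  infer_instance

theorem isRootHom_transport (hd : Duals D) {l : List D.idx} (hl : ∀ x ∈ l, x ∈ D.base.support) (a : D.idx) :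
    Red.IsRootHom D.i (D.split.hom.hom.hom ≫ Red.chi S (D.P.root (word D.P l • a))) (transport D l a) := by
  refine ⟨isMonHom_transport l a, isClosedImmersion_transport l a, fun X t x =>
    ⟨GaPts.ptOfFn ((ch D.toSplitRed t (D.P.root (word D.P l • a)) : Γ(X.left, ⊤)) * Red.gaFn x), ?_, ?_⟩⟩
  · rw [comp_transport, comp_transport, GaPts.gaFn_ptOfFn]
    have hlr : ∀ x ∈ l.reverse, x ∈ D.base.support := fun x hx => hl x (List.mem_reverse.1 hx)
    have ht : WW D.toSplitRed l X * (sW D.toSplitRed l.reverse t ≫ D.i) * (WW D.toSplitRed l X)⁻¹ = t ≫ D.i := by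
      rw [WW_conj_T hd hl]
      refine congrArg (· ≫ D.i) ?_
      clear hlr
      induction l generalizing t with
      | nil => rfl
      | cons c l ih =>
        have e : ∀ (s : X ⟶ D.T), sW D.toSplitRed (l.reverse ++ [c]) s = sW D.toSplitRed l.reverse (sT D.toSplitRed c s) := by
          intro s
          induction l.reverse with
          | nil => rfl
          | cons d r ihr => simp [sW, ihr]
        rw [List.reverse_cons, e, sW, ih (fun x hx => hl x (List.mem_cons_of_mem _ hx)), sT_sT]
    have hr : ch D.toSplitRed (sW D.toSplitRed l.reverse t) (D.P.root a) =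
        ch D.toSplitRed t (D.P.root (word D.P l • a)) := by
      rw [ch_sW_root, word_reverse, inv_inv]
    rw [← hr, ← conj_up, ← ht]
    group
  · rw [GaPts.gaFn_ptOfFn, val_ch]

theorem transport_duals (hd : Duals D) {l : List D.idx} (hl : ∀ x ∈ l, x ∈ D.base.support) {a : D.idx}
    (ha : a ∈ D.base.support) (X : Over S) (x y : X ⟶ Red.Ga S) (h : IsUnit (1 + Red.gaFn x * Red.gaFn y)) :
    ∃ (x' y' : X ⟶ Red.Ga S) (z : X ⟶ Red.Gm S), Red.gmFn z = 1 + Red.gaFn x * Red.gaFn y ∧
      Red.gaFn x' * Red.gmFn z = Red.gaFn x ∧ Red.gaFn y' * Red.gmFn z = Red.gaFn y ∧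
      (x ≫ transport D l a) * (y ≫ transport D l (neg D.toSplitRed a)) =
        (y' ≫ transport D l (neg D.toSplitRed a)) * (z ≫ cor D.toSplitRed (word D.P l • a) ≫ D.i) *
          (x' ≫ transport D l a) := by
  obtain ⟨x', y', z, h1, h2, h3, h4⟩ := hd a ha X x y h
  refine ⟨x', y', z, h1, h2, h3, ?_⟩
  have hz : ∀ k, z ≫ cor D.toSplitRed k = cochar D.toSplitRed (corHom D.toSplitRed k) (GmPts.unitOfPt z) := fun k => by
    rw [← ptOfUnit_cor, GmPts.ptOfUnit_unitOfPt]
  have e := congrArg (fun q => WW D.toSplitRed l X * q * (WW D.toSplitRed l X)⁻¹) h4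
  simp only [up_eq D.toSplitRed, conj_distrib, ← comp_transport] at e
  rw [e, ← Category.assoc z, ← Category.assoc z, hz, hz, WW_conj_T hd hl, sW_cochar]

variable (hd : Duals D) (hax : CellAx D.toSplitRed D.base)

include hd in
theorem WW_conj_mem {l : List D.idx} (hl : ∀ c ∈ l, c ∈ D.base.support) {X : Over S} {g : X ⟶ G}
    (hg : g ∈ sgn D.toSplitRed X) :
    (WW D.toSplitRed l X)⁻¹ * g * WW D.toSplitRed l X ∈ sgn D.toSplitRed X := by
  induction l generalizing g with
  | nil => simpa [WW] using hg
  | cons c l ih =>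
    have h := ih (fun x hx => hl x (List.mem_cons_of_mem _ hx)) (W_conj_mem hd (hl c List.mem_cons_self) hg).2
    simp only [WW, List.map_cons, List.prod_cons] at h ⊢
    rwa [show (W D.toSplitRed c X * (l.map fun c => W D.toSplitRed c X).prod)⁻¹ * g *
      (W D.toSplitRed c X * (l.map fun c => W D.toSplitRed c X).prod) =
        ((l.map fun c => W D.toSplitRed c X).prod)⁻¹ * ((W D.toSplitRed c X)⁻¹ * g * W D.toSplitRed c X) *
          (l.map fun c => W D.toSplitRed c X).prod by group]

/-- The point is the product of a word up to signs. -/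
def IsLift (D : Red.Pinning G) (g : 𝟙_ (Over S) ⟶ G) (l : List D.idx) : Prop :=
  (∀ c ∈ l, c ∈ D.base.support) ∧ (WW D.toSplitRed l (𝟙_ (Over S)))⁻¹ * g ∈ sgn D.toSplitRed (𝟙_ (Over S))

theorem IsLift.word {l : List D.idx} (hl : ∀ c ∈ l, c ∈ D.base.support) :
    IsLift D (WW D.toSplitRed l (𝟙_ (Over S))) l := ⟨hl, by rw [inv_mul_cancel]; exact one_mem _⟩

include hd in
theorem IsLift.mul {g g' : 𝟙_ (Over S) ⟶ G} {l l' : List D.idx} (h : IsLift D g l) (h' : IsLift D g' l') :
    IsLift D (g * g') (l ++ l') := by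
  refine ⟨fun c hc => (List.mem_append.1 hc).elim (h.1 c) (h'.1 c), ?_⟩
  rw [WW_append]
  have e := mul_mem (WW_conj_mem hd h'.1 h.2) h'.2
  convert e using 1
  group

include hd hax in
theorem IsLift.of_word_eq {g : 𝟙_ (Over S) ⟶ G} {l l' : List D.idx} (h : IsLift D g l)
    (hl' : ∀ c ∈ l', c ∈ D.base.support) (he : RootData.word D.P l = RootData.word D.P l') : IsLift D g l' := by
  refine ⟨hl', ?_⟩
  have e := mul_mem (WW_inv_mul_mem hd hax h.1 hl' he (𝟙_ (Over S))) h.2
  convert e using 1
  group

include hd hax in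
theorem IsLift.inv {g : 𝟙_ (Over S) ⟶ G} {l : List D.idx} (h : IsLift D g l) : IsLift D g⁻¹ l.reverse := by
  have hlr : ∀ c ∈ l.reverse, c ∈ D.base.support := fun c hc => h.1 c (List.mem_reverse.1 hc)
  refine ⟨hlr, ?_⟩
  have h1 : (WW D.toSplitRed (l.reverse ++ l) (𝟙_ (Over S))) ∈ sgn D.toSplitRed (𝟙_ (Over S)) := by
    have := WW_inv_mul_mem hd hax (l := l.reverse ++ l) (l' := [])
      (fun c hc => (List.mem_append.1 hc).elim (hlr c) (h.1 c)) (by simp)
      (by rw [word_append, word_reverse, inv_mul_cancel]; simp [RootData.word]) (𝟙_ (Over S))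
    simpa [WW] using this
  rw [WW_append] at h1
  -- conjugate back by the word
  have h2 := inv_mem (WW_conj_mem hd hlr h1)
  have h3 := WW_conj_mem hd hlr (inv_mem h.2)
  have e := mul_mem h3 h2
  convert e using 1
  group

include hd hax in
theorem IsLift.signConj {g : 𝟙_ (Over S) ⟶ G} {l : List D.idx} (h : IsLift D g l) {α β : D.idx}
    (hα : α ∈ D.base.support) (hβ : β ∈ D.base.support) (he : RootData.word D.P l • α = β) :
    SignConj D.toSplitRed g α β := by
  have := (signConj_word hd hax h.1 hα hβ he).mul (signConj_of_mem D.toSplitRed h.2 α)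
  rwa [mul_inv_cancel_left] at this

include hd hax in
/-- Lifts of Weyl group elements permute the transported root homomorphisms up to sign. -/
theorem IsLift.transport {g : 𝟙_ (Over S) ⟶ G} {l : List D.idx} (h : IsLift D g l) {b d : D.idx}
    (he : RootData.word D.P l • b = d) :
    ∃ ε : ℤ, (ε = 1 ∨ ε = -1) ∧ ∀ (X : Over S) (x y : X ⟶ Red.Ga S), Red.gaFn y = (ε : Γ(X.left, ⊤)) * Red.gaFn x →
      (toUnit X ≫ g) * (x ≫ Pinned.transport D (wordOf D b) (simpleOf D b)) * (toUnit X ≫ g)⁻¹ =
        y ≫ Pinned.transport D (wordOf D d) (simpleOf D d) := by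
  obtain ⟨hlb, hab, heb, -⟩ := wordOf_spec D b
  obtain ⟨hld, had, hed, -⟩ := wordOf_spec D d
  have h' := (((IsLift.word hld).inv hd hax).mul hd (h.mul hd (IsLift.word hlb))).signConj hd hax hab had
    (by
      rw [word_append, word_append, word_reverse, mul_smul, mul_smul, heb, he]
      rw [inv_smul_eq_iff, hed])
  obtain ⟨ε, hε, hx⟩ := h'
  refine ⟨ε, hε, fun X x y hy => ?_⟩
  rw [comp_transport, comp_transport, hy, ← hx X (Red.gaFn x)]
  simp only [MonObj.comp_mul, GrpObj.comp_inv, comp_WW]
  group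

end Groth.Agent.Red23Lib.Pinned

end
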