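import Groth.Agent.GrpSchLib.RankOneBase
import Groth.Agent.DSPtsLib.Basic
import Mathlib.Algebra.MvPolynomial.Basic
import Mathlib.Algebra.MvPolynomial.Eval

/-!
# Natural functions which are homogeneous for a split torus are monomials
-/

set_option autoImplicit false

universe u

open CategoryTheory CategoryTheory.Limits AlgebraicGeometry MonoidalCategory CartesianMonoidalCategory
open Groth.Agent.GrpSchLib Groth.Agent.GrpSchLib.RankOne

noncomputable section

namespace Groth.Agent.Red23Lib.Pinned

variable {S : Scheme.{u}} {M : Type} [AddCommGroup M]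

/-- The value of a character at a point with values in a ring. -/
theorem sval_gmFn_pt_chi {B : Type u} [CommRing B] (j : Spec (CommRingCat.of B) ⟶ S)
    (f : DSPtsLib.CoordM.{u} M →+* B) (m : M) :
    sval j (Red.gmFn (DSPtsLib.pt j f ≫ Red.chi S m)) = f (MonoidAlgebra.single (Multiplicative.ofAdd m) 1) := by
  have h : (DSPtsLib.pt j f ≫ Red.chi S m).left ≫ pullback.fst _ _ =
      Spec.map (CommRingCat.ofHom (f.comp (MonoidAlgebra.mapDomainAlgHom (ULift.{u} ℤ) (ULift.{u} ℤ)
        (AddMonoidHom.toMultiplicative (zmultiplesHom M m : ℤ →+ M))).toRingHom)) := by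
    rw [Over.comp_left, CommRingCat.ofHom_comp, Spec.map_comp, ← DSPtsLib.pt_fst j f]
    exact (Category.assoc _ _ _).trans (((DSPtsLib.pt j f).left ≫=
      GmPts.pullback_map_left_fst (S := S) _).trans (Category.assoc _ _ _).symm)
  unfold Red.gmFn
  rw [h]
  let g : DSPtsLib.CoordM.{u} ℤ →+* B := f.comp (MonoidAlgebra.mapDomainAlgHom (ULift.{u} ℤ) (ULift.{u} ℤ)
    (AddMonoidHom.toMultiplicative (zmultiplesHom M m : ℤ →+ M))).toRingHom
  let q : DSPtsLib.CoordM.{u} ℤ := MonoidAlgebra.single (Multiplicative.ofAdd (1 : ℤ)) 1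
  have e : (Spec.map (CommRingCat.ofHom g)).appTop Red.gmCoord = (Scheme.ΓSpecIso (CommRingCat.of B)).inv (g q) :=
    (congrArg (fun ψ => (ConcreteCategory.hom ψ) q) (Scheme.ΓSpecIso_inv_naturality (CommRingCat.ofHom g))).symm
  refine ((congrArg (sval j) e).trans (RingEquiv.apply_symm_apply (sval j) (g q))).trans ?_
  simp [g, q]

/-- The data of functions of several variables on all test schemes, compatible with change of scheme. -/
structure NatFn (S : Scheme.{u}) (ι : Type) where
  toFun : ∀ X : Over S, (ι → Γ(X.left, ⊤)) → Γ(X.left, ⊤)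
  natural : ∀ {X Y : Over S} (g : Y ⟶ X) (x : ι → Γ(X.left, ⊤)),
    toFun Y (fun k => g.left.appTop (x k)) = g.left.appTop (toFun X x)

namespace NatFn

variable {ι : Type} (Φ : NatFn S ι)

/-- The value on an affine test object. -/
def val {A : CommRingCat.{u}} (b : Spec A ⟶ S) (x : ι → A) : A :=
  sval b (Φ.toFun _ fun k => (sval b).symm (x k))

theorem val_map {A B : CommRingCat.{u}} {b : Spec A ⟶ S} {b' : Spec B ⟶ S} (φ : A →+* B)
    (h : Spec.map (CommRingCat.ofHom φ) ≫ b = b') (x : ι → A) :
    Φ.val b' (fun k => φ (x k)) = φ (Φ.val b x) := by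
  unfold val
  rw [← sval_specHom φ h, ← Φ.natural]
  simp only [appTop_specHom]

/-- Homogeneity of weights `a`, `c` for the torus `D_S(M)`. -/
def Homog (a : ι → M) (c : M) : Prop :=
  ∀ (X : Over S) (t : X ⟶ Red.DS S M) (x : ι → Γ(X.left, ⊤)),
    Φ.toFun X (fun k => Red.gmFn (t ≫ Red.chi S (a k)) * x k) = Red.gmFn (t ≫ Red.chi S c) * Φ.toFun X x

variable {Φ} {a : ι → M} {c : M}

theorem Homog.val_eq (h : Φ.Homog a c) {B : Type u} [CommRing B] (j : Spec (CommRingCat.of B) ⟶ S)
    (f : DSPtsLib.CoordM.{u} M →+* B) (x : ι → B) :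
    Φ.val j (fun k => f (MonoidAlgebra.single (Multiplicative.ofAdd (a k)) 1) * x k) =
      f (MonoidAlgebra.single (Multiplicative.ofAdd c) 1) * Φ.val j x := by
  have e := congrArg (sval j) (h _ (DSPtsLib.pt j f) fun k => (sval j).symm (x k))
  rw [map_mul, sval_gmFn_pt_chi] at e
  rw [val, val, ← e]
  congr 2
  funext k
  rw [← sval_gmFn_pt_chi j f, map_mul, RingEquiv.symm_apply_apply]

variable [Fintype ι]

/-- The weight of a monomial. -/
def wt (a : ι → M) (d : ι → ℕ) : M := ∑ k, d k • a k

/-- The universal value, a polynomial. -/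
def poly (Φ : NatFn S ι) {A : CommRingCat.{u}} (b : Spec A ⟶ S) : MvPolynomial ι A :=
  Φ.val (A := CommRingCat.of (MvPolynomial ι A))
    (Spec.map (CommRingCat.ofHom (MvPolynomial.C : A →+* MvPolynomial ι A)) ≫ b) MvPolynomial.X

omit [Fintype ι] in
theorem val_eq_eval (Φ : NatFn S ι) {A : CommRingCat.{u}} (b : Spec A ⟶ S) (x : ι → A) :
    Φ.val b x = MvPolynomial.eval x (Φ.poly b) := by
  have h : Spec.map (CommRingCat.ofHom (MvPolynomial.eval x)) ≫
      (Spec.map (CommRingCat.ofHom (MvPolynomial.C : A →+* MvPolynomial ι A)) ≫ b) = b := by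
    rw [← Category.assoc, ← Spec.map_comp, ← CommRingCat.ofHom_comp,
      show (MvPolynomial.eval x).comp MvPolynomial.C = RingHom.id A from RingHom.ext fun r => by simp]
    simp
  rw [poly, ← Φ.val_map _ h]
  simp

open scoped Classical in
/-- The coefficients outside the weight vanish. -/
theorem Homog.coeff_eq_zero (h : Φ.Homog a c) {A : CommRingCat.{u}} (b : Spec A ⟶ S) (d : ι →₀ ℕ)
    (hd : wt a d ≠ c) : (Φ.poly b).coeff d = 0 := by
  let B := MvPolynomial ι A
  let L := MonoidAlgebra B (Multiplicative M)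
  let bB : Spec (CommRingCat.of B) ⟶ S := Spec.map (CommRingCat.ofHom (MvPolynomial.C : A →+* B)) ≫ b
  let jL : Spec (CommRingCat.of L) ⟶ S :=
    Spec.map (CommRingCat.ofHom (MonoidAlgebra.singleOneRingHom : B →+* L)) ≫ bB
  let unv : DSPtsLib.CoordM.{u} M →+* L :=
    MonoidAlgebra.mapRingHom _ ((algebraMap ℤ B).comp ULift.ringEquiv.toRingHom)
  have hunv : ∀ m, unv (MonoidAlgebra.single m 1) = (MonoidAlgebra.single m (1 : B) : L) := fun m =>
    (MonoidAlgebra.mapRingHom_single _ m 1).trans (congrArg _ (map_one _))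
  let P : B := Φ.poly b
  let σ : B →+* L := MvPolynomial.eval₂Hom ((MonoidAlgebra.singleOneRingHom : B →+* L).comp MvPolynomial.C)
    fun k => MonoidAlgebra.single (Multiplicative.ofAdd (a k)) (MvPolynomial.X k)
  have hσb : Spec.map (CommRingCat.ofHom σ) ≫ bB = jL := by
    simp only [bB, jL, ← Category.assoc, ← Spec.map_comp, ← CommRingCat.ofHom_comp]
    congr 3
    exact RingHom.ext fun r => MvPolynomial.eval₂Hom_C _ _ r
  have e := h.val_eq jL unv fun k => (MonoidAlgebra.singleOneRingHom : B →+* L) (MvPolynomial.X k)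
  have e1 := Φ.val_map (A := CommRingCat.of B) (B := CommRingCat.of L) σ hσb MvPolynomial.X
  have e2 := Φ.val_map (A := CommRingCat.of B) (B := CommRingCat.of L) (b := bB) (b' := jL)
    (MonoidAlgebra.singleOneRingHom : B →+* L) rfl MvPolynomial.X
  have hX : (fun k => unv (MonoidAlgebra.single (Multiplicative.ofAdd (a k)) 1) *
      (MonoidAlgebra.singleOneRingHom : B →+* L) (MvPolynomial.X k)) = fun k => σ (MvPolynomial.X k) := by
    funext k
    rw [hunv, MvPolynomial.eval₂Hom_X']
    show MonoidAlgebra.single _ (1 : B) * MonoidAlgebra.single 1 (MvPolynomial.X k) = _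
    rw [MonoidAlgebra.single_mul_single, _root_.mul_one, _root_.one_mul]
  rw [hX, e1, e2, hunv] at e
  -- the coefficient of the monomial on both sides
  have key : ∀ q : B, ((σ q).coeff (Multiplicative.ofAdd (wt a d))).coeff d = q.coeff d := by
    intro q
    induction q using MvPolynomial.induction_on' with
    | monomial n r =>
      have hn : σ (MvPolynomial.monomial n r) =
          MonoidAlgebra.single (Multiplicative.ofAdd (wt a n)) (MvPolynomial.monomial n r) := by
        rw [MvPolynomial.eval₂Hom_monomial, Finsupp.prod_fintype _ _ (fun k => pow_zero _)]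
        show MonoidAlgebra.single 1 (MvPolynomial.C r) * _ = _
        rw [MvPolynomial.monomial_eq, Finsupp.prod_fintype _ _ (fun k => pow_zero _)]
        rw [show (∏ k, (MonoidAlgebra.single (Multiplicative.ofAdd (a k)) (MvPolynomial.X k : B) : L) ^ n k) =
            MonoidAlgebra.single (Multiplicative.ofAdd (wt a n)) (∏ k, (MvPolynomial.X k : B) ^ n k) from ?_]
        · exact (MonoidAlgebra.single_mul_single _ _ _ _).trans (by rw [_root_.one_mul])
        rw [show (Multiplicative.ofAdd (wt a n)) = ∏ k, Multiplicative.ofAdd (a k) ^ n k by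
          rw [wt, ofAdd_sum]; rfl, ← MonoidAlgebra.prod_single]
        exact Finset.prod_congr rfl fun k _ => MonoidAlgebra.single_pow _ _ _
      rw [hn]
      by_cases hw : wt a n = wt a d
      · rw [hw, MonoidAlgebra.coeff_single, Finsupp.single_eq_same]
      · rw [MonoidAlgebra.coeff_single, Finsupp.single_eq_of_ne (by simpa using Ne.symm hw), MvPolynomial.coeff_zero,
          MvPolynomial.coeff_monomial, if_neg (fun hnd => hw (congrArg (fun v : ι →₀ ℕ => wt a v) hnd))]
    | add p q hp hq => rw [map_add, MonoidAlgebra.coeff_add, Finsupp.add_apply, MvPolynomial.coeff_add, MvPolynomial.coeff_add, hp, hq]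
  have e3 := congrArg (fun z : L => (z.coeff (Multiplicative.ofAdd (wt a d))).coeff d) e
  change ((σ P).coeff (Multiplicative.ofAdd (wt a d))).coeff d = _ at e3
  rw [key] at e3
  refine e3.trans ?_
  show ((MonoidAlgebra.single (Multiplicative.ofAdd c) (1 : B) * MonoidAlgebra.single 1 P : L).coeff
    (Multiplicative.ofAdd (wt a d))).coeff d = 0
  rw [MonoidAlgebra.single_mul_single, MonoidAlgebra.coeff_single, Finsupp.single_eq_of_ne (by simpa using hd),
    MvPolynomial.coeff_zero]

/-- Equality of values may be checked on affine test objects. -/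
theorem eq_of_val_eq {X : Over S} {v w : Γ(X.left, ⊤)}
    (h : ∀ (A : CommRingCat.{u}) (b : Spec A ⟶ S) (j : Over.mk b ⟶ X), j.left.appTop v = j.left.appTop w) :
    v = w := by
  have e : (GaPts.ptOfFn v : X ⟶ Red.Ga S) = GaPts.ptOfFn w :=
    ext_spec fun A b j => GaPts.gaFn_injective (by
      simp only [GaPts.gaFn_comp, GaPts.gaFn_ptOfFn]; exact h A b j)
  simpa [GaPts.gaFn_ptOfFn] using congrArg Red.gaFn e

theorem toFun_affine (Φ : NatFn S ι) {X : Over S} {A : CommRingCat.{u}} (b : Spec A ⟶ S) (j : Over.mk b ⟶ X)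
    (x : ι → Γ(X.left, ⊤)) :
    sval b (j.left.appTop (Φ.toFun X x)) = MvPolynomial.eval (fun k => sval b (j.left.appTop (x k))) (Φ.poly b) := by
  rw [← val_eq_eval, val, ← Φ.natural]
  simp

/-- A homogeneous function of a weight which is no monomial's vanishes. -/
theorem Homog.eq_zero (h : Φ.Homog a c) (hc : ∀ d : ι → ℕ, wt a d ≠ c) (X : Over S) (x : ι → Γ(X.left, ⊤)) :
    Φ.toFun X x = 0 := by
  refine eq_of_val_eq fun A b j => (sval b).injective ?_
  rw [toFun_affine, show Φ.poly b = 0 from MvPolynomial.ext _ _ fun d => by simp [h.coeff_eq_zero b d (hc d)]]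
  simp

/-- A homogeneous function is a monomial. -/
theorem Homog.eq_mono (h : Φ.Homog a c) (d : ι → ℕ) (hu : ∀ e : ι → ℕ, wt a e = c → e = d) (X : Over S)
    (x : ι → Γ(X.left, ⊤)) : Φ.toFun X x = Φ.toFun X (fun _ => 1) * ∏ k, x k ^ d k := by
  classical
  refine eq_of_val_eq fun A b j => (sval b).injective ?_
  let d' : ι →₀ ℕ := Finsupp.equivFunOnFinite.symm d
  have hP : Φ.poly b = MvPolynomial.monomial d' ((Φ.poly b).coeff d') := by
    refine MvPolynomial.ext _ _ fun n => ?_
    rw [MvPolynomial.coeff_monomial]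
    split_ifs with hn
    · rw [hn]
    · refine h.coeff_eq_zero b n fun hw => hn (Finsupp.ext fun k => ?_)
      simp [d', ← hu _ hw]
  rw [map_mul, map_mul, toFun_affine, toFun_affine, map_prod, map_prod, hP, MvPolynomial.eval_monomial,
    MvPolynomial.eval_monomial, Finsupp.prod_fintype _ _ (fun k => pow_zero _),
    Finsupp.prod_fintype _ _ (fun k => pow_zero _)]
  simp [d']

end NatFn

end Groth.Agent.Red23Lib.Pinned

end
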