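import Groth.Agent.RedCell22.NegBase
import Groth.Agent.RedCell22.CellNorm
import Groth.Agent.RedCell22.Levi
import Mathlib.FieldTheory.IsAlgClosed.AlgebraicClosure

/-!
# Points normalising the torus and fixing the simple root groups of a pinning
-/

set_option autoImplicit false
set_option linter.unusedSectionVars false
set_option linter.style.haveILetI false

universe u

open CategoryTheory CategoryTheory.Limits AlgebraicGeometry MonoidalCategory CartesianMonoidalCategory
open scoped MonObj LaurentPolynomial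

noncomputable section

namespace Groth.Agent.Red23Lib.Pinned.Inner

open Groth.Agent.RedCell22 Groth.Agent

variable {S : Scheme.{u}} {G : Over S} [GrpObj G] [IsAffineHom G.hom]

section Field

variable {K : Type u} [Field K] {b : Spec (CommRingCat.of K) ⟶ S}

theorem exists_C_mul_T (z : (K[T;T⁻¹])ˣ) : ∃ (c : K) (k : ℤ), (z : K[T;T⁻¹]) = LaurentPolynomial.C c * LaurentPolynomial.T k := by
  obtain ⟨m, p, hp⟩ := LaurentPolynomial.exists_T_pow (z : K[T;T⁻¹])
  obtain ⟨n, q, hq⟩ := LaurentPolynomial.exists_T_pow ((z⁻¹ : _ˣ) : K[T;T⁻¹])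
  have h : p * q = Polynomial.X ^ (m + n) := by
    apply Polynomial.toLaurent_injective
    rw [map_mul, hp, hq, Polynomial.toLaurent_X_pow, mul_mul_mul_comm, Units.mul_inv, one_mul,
      ← LaurentPolynomial.T_add, Nat.cast_add]
  obtain ⟨i, -, hi⟩ := (dvd_prime_pow Polynomial.prime_X _).1 ⟨q, h.symm⟩
  obtain ⟨w, hw⟩ := hi.symm
  obtain ⟨c, -, hc⟩ := Polynomial.isUnit_iff.1 w.isUnit
  refine ⟨c, i - m, ?_⟩
  rw [← hc, mul_comm] at hw
  rw [← hw, map_mul, Polynomial.toLaurent_C, Polynomial.toLaurent_X_pow] at hp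
  rw [LaurentPolynomial.T_sub, ← mul_assoc, hp, mul_assoc, ← LaurentPolynomial.T_add]
  simp

theorem exists_hom_T {M : Type} [AddCommGroup M] (ζ : Multiplicative M →* (K[T;T⁻¹])ˣ)
    (h1 : ∀ m, subst (AlgHom.id K K) 1 (ζ m : K[T;T⁻¹]) = 1) :
    ∃ k : M →+ ℤ, ∀ m, (ζ (Multiplicative.ofAdd m) : K[T;T⁻¹]) = LaurentPolynomial.T (k m) := by
  choose c k hk using fun m : M => exists_C_mul_T (ζ (Multiplicative.ofAdd m))
  have hc : ∀ m, (ζ (Multiplicative.ofAdd m) : K[T;T⁻¹]) = LaurentPolynomial.T (k m) := fun m => by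
    have h := h1 (Multiplicative.ofAdd m)
    rw [hk, map_mul, subst_C, subst_T, one_zpow, Units.val_one, mul_one] at h
    have h' : c m = 1 := h
    rw [hk, h', map_one, one_mul]
  refine ⟨AddMonoidHom.mk' k fun m n => ?_, hc⟩
  have h := congrArg Units.val (map_mul ζ (Multiplicative.ofAdd m) (Multiplicative.ofAdd n))
  rw [← ofAdd_add, Units.val_mul, hc, hc, hc, ← LaurentPolynomial.T_add] at h
  simpa [eq_comm] using congrArg (fun p : K[T;T⁻¹] => p.coeff (k (m + n))) h

variable (D : Red.SplitRed G)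

/-- The universal point of the torus. -/
def χ₀ (R : Type u) [CommRing R] : Multiplicative D.M →* (AddMonoidAlgebra R D.M)ˣ :=
  (AddMonoidAlgebra.of R D.M).toHomUnits

/-- The evaluation of a function at a point of the torus with given characters. -/
theorem ev_tG {B : Type u} [CommRing B] [Algebra K B] (χ : Multiplicative D.M →* Bˣ) (f : FunRing b G) :
    ev b (tG D (tpt D χ) : tb b B ⟶ G) f =
      AddMonoidAlgebra.lift K B D.M ((Units.coeHom B).comp χ)
        (ev b (tG D (tpt D (χ₀ D K)) : tb b (AddMonoidAlgebra K D.M) ⟶ G) f) := by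
  rw [← AlgHom.comp_apply, ← ev_comp, tG_map, tpt_map]
  congr 4
  refine MonoidHom.ext fun m => Units.ext ?_
  simp [χ₀]

/-- A homomorphism to the torus whose powers have bounded degree is trivial. -/
theorem eq_zero_of_bounded (k : D.M →+ ℤ)
    (h : ∀ f : FunRing b G, ∃ s : Finset ℤ, ∀ n : ℕ, ∀ j ∉ s,
      (ev b (tG D (tpt D (coVal D (n • k) (Tu K))) : tb b (K[T;T⁻¹]) ⟶ G) f).coeff j = 0) : k = 0 := by
  classical
  have hz : (tG D (tpt D (coVal D k (Tu K))) : tb b (K[T;T⁻¹]) ⟶ G) = 1 := by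
    refine ev_injective b (AlgHom.ext fun f => ?_)
    obtain ⟨s, hs⟩ := h f
    set a := ev b (tG D (tpt D (χ₀ D K)) : tb b (AddMonoidAlgebra K D.M) ⟶ G) f with ha
    let a' : ℤ →₀ K := Finsupp.mapDomain k a.coeff
    have hev : ∀ l : D.M →+ ℤ,
        ev b (tG D (tpt D (coVal D l (Tu K))) : tb b (K[T;T⁻¹]) ⟶ G) f =
          AddMonoidAlgebra.mapDomain l a := by
      intro l
      rw [ev_tG, ← ha]
      clear_value a
      clear ha a' hs
      induction a using AddMonoidAlgebra.induction_linear with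
      | zero => simp
      | add p q hp hq => rw [map_add, hp, hq, AddMonoidAlgebra.mapDomain_add]
      | single m x =>
        rw [AddMonoidAlgebra.lift_single, AddMonoidAlgebra.mapDomain_single, MonoidHom.comp_apply, coVal_apply,
          Units.coeHom_apply, Tu_zpow, Algebra.smul_def, LaurentPolynomial.single_eq_C_mul_T]
        rfl
    have hzero : ∀ j ≠ 0, a' j = 0 := by
      intro j hj
      obtain ⟨n, hn⟩ : ∃ n : ℕ, (n : ℤ) * j ∉ s ∧ n ≠ 0 := by
        obtain ⟨n, hn, hns⟩ : ∃ n ∈ (Finset.range (s.card + 1)).image fun n : ℕ => ((n + 1 : ℕ) : ℤ) * j, n ∉ s := by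
          refine Finset.not_subset.1 fun hsub => ?_
          have := Finset.card_le_card hsub
          rw [Finset.card_image_of_injective _ fun x y e => by simpa [hj] using e, Finset.card_range] at this
          omega
        obtain ⟨i, -, rfl⟩ := Finset.mem_image.1 hn
        exact ⟨i + 1, hns, by omega⟩
      have h' := hs n _ hn.1
      rw [hev, AddMonoidAlgebra.coeff_mapDomain, show ((n • k : D.M →+ ℤ) : D.M → ℤ) = (fun i => (n : ℤ) * i) ∘ k
        from funext fun x => by simp, Finsupp.mapDomain_comp,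
        Finsupp.mapDomain_apply (fun x y e => mul_left_cancel₀ (by exact_mod_cast hn.2) e)] at h'
      exact h'
    have hone : (ev b (1 : tb b (K[T;T⁻¹]) ⟶ G) f).coeff = Finsupp.mapDomain (0 : D.M →+ ℤ) a.coeff := by
      have e : coVal D (0 : D.M →+ ℤ) (Tu K) = 1 := MonoidHom.ext fun m => by simp [coVal]
      rw [← AddMonoidAlgebra.coeff_mapDomain, ← hev, e]
      congr 3
      rw [show tpt D (1 : Multiplicative D.M →* (K[T;T⁻¹])ˣ) = (1 : tb b (K[T;T⁻¹]) ⟶ D.T) from map_one (tHom D),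
        tG_one]
    apply AddMonoidAlgebra.coeff_injective
    rw [hone, hev, AddMonoidAlgebra.coeff_mapDomain]
    have e0 : ((0 : D.M →+ ℤ) : D.M → ℤ) = (fun _ => 0) ∘ k := funext fun _ => rfl
    rw [e0, Finsupp.mapDomain_comp]
    show a' = Finsupp.mapDomain (fun _ => (0 : ℤ)) a'
    have ha' : a' = Finsupp.single 0 (a' 0) := Finsupp.ext fun j => by
      rcases eq_or_ne j 0 with rfl | hj
      · simp
      · rw [hzero j hj, Finsupp.single_eq_of_ne hj]
    rw [ha', Finsupp.mapDomain_single]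
  refine AddMonoidHom.ext fun m => ?_
  have := congrArg (fun t => ((chr D m t : (K[T;T⁻¹])ˣ) : K[T;T⁻¹]).coeff 0)
    (tG_injective D (hz.trans (tG_one D).symm))
  rw [← map_one (tHom D (b := b) (B := K[T;T⁻¹]))] at this
  simp only [tHom, MonoidHom.mk'_apply, chr_tpt, coVal_apply, Tu_zpow, MonoidHom.one_apply, Units.val_one] at this
  rw [← LaurentPolynomial.T_zero] at this
  simpa [LaurentPolynomial.T_apply] using this

variable [IsAlgClosed K] {φ : D.M →+ ℤ}

theorem commute_cell {B : Type u} [CommRing B] [Algebra K B] {t : tb b B ⟶ D.T}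
    (ht : ∀ r, chr D (D.P.root r) t = 1) {n m : ℕ} (l : Fin n → D.idx) (l' : Fin m → D.idx)
    (p : tb b B ⟶ CellSrc D n m) : Commute (tG D t) (p ≫ RedSub.cellMap D l l') := by
  obtain ⟨y, s, x, rfl⟩ := exists_cellPt D p
  rw [cellPt_cellMap, cellWord]
  have hua : ∀ r z, Commute (tG D t) (ua D r z : tb b B ⟶ G) := fun r z => by
    show _ * _ = _ * _
    rw [tG_mul_ua, ht r, Units.val_one, one_mul]
  have hw : ∀ {q : ℕ} (d : Fin q → D.idx) (z : Fin q → B), Commute (tG D t) (word D d z : tb b B ⟶ G) := by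
    intro q d z
    rw [word]
    refine Commute.list_prod_right (List.ofFn fun k => (ua D (d k) (z k) : tb b B ⟶ G)) (tG D t) fun g hg => ?_
    obtain ⟨i, rfl⟩ := List.mem_ofFn.1 hg
    exact hua _ _
  have hs : Commute (tG D t) (tG D s : tb b B ⟶ G) := by
    show _ * _ = _ * _
    rw [← tG_mul, torus_comm, tG_mul]
  exact (hw l y).mul_right (hs.mul_right (hw l' x))

theorem exists_over_eq {P : Scheme.{u}} {f f' : P ⟶ S} (h : f = f') :
    ∃ (e : Over.mk f ⟶ Over.mk f') (e' : Over.mk f' ⟶ Over.mk f), e' ≫ e = 𝟙 _ := by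
  subst h
  exact ⟨𝟙 _, 𝟙 _, Category.id_comp _⟩

/-- A change of presentation of a test object. -/
theorem exists_tb_self {A L : Type u} [CommRing A] [CommRing L] [Algebra A L] (b : Spec (CommRingCat.of A) ⟶ S) :
    ∃ (e : tb (Spec.map (CommRingCat.ofHom (algebraMap A L)) ≫ b) L ⟶ tb b L)
      (e' : tb b L ⟶ tb (Spec.map (CommRingCat.ofHom (algebraMap A L)) ≫ b) L), e' ≫ e = 𝟙 _ :=
  exists_over_eq (by rw [Algebra.algebraMap_self, CommRingCat.ofHom_id, Spec.map_id, Category.id_comp])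

/-- A point killed by the roots commutes with everything over an algebraically closed field extension. -/
theorem commute_of_roots {L : Type u} [Field L] [IsAlgClosed L] [Algebra K L] (base : D.P.Base) {t : tb b L ⟶ D.T}
    (ht : ∀ r, chr D (D.P.root r) t = 1) (x : tb b L ⟶ G) : Commute (tG D t) x := by
  obtain ⟨φ, hφ⟩ := exists_form_base D.P base
  obtain ⟨n, l, hl⟩ := exists_posList D (-φ)
  obtain ⟨m, l', hl'⟩ := exists_posList D φ
  obtain ⟨e, e', hee⟩ := exists_tb_self (L := L) b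
  obtain ⟨p, q, hpq⟩ := exists_mul_cell hl hl' (fun a => (mem_posRoots_iff D.P base hφ a).2.2) (e ≫ x)
  have hc := commute_cell D ht l l'
  generalize RedSub.cellMap D l l' = cm at hpq hc
  have hx : x = ((e' ≫ p) ≫ cm) * ((e' ≫ q) ≫ cm) := by
    rw [Category.assoc, Category.assoc, ← MonObj.comp_mul, ← hpq, reassoc_of% hee]
  subst hx
  exact (hc _).mul_right (hc _)

/-- A fixed point of a regular cocharacter over an algebraically closed field lies in the torus. -/
theorem exists_torus_of_fixed (base : D.P.Base) (hφ : ∀ a ∈ base.support, 0 < φ (D.P.root a))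
    {g : tb b K ⟶ G} (hg : (lam D φ).IsFixed g) : ∃ t : tb b K ⟶ D.T, g = tG D t := by
  obtain ⟨n, l, hl⟩ := exists_posList D (-φ)
  obtain ⟨m, l', hl'⟩ := exists_posList D φ
  haveI := isOpenImmersion_cell hl hl' (fun a => (mem_posRoots_iff D.P base hφ a).2.2)
  let cm := RedSub.cellMap D l l'
  let bK : Spec (CommRingCat.of K) ⟶ S := Spec.map (CommRingCat.ofHom (algebraMap K K)) ≫ b
  have hone : (1 : tb b K ⟶ G).left (IsLocalRing.closedPoint K) ∈ cm.left.opensRange := by
    rw [← cellMap_one D l l' b]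
    exact ⟨_, rfl⟩
  have hmem : ∀ h : tb b K ⟶ G, h.left (IsLocalRing.closedPoint K) ∈ cm.left.opensRange →
      ∃ (wn : tb b K ⟶ G) (t : tb b K ⟶ D.T) (wp : tb b K ⟶ G), (lam D (-φ)).HasLimOne wn ∧
        (lam D φ).HasLimOne wp ∧ h = wn * tG D t * wp := by
    intro h hh
    have hr : Set.range h.left ⊆ Set.range cm.left := by
      rintro _ ⟨z, rfl⟩
      obtain rfl : z = IsLocalRing.closedPoint K := Subsingleton.elim (α := Spec (CommRingCat.of K)) _ _
      exact hh
    let p : tb b K ⟶ CellSrc D n m :=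
      Over.homMk (IsOpenImmersion.lift cm.left h.left hr) (by rw [← Over.w cm, IsOpenImmersion.lift_fac_assoc, Over.w])
    have hp : p ≫ cm = h := Over.OverMorphism.ext (IsOpenImmersion.lift_fac _ _ _)
    obtain ⟨y, t, x, hpe⟩ := exists_cellPt D p
    exact ⟨word D l y, t, word D l' x, hasLimOne_word D (hl.pos D) _, hasLimOne_word D (hl'.pos D) _,
      by rw [← hp, hpe, cellPt_cellMap, cellWord, _root_.mul_assoc]⟩
  let φ' : Over.mk bK ⊗ G ⟶ G := (fst _ _ ≫ g) * snd _ _
  have hφ' : ∀ h : Over.mk bK ⟶ G, lift (𝟙 _) h ≫ φ' = g * h := fun h => by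
    show lift (𝟙 _) h ≫ (fst (Over.mk bK) G ≫ g * snd (Over.mk bK) G) = _
    rw [MonObj.comp_mul, lift_snd, ← Category.assoc, lift_fst, Category.id_comp]
  obtain ⟨h, m₁, m₂⟩ := GrpSchLib.RankOne.exists_point_mem D.reductive bK (snd _ _) φ' cm.left.opensRange
    cm.left.opensRange 1 g⁻¹ (by rw [lift_snd]; exact hone) (by rw [hφ', mul_inv_cancel]; exact hone)
  rw [lift_snd] at m₁
  rw [hφ'] at m₂
  obtain ⟨wn, t, wp, hwn, hwp, rfl⟩ := hmem h m₁
  obtain ⟨wn', t', wp', hwn', hwp', he⟩ := hmem _ m₂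
  have hM : ∀ s : tb b K ⟶ D.T, (lam D φ).IsFixed (tG D s : tb b K ⟶ G) := fun s => fixed_tG D φ s
  have e1 : wn'⁻¹ * (g * wn * g⁻¹) = tG D t' * wp' * wp⁻¹ * (g * tG D t)⁻¹ := by
    have h1 : g * wn * g⁻¹ = (g * (wn * tG D t * wp)) * wp⁻¹ * (g * tG D t)⁻¹ := by group
    rw [h1, show g * (wn * tG D t * wp) = wn' * tG D t' * wp' from he]
    group
  have hX : wn'⁻¹ * (g * wn * g⁻¹) = 1 := eq_one_of_opposite D
    (e1 ▸ ((((hM t').hasLim _).mul _ (hwp'.hasLim _)).mul _ ((hwp.hasLim _).inv _)).mul _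
      (((hg.mul (hM t)).hasLim _).inv _))
    ((hwn'.inv _).mul _ (hwn.conj_fixed (fixed_neg hg)))
  rw [e1] at hX
  have hfix : (tG D t')⁻¹ * (g * tG D t) = wp' * wp⁻¹ := by
    have h1 : g * tG D t = tG D t' * wp' * wp⁻¹ := (mul_inv_eq_one.mp hX).symm
    rw [h1]; group
  have hY : (tG D t')⁻¹ * (g * tG D t) = 1 := Cochar.eq_one_of_fixed_of_limOne _ ((hM t').inv.mul (hg.mul (hM t)))
    (hfix ▸ hwp'.mul _ (hwp.inv _))
  refine ⟨t' * t⁻¹, ?_⟩
  rw [tG_mul, tG_inv, eq_mul_inv_iff_mul_eq]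
  exact (inv_mul_eq_one.mp hY).symm

end Field

variable (D : Red.Pinning G) (g : 𝟙_ (Over S) ⟶ G)
variable {A : Type u} [CommRing A] {b : Spec (CommRingCat.of A) ⟶ S}

theorem tm_gB {B C : Type u} [CommRing B] [Algebra A B] [CommRing C] [Algebra A C] (ψ : B →ₐ[A] C) :
    tm b ψ ≫ toUnit (tb b B) ≫ g = toUnit (tb b C) ≫ g := by
  rw [← Category.assoc, toUnit_unique (tm b ψ ≫ toUnit (tb b B)) (toUnit (tb b C))]

theorem all_roots {B : Type u} [CommRing B] [Algebra A B] {t t' : tb b B ⟶ D.T}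
    (h : ∀ a ∈ D.base.support, chr D.toSplitRed (D.P.root a) t = chr D.toSplitRed (D.P.root a) t') (r : D.idx) :
    chr D.toSplitRed (D.P.root r) t = chr D.toSplitRed (D.P.root r) t' := by
  obtain ⟨χ, rfl⟩ := tpt_surjective D.toSplitRed t
  obtain ⟨χ', rfl⟩ := tpt_surjective D.toSplitRed t'
  simp only [chr_tpt] at h ⊢
  let H : AddSubgroup D.M :=
    { carrier := {m | χ (Multiplicative.ofAdd m) = χ' (Multiplicative.ofAdd m)}
      zero_mem' := by simp
      add_mem' := fun {x y} hx hy => by simp [ofAdd_add, map_mul] at hx hy ⊢; rw [hx, hy]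
      neg_mem' := fun {x} hx => by simpa [ofAdd_neg] using hx }
  have hcl : AddSubmonoid.closure (D.P.root '' ↑D.base.support) ≤ H.toAddSubmonoid := by
    rw [AddSubmonoid.closure_le]
    rintro _ ⟨a, ha, rfl⟩
    exact h a ha
  show D.P.root r ∈ H
  rcases D.base.root_mem_or_neg_mem r with hr | hr
  · exact hcl hr
  · exact neg_mem_iff.1 (hcl hr : -D.P.root r ∈ H)

variable (hT : ∀ (X : Over S) (t : X ⟶ D.T), ∃ t' : X ⟶ D.T, (toUnit X ≫ g) * (t ≫ D.i) * (toUnit X ≫ g)⁻¹ = t' ≫ D.i)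
  (hu : ∀ a ∈ D.base.support, ∀ (X : Over S) (x : X ⟶ Red.Ga S),
    (toUnit X ≫ g) * (x ≫ D.u a) * (toUnit X ≫ g)⁻¹ = x ≫ D.u a)

include hu

theorem conj_roots {B : Type u} [CommRing B] [Algebra A B] {t t' : tb b B ⟶ D.T}
    (h : (toUnit (tb b B) ≫ g) * tG D.toSplitRed t * (toUnit (tb b B) ≫ g)⁻¹ = tG D.toSplitRed t') (r : D.idx) :
    chr D.toSplitRed (D.P.root r) t' = chr D.toSplitRed (D.P.root r) t := by
  refine all_roots D (fun a ha => Units.ext ?_) r
  have e : ∀ x : B, (toUnit (tb b B) ≫ g) * ua D.toSplitRed a x * (toUnit (tb b B) ≫ g)⁻¹ =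
      (ua D.toSplitRed a x : tb b B ⟶ G) := fun x => hu a ha _ (gaPt x)
  have h1 := congrArg (fun z => (toUnit (tb b B) ≫ g) * z * (toUnit (tb b B) ≫ g)⁻¹)
    (conj_ua D.toSplitRed t a (1 : B))
  simp only [mul_one] at h1
  rw [e, show ∀ (gB' p q : tb b B ⟶ G), gB' * (p * q * p⁻¹) * gB'⁻¹ = (gB' * p * gB'⁻¹) * (gB' * q * gB'⁻¹) * (gB' * p * gB'⁻¹)⁻¹
    from fun gB' p q => by group, h, e, conj_ua, mul_one] at h1
  exact ua_injective _ _ h1

include hT

theorem commute_regular {K : Type u} [Field K] [IsAlgClosed K] (b : Spec (CommRingCat.of K) ⟶ S) (φ : D.M →+ ℤ) :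
    (lam D.toSplitRed φ).IsFixed (toUnit (tb b K) ≫ g) := by
  let B := K[T;T⁻¹]
  let gB' : tb b B ⟶ G := toUnit (tb b B) ≫ g
  let τ : tb b B ⟶ D.T := tpt D.toSplitRed (coVal D.toSplitRed φ (Tu K))
  obtain ⟨t', ht'⟩ : ∃ t' : tb b B ⟶ D.T, gB' * tG D.toSplitRed τ * gB'⁻¹ = tG D.toSplitRed t' := hT _ τ
  obtain ⟨ζ, hζ⟩ := tpt_surjective D.toSplitRed (t' * τ⁻¹)
  have hroot : ∀ r, chr D.toSplitRed (D.P.root r) (tpt D.toSplitRed ζ : tb b B ⟶ D.T) = 1 := fun r => by
    have hinv : chr D.toSplitRed (D.P.root r) τ⁻¹ = (chr D.toSplitRed (D.P.root r) τ)⁻¹ :=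
      map_inv (MonoidHom.mk' (chr D.toSplitRed (D.P.root r)) (chr_mul D.toSplitRed _)) τ
    rw [hζ, chr_mul, hinv, conj_roots D g hu ht', mul_inv_cancel]
  have ht2 : gB' * tG D.toSplitRed τ * gB'⁻¹ = tG D.toSplitRed (tpt D.toSplitRed ζ) * tG D.toSplitRed τ := by
    rw [ht', hζ, ← tG_mul, inv_mul_cancel_right]
  -- the correction is trivial at one
  have hsub : ∀ m, subst (AlgHom.id K K) 1 (ζ m : B) = 1 := by
    intro m
    have h := congrArg (tm b (subst (AlgHom.id K K) (1 : Kˣ)) ≫ ·) ht2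
    simp only [tm_mul, tm_inv, tG_map, gB', tm_gB, τ, tpt_map] at h
    have e : (Units.map (subst (AlgHom.id K K) (1 : Kˣ) : B →* K)).comp (coVal D.toSplitRed φ (Tu K)) = 1 :=
      MonoidHom.ext fun x => by
        rw [MonoidHom.comp_apply, show coVal D.toSplitRed φ (Tu K) x = Tu K ^ φ (Multiplicative.toAdd x) from
          coVal_apply D.toSplitRed φ _ _, map_zpow]
        exact (congrArg (· ^ φ (Multiplicative.toAdd x)) (subst_Tu _ _)).trans (one_zpow _)
    rw [e, show tpt D.toSplitRed (1 : Multiplicative D.M →* Kˣ) = (1 : tb b K ⟶ D.T) from map_one (tHom _), tG_one,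
      _root_.mul_one, _root_.mul_one, mul_inv_cancel, ← tG_one D.toSplitRed] at h
    have h' := congrArg (chr D.toSplitRed (Multiplicative.toAdd m)) (tG_injective D.toSplitRed h.symm)
    rw [← map_one (tHom D.toSplitRed (b := b) (B := K))] at h'
    simp only [tHom, MonoidHom.mk'_apply, chr_tpt, ofAdd_toAdd, MonoidHom.comp_apply, MonoidHom.one_apply] at h'
    exact congrArg Units.val h'
  obtain ⟨k, hk⟩ := exists_hom_T ζ hsub
  have hζk : ζ = coVal D.toSplitRed k (Tu K) := MonoidHom.ext fun m => Units.ext (by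
    rw [← ofAdd_toAdd m, hk, coVal_apply, Tu_zpow])
  -- the correction commutes with the point
  have hcomm : gB' * tG D.toSplitRed (tpt D.toSplitRed ζ) = tG D.toSplitRed (tpt D.toSplitRed ζ) * gB' := by
    let L := AlgebraicClosure (FractionRing B)
    let ψ : B →ₐ[K] L := IsScalarTower.toAlgHom K B L
    have hψ : Function.Injective ψ := by
      show Function.Injective (algebraMap B L)
      rw [IsScalarTower.algebraMap_eq B (FractionRing B) L]
      exact (algebraMap (FractionRing B) L).injective.comp (IsFractionRing.injective B (FractionRing B))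
    refine eq_of_tm b hψ ?_
    rw [tm_mul, tm_mul, tG_map, tpt_map]
    refine ((commute_of_roots D.toSplitRed D.base (fun r => ?_) _).eq).symm
    rw [← tpt_map, chr_map, hroot, map_one]
  have hpow : ∀ n : ℕ, gB' ^ n * tG D.toSplitRed τ * (gB' ^ n)⁻¹ =
      tG D.toSplitRed (tpt D.toSplitRed ζ) ^ n * tG D.toSplitRed τ := by
    intro n
    induction n with
    | zero => simp
    | succ n ih =>
      have hc : gB' * tG D.toSplitRed (tpt D.toSplitRed ζ) ^ n * gB'⁻¹ = tG D.toSplitRed (tpt D.toSplitRed ζ) ^ n := by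
        rw [(Commute.pow_right (hcomm : Commute gB' _) n).eq, mul_inv_cancel_right]
      rw [pow_succ' gB', pow_succ _ n]
      calc _ = gB' * (gB' ^ n * tG D.toSplitRed τ * (gB' ^ n)⁻¹) * gB'⁻¹ := by group
        _ = (gB' * tG D.toSplitRed (tpt D.toSplitRed ζ) ^ n * gB'⁻¹) * (gB' * tG D.toSplitRed τ * gB'⁻¹) := by rw [ih]; group
        _ = _ := by rw [hc, ht2, mul_assoc]
  have hk0 : k = 0 := by
    refine eq_zero_of_bounded D.toSplitRed (b := b) k fun f => ?_
    let P : tb b ((FunRing b G)[T;T⁻¹]) ⟶ G :=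
      (tm b CL ≫ univ b) * ((lam D.toSplitRed φ).orb (univ b))⁻¹
    refine ⟨(ev b P f).coeff.support, fun n j hj => ?_⟩
    let h : tb b K ⟶ G := (toUnit (tb b K) ≫ g) ^ n
    have hP : tm b (mapL (ev b h)) ≫ P = tG D.toSplitRed (tpt D.toSplitRed (coVal D.toSplitRed (n • k) (Tu K))) := by
      have hCL : tm b (CL : K →ₐ[K] B) ≫ h = gB' ^ n := by
        rw [MonObj.comp_pow, tm_gB]
      have hn : coVal D.toSplitRed (n • k) (Tu K) = ζ ^ n := by
        rw [hζk]
        exact MonoidHom.ext fun m => by simp [coVal, zpowersHom_apply, ← zpow_natCast, ← zpow_mul, mul_comm]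
      rw [tm_mul, tm_inv, Cochar.orb_map, ← eq_tm_univ, ← Category.assoc, tm_comp, mapL_comp_CL, ← tm_comp,
        Category.assoc, ← eq_tm_univ, hCL, hn]
      show gB' ^ n * ((tG D.toSplitRed τ) * (tm b CL ≫ h) * (tG D.toSplitRed τ)⁻¹)⁻¹ = _
      rw [hCL, show tG D.toSplitRed (tpt D.toSplitRed (ζ ^ n) : tb b B ⟶ D.T) =
          tG D.toSplitRed (tpt D.toSplitRed ζ) ^ n from
        (congrArg (tGHom D.toSplitRed) (map_pow (tHom D.toSplitRed) ζ n)).trans (map_pow (tGHom _) _ n)]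
      calc _ = (gB' ^ n * tG D.toSplitRed τ * (gB' ^ n)⁻¹) * (tG D.toSplitRed τ)⁻¹ := by group
        _ = _ := by rw [hpow, mul_inv_cancel_right]
    rw [← hP, ev_comp, AlgHom.comp_apply, mapL_coeff, Finsupp.notMem_support_iff.1 hj, map_zero]
  have hfix : gB' * tG D.toSplitRed τ * gB'⁻¹ = tG D.toSplitRed τ := by
    rw [ht2, hζk, hk0, show coVal D.toSplitRed (0 : D.M →+ ℤ) (Tu K) = 1 from MonoidHom.ext fun m => by simp [coVal],
      show tpt D.toSplitRed (1 : Multiplicative D.M →* Bˣ) = (1 : tb b B ⟶ D.T) from map_one (tHom _), tG_one,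
      _root_.one_mul]
  show tG D.toSplitRed τ * (tm b CL ≫ toUnit (tb b K) ≫ g) * (tG D.toSplitRed τ)⁻¹ = _
  rw [tm_gB]
  show tG D.toSplitRed τ * gB' * (tG D.toSplitRed τ)⁻¹ = gB'
  rw [← mul_inv_eq_iff_eq_mul.1 hfix, mul_inv_cancel_right]

/-- The point lies in the torus. -/
theorem exists_torus (A : Type u) [CommRing A] (b : Spec (CommRingCat.of A) ⟶ S) :
    ∃ t : tb b A ⟶ D.T, toUnit (tb b A) ≫ g = tG D.toSplitRed t ∧ ∀ r, chr D.toSplitRed (D.P.root r) t = 1 := by
  obtain ⟨φ, hφ⟩ := exists_form_base D.P D.base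
  obtain ⟨n, l, hl⟩ := exists_posList D.toSplitRed (-φ)
  obtain ⟨m, l', hl'⟩ := exists_posList D.toSplitRed φ
  haveI := isOpenImmersion_cell hl hl' (fun a => (mem_posRoots_iff D.P D.base hφ a).2.2)
  let cm := RedSub.cellMap D.toSplitRed l l'
  have hr : Set.range g.left ⊆ Set.range cm.left := by
    rintro _ ⟨(s : S), rfl⟩
    let K := AlgebraicClosure (S.residueField s)
    obtain ⟨t, ht⟩ := exists_torus_of_fixed D.toSplitRed D.base hφ (commute_regular D g hT hu (Red.geomPt s) φ)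
    refine ⟨(RedCell22.cellPt D.toSplitRed (fun _ => (0 : K)) t (fun _ => 0) : tb (Red.geomPt s) K ⟶ _).left
      (IsLocalRing.closedPoint K), ?_⟩
    have e : RedCell22.cellPt D.toSplitRed (fun _ => (0 : K)) t (fun _ => 0) ≫ cm = toUnit (tb (Red.geomPt s) K) ≫ g := by
      rw [cellPt_cellMap, cellWord, word_zero, word_zero, _root_.one_mul, _root_.mul_one, ← ht]
    show (RedCell22.cellPt D.toSplitRed (fun _ => (0 : K)) t (fun _ => 0) ≫ cm).left _ = g.left s
    rw [e]
    show g.left ((toUnit (tb (Red.geomPt s) K)).left _) = g.left s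
    congr 1
    have h1 : (toUnit (tb (Red.geomPt s) K)).left = (tb (Red.geomPt s) K).hom :=
      (Category.comp_id _).symm.trans (Over.w (toUnit _))
    rw [h1]
    show S.fromSpecResidueField s _ = s
    exact Scheme.fromSpecResidueField_apply s _
  let p : 𝟙_ (Over S) ⟶ CellSrc D.toSplitRed n m :=
    Over.homMk (IsOpenImmersion.lift cm.left g.left hr) (by rw [← Over.w cm, IsOpenImmersion.lift_fac_assoc, Over.w])
  have hp : p ≫ cm = g := Over.OverMorphism.ext (IsOpenImmersion.lift_fac _ _ _)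
  obtain ⟨y, t, x, hpe⟩ := exists_cellPt D.toSplitRed (toUnit (tb b A) ≫ p)
  have hg : toUnit (tb b A) ≫ g = cellWord D.toSplitRed l l' y t x := by
    rw [← hp, ← Category.assoc, hpe, cellPt_cellMap]
  have hA : toUnit (tb b A) ≫ g = tG D.toSplitRed t := by
    refine hg.trans (cellWord_eq_torus hl hl' ?_)
    rw [← hg, tm_gB]
    exact hT _ _
  refine ⟨t, hA, fun r => ?_⟩
  have h1 : chr D.toSplitRed (D.P.root r) (1 : tb b A ⟶ D.T) = 1 :=
    map_one (MonoidHom.mk' (chr D.toSplitRed (D.P.root r)) (chr_mul D.toSplitRed _))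
  rw [← h1]
  refine all_roots D (fun a ha => Units.ext ?_) r
  have e : (toUnit (tb b A) ≫ g) * ua D.toSplitRed a (1 : A) * (toUnit (tb b A) ≫ g)⁻¹ = ua D.toSplitRed a 1 :=
    hu a ha _ (gaPt 1)
  rw [hA, conj_ua, mul_one] at e
  rw [ua_injective _ _ e, show chr D.toSplitRed (D.P.root a) (1 : tb b A ⟶ D.T) = 1 from
    map_one (MonoidHom.mk' (chr D.toSplitRed (D.P.root a)) (chr_mul D.toSplitRed _)), Units.val_one]

end Groth.Agent.Red23Lib.Pinned.Inner

end
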