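import Groth.Agent.Red23Lib.Pinned.Conj

/-!
# Parametrised root groups of a pinning and pairs of simple roots
-/

set_option autoImplicit false
set_option linter.style.haveILetI false

universe u

open CategoryTheory CategoryTheory.Limits AlgebraicGeometry MonoidalCategory CartesianMonoidalCategory
open Groth.Agent.GrpSchLib
open scoped MonObj

noncomputable section

namespace Groth.Agent.Red23Lib.Pinned

variable {S : Scheme.{u}} {G : Over S} [GrpObj G] {D : Red.Pinning G}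

theorem cst_mul (C C' : Γ((𝟙_ (Over S)).left, ⊤)) (X : Over S) : cst (C * C') X = cst C X * cst C' X :=
  map_mul (toUnit X).left.appTop.hom C C'

theorem cst_one (X : Over S) : cst (1 : Γ((𝟙_ (Over S)).left, ⊤)) X = 1 := map_one (toUnit X).left.appTop.hom

/-- A root homomorphism, rescaled by a unit, as a family of parametrisations. -/
structure RP (D : Red.Pinning G) where
  k : D.idx
  fn : ∀ X : Over S, Γ(X.left, ⊤) → (X ⟶ G)
  unit : (Γ((𝟙_ (Over S)).left, ⊤))ˣ
  eq : ∀ (X : Over S) (x : Γ(X.left, ⊤)), fn X x = up D.toSplitRed k (cst unit X * x)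

namespace RP

/-- A root homomorphism. -/
def ofRoot (D : Red.Pinning G) (k : D.idx) : RP D :=
  ⟨k, fun X x => up D.toSplitRed k x, 1, fun X x => by rw [Units.val_one, cst_one, _root_.one_mul]⟩

variable (c : RP D)

theorem isParam (X : Over S) : IsParam (c.fn X) := fun x y => by
  simp only [c.eq, mul_add, up_add]

theorem up_eq_fn {X : Over S} (v : Γ(X.left, ⊤)) :
    up D.toSplitRed c.k v = c.fn X (cst ((c.unit⁻¹ : _ˣ) : Γ((𝟙_ (Over S)).left, ⊤)) X * v) := by
  rw [c.eq, ← mul_assoc, ← cst_mul, Units.mul_inv, cst_one, _root_.one_mul]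

theorem comp_fn {X Y : Over S} (g : Y ⟶ X) (x : Γ(X.left, ⊤)) : g ≫ c.fn X x = c.fn Y (g.left.appTop x) := by
  rw [c.eq, c.eq, comp_up, map_mul, cst_natural]

theorem cancel {X : Over S} {v w : Γ(X.left, ⊤)} (h : cst (c.unit : Γ((𝟙_ (Over S)).left, ⊤)) X * v =
    cst (c.unit : Γ((𝟙_ (Over S)).left, ⊤)) X * w) : v = w := by
  have := congrArg (cst ((c.unit⁻¹ : _ˣ) : Γ((𝟙_ (Over S)).left, ⊤)) X * ·) h
  simpa only [← mul_assoc, ← cst_mul, Units.inv_mul, cst_one, _root_.one_mul] using this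

variable (hd : Duals D) (hax : CellAx D.toSplitRed D.base) {a : D.idx} (ha : a ∈ D.base.support)
  (hk : c.k ∈ RedSub.posRoots D.P D.base) (hka : c.k ≠ a)

/-- The conjugate by the Weyl element of a simple root. -/
def conj : RP D where
  k := D.P.reflectionPerm a c.k
  fn X x := W D.toSplitRed a X * c.fn X x * (W D.toSplitRed a X)⁻¹
  unit := (exists_conj_unit hd hax ha hk hka).choose * c.unit
  eq X x := by
    rw [c.eq, (exists_conj_unit hd hax ha hk hka).choose_spec, Units.val_mul, cst_mul, mul_assoc]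

theorem conj_k : (c.conj hd hax ha hk hka).k = D.P.reflectionPerm a c.k := rfl

theorem conj_fn (X : Over S) (x : Γ(X.left, ⊤)) :
    (c.conj hd hax ha hk hka).fn X x = W D.toSplitRed a X * c.fn X x * (W D.toSplitRed a X)⁻¹ := rfl

include hd ha in
theorem conj_twice {n : ℤ} (hn : D.P.pairing c.k a = n) (X : Over S) (x : Γ(X.left, ⊤)) :
    W D.toSplitRed a X * (W D.toSplitRed a X * c.fn X x * (W D.toSplitRed a X)⁻¹) * (W D.toSplitRed a X)⁻¹ =
      c.fn X ((((-1 : (Γ(X.left, ⊤))ˣ) ^ n : _ˣ) : Γ(X.left, ⊤)) * x) := by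
  rw [c.eq, W_W_conj hd ha, c.eq, hn]
  congr 1
  ring

include hd hax ha hk hka in
/-- A root group commuting with that of a simple root and fixed by its reflection is fixed by its Weyl element. -/
theorem conj_fixed (hfix : D.P.reflectionPerm a c.k = c.k)
    (hcomm : ∀ (X : Over S) (x y : Γ(X.left, ⊤)), Commute (up D.toSplitRed a x) (c.fn X y))
    (X : Over S) (x : Γ(X.left, ⊤)) :
    W D.toSplitRed a X * c.fn X x * (W D.toSplitRed a X)⁻¹ = c.fn X x := by
  obtain ⟨C, hC⟩ := exists_conj_unit hd hax ha hk hka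
  have hneg : ∀ v y : Γ(X.left, ⊤), Commute (up D.toSplitRed (neg D.toSplitRed a) v) (c.fn X y) := by
    intro v y
    have h1 : Commute (W D.toSplitRed a X * up D.toSplitRed a (-v) * (W D.toSplitRed a X)⁻¹)
        (W D.toSplitRed a X * c.fn X (cst ((C⁻¹ : _ˣ) : Γ((𝟙_ (Over S)).left, ⊤)) X * y) * (W D.toSplitRed a X)⁻¹) :=
      (hcomm X (-v) _).map (MulAut.conj (W D.toSplitRed a X)).toMonoidHom
    rw [W_conj_self hd hax ha, neg_neg, c.eq, hC, hfix,
      show cst (C : Γ((𝟙_ (Over S)).left, ⊤)) X * (cst (c.unit : Γ((𝟙_ (Over S)).left, ⊤)) X *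
          (cst ((C⁻¹ : _ˣ) : Γ((𝟙_ (Over S)).left, ⊤)) X * y)) =
        (cst (C : Γ((𝟙_ (Over S)).left, ⊤)) X * cst ((C⁻¹ : _ˣ) : Γ((𝟙_ (Over S)).left, ⊤)) X) *
          (cst (c.unit : Γ((𝟙_ (Over S)).left, ⊤)) X * y) by ring,
      ← cst_mul, Units.mul_inv, cst_one, _root_.one_mul, ← c.eq] at h1
    exact h1
  have hw : Commute (W D.toSplitRed a X) (c.fn X x) :=
    ((hcomm X 1 x).mul_left (hneg (-1) x)).mul_left (hcomm X 1 x)
  rw [hw.eq, mul_inv_cancel_right]

end RP

section Pair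

variable (D) (a b : D.idx)

/-- A root with the given coordinates along two roots. -/
def Comb (k : D.idx) (p : ℤ × ℤ) : Prop := D.P.root k = p.1 • D.P.root a + p.2 • D.P.root b

theorem comb_fst : Comb D a b a (1, 0) := by simp [Comb]

theorem comb_snd : Comb D a b b (0, 1) := by simp [Comb]

variable {D a b}

theorem Comb.pairing {k : D.idx} {p : ℤ × ℤ} (h : Comb D a b k p) (x : D.idx) :
    D.P.pairing k x = p.1 * D.P.pairing a x + p.2 * D.P.pairing b x := by
  rw [← corHom_root D.toSplitRed, h, map_add, map_zsmul, map_zsmul, corHom_root, corHom_root, smul_eq_mul,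
    smul_eq_mul]

theorem Comb.refl_fst {k : D.idx} {p : ℤ × ℤ} (h : Comb D a b k p) {q : ℤ × ℤ}
    (hq : (-p.1 - D.P.pairing b a * p.2, p.2) = q) : Comb D a b (D.P.reflectionPerm a k) q := by
  subst hq
  show D.P.root _ = _
  rw [RootPairing.root_reflectionPerm, reflection_eq D.toSplitRed, corHom_root, h.pairing, D.P.pairing_same, h]
  dsimp only
  module

theorem Comb.refl_snd {k : D.idx} {p : ℤ × ℤ} (h : Comb D a b k p) {q : ℤ × ℤ}
    (hq : (p.1, -p.2 - D.P.pairing a b * p.1) = q) : Comb D a b (D.P.reflectionPerm b k) q := by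
  subst hq
  show D.P.root _ = _
  rw [RootPairing.root_reflectionPerm, reflection_eq D.toSplitRed, corHom_root, h.pairing, D.P.pairing_same, h]
  dsimp only
  module

theorem indep_pair (ha : a ∈ D.base.support) (hb : b ∈ D.base.support) (hne : a ≠ b) {i j : ℤ}
    (h : i • D.P.root a + j • D.P.root b = 0) : i = 0 ∧ j = 0 := by
  classical
  have hli := D.base.linearIndepOn_root
  have := (linearIndepOn_iff'.1 hli) {a, b} (fun x => if x = a then i else j)
    (by simp [Set.insert_subset_iff, ha, hb]) (by simpa [Finset.sum_pair hne, hne.symm] using h)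
  exact ⟨by simpa using this a (by simp), by simpa [hne.symm] using this b (by simp)⟩

theorem Comb.ext (ha : a ∈ D.base.support) (hb : b ∈ D.base.support) (hne : a ≠ b) {k k' : D.idx} {p q : ℤ × ℤ}
    (h : Comb D a b k p) (h' : Comb D a b k' q) (e : k = k') : p = q := by
  subst e
  have := indep_pair ha hb hne (i := p.1 - q.1) (j := p.2 - q.2) (by
    simp only [sub_smul]
    linear_combination (norm := abel) h'.symm.trans h |>.symm)
  exact Prod.ext (sub_eq_zero.1 this.1) (sub_eq_zero.1 this.2)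

theorem Comb.idx_eq {k k' : D.idx} {p : ℤ × ℤ} (h : Comb D a b k p) (h' : Comb D a b k' p) : k = k' :=
  D.P.root.injective (h.trans h'.symm)

theorem Comb.ne_fst (ha : a ∈ D.base.support) (hb : b ∈ D.base.support) (hne : a ≠ b) {k : D.idx} {p : ℤ × ℤ}
    (h : Comb D a b k p) (hp : p ≠ (1, 0)) : k ≠ a := fun e => hp (h.ext ha hb hne (comb_fst D a b) e)

theorem Comb.ne_snd (ha : a ∈ D.base.support) (hb : b ∈ D.base.support) (hne : a ≠ b) {k : D.idx} {p : ℤ × ℤ}
    (h : Comb D a b k p) (hp : p ≠ (0, 1)) : k ≠ b := fun e => hp (h.ext ha hb hne (comb_snd D a b) e)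

theorem Comb.mem_pos (ha : a ∈ D.base.support) (hb : b ∈ D.base.support) {k : D.idx} {p : ℤ × ℤ}
    (h : Comb D a b k p) (h1 : 0 ≤ p.1) (h2 : 0 ≤ p.2) : k ∈ RedSub.posRoots D.P D.base := by
  obtain ⟨i, hi⟩ := Int.eq_ofNat_of_zero_le h1
  obtain ⟨j, hj⟩ := Int.eq_ofNat_of_zero_le h2
  refine mem_posRoots_of_comb D.base (mem_posRoots_of_mem D.base ha) (mem_posRoots_of_mem D.base hb)
    (p := i) (q := j) ?_
  rw [h, hi, hj]
  simp [natCast_zsmul]

theorem Comb.indep (ha : a ∈ D.base.support) (hb : b ∈ D.base.support) (hne : a ≠ b) {k k' : D.idx} {p q : ℤ × ℤ}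
    (h : Comb D a b k p) (h' : Comb D a b k' q) (hdet : p.1 * q.2 - p.2 * q.1 ≠ 0) (i j : ℤ)
    (he : i • D.P.root k + j • D.P.root k' = 0) : i = 0 ∧ j = 0 := by
  obtain ⟨e1, e2⟩ := indep_pair ha hb hne (i := i * p.1 + j * q.1) (j := i * p.2 + j * q.2) (by
    rw [h, h'] at he
    rw [← he]
    module)
  constructor
  · have : i * (p.1 * q.2 - p.2 * q.1) = 0 := by linear_combination q.2 * e1 - q.1 * e2
    exact (mul_eq_zero.1 this).resolve_right hdet
  · have : j * (p.1 * q.2 - p.2 * q.1) = 0 := by linear_combination p.1 * e2 - p.2 * e1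
    exact (mul_eq_zero.1 this).resolve_right hdet

variable (hax : CellAx D.toSplitRed D.base) (ha : a ∈ D.base.support) (hb : b ∈ D.base.support) (hne : a ≠ b)

include hax ha hb hne

/-- Ordered products over distinct roots in the plane of two simple roots determine the parameters. -/
theorem RP.prod_inj {r : ℕ} (c : Fin r → RP D) (co : Fin r → ℤ × ℤ) (hco : Function.Injective co)
    (h : ∀ i, Comb D a b (c i).k (co i) ∧ 0 ≤ (co i).1 ∧ 0 ≤ (co i).2) {X : Over S} {x x' : Fin r → Γ(X.left, ⊤)}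
    (he : (List.ofFn fun i => (c i).fn X (x i)).prod = (List.ofFn fun i => (c i).fn X (x' i)).prod) : x = x' := by
  simp only [RP.eq] at he
  have hinj := prod_up_inj hax (fun i => (c i).k)
    (fun i j hij => hco ((h i).1.ext ha hb hne (h j).1 hij)) (fun i => (h i).1.mem_pos ha hb (h i).2.1 (h i).2.2) he
  exact funext fun i => (c i).cancel (congrFun hinj i)

/-- The commutation rule of two root groups in the plane of two simple roots. -/
theorem RP.exists_rel (α β : RP D) {pα pβ : ℤ × ℤ} (hα : Comb D a b α.k pα) (hβ : Comb D a b β.k pβ)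
    (hp : 0 ≤ pα.1 ∧ 0 ≤ pα.2 ∧ 0 ≤ pβ.1 ∧ 0 ≤ pβ.2) (hdet : pα.1 * pβ.2 - pα.2 * pβ.1 ≠ 0)
    {r : ℕ} (c : Fin r → RP D) (co : Fin r → ℤ × ℤ) (e : Fin r → ℕ × ℕ) (hco : Function.Injective co)
    (hc : ∀ i, Comb D a b (c i).k (co i))
    (he : ∀ i, 0 < (e i).1 ∧ 0 < (e i).2 ∧
      co i = ((e i).1 * pα.1 + (e i).2 * pβ.1, (e i).1 * pα.2 + (e i).2 * pβ.2))
    (hall : ∀ (k : D.idx) (i j : ℕ), 0 < i → 0 < j →
      Comb D a b k (i * pα.1 + j * pβ.1, i * pα.2 + j * pβ.2) →
      ∃ l, co l = (i * pα.1 + j * pβ.1, i * pα.2 + j * pβ.2)) :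
    ∃ C : ∀ X : Over S, Fin r → Γ(X.left, ⊤), ∀ (X : Over S) (x y : Γ(X.left, ⊤)),
      β.fn X y * α.fn X x = α.fn X x * β.fn X y *
        (List.ofFn fun i => (c i).fn X (C X i * (x ^ (e i).1 * y ^ (e i).2))).prod := by
  have hcomb : ∀ i j : ℕ, i • D.P.root α.k + j • D.P.root β.k =
      ((i * pα.1 + j * pβ.1 : ℤ)) • D.P.root a + ((i * pα.2 + j * pβ.2 : ℤ)) • D.P.root b := fun i j => by
    rw [hα, hβ, ← natCast_zsmul, ← natCast_zsmul]
    module
  obtain ⟨C, hC⟩ := exists_commutator hax (hα.mem_pos ha hb hp.1 hp.2.1) (hβ.mem_pos ha hb hp.2.2.1 hp.2.2.2)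
    (hα.indep ha hb hne hβ hdet) (fun i => (c i).k) (fun i => (e i).1) (fun i => (e i).2)
    (fun i j hij => hco ((hc i).ext ha hb hne (hc j) hij))
    (fun i => ⟨(he i).1, (he i).2.1, by rw [hcomb, hc i, (he i).2.2]⟩)
    (fun k i j hi hj hk => by
      obtain ⟨l, hl⟩ := hall k i j hi hj (hk.trans (hcomb i j))
      exact ⟨l, (hc l).idx_eq (hl ▸ hk.trans (hcomb i j))⟩)
  refine ⟨fun X i => cst ((((c i).unit⁻¹ : _ˣ) : Γ((𝟙_ (Over S)).left, ⊤))) X * (cst (C i) X * (-1) ^ (e i).1 *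
    cst (α.unit : Γ((𝟙_ (Over S)).left, ⊤)) X ^ (e i).1 * cst (β.unit : Γ((𝟙_ (Over S)).left, ⊤)) X ^ (e i).2),
    fun X x y => ?_⟩
  have h := hC X (-(cst (α.unit : Γ((𝟙_ (Over S)).left, ⊤)) X * x)) (cst (β.unit : Γ((𝟙_ (Over S)).left, ⊤)) X * y)
  rw [(isParam_up D.toSplitRed α.k X).neg, ← α.eq, ← β.eq, inv_inv, mul_assoc, inv_mul_eq_iff_eq_mul,
    ← mul_assoc] at h
  rw [h]
  congr 2
  refine congrArg List.ofFn (funext fun i => ?_)
  rw [(c i).up_eq_fn]
  congr 1
  rw [neg_pow, mul_pow, mul_pow]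
  simp only [cst]
  ring

end Pair

end Groth.Agent.Red23Lib.Pinned

end
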