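import Groth.Agent.Red23Lib.Pinned.Pair
import Groth.Agent.Red23Lib.Pinned.AlgA2

/-!
# A pair of simple roots of type `A₂` in a pinning
-/

set_option autoImplicit false
set_option linter.style.haveILetI false

universe u

open CategoryTheory CategoryTheory.Limits AlgebraicGeometry MonoidalCategory CartesianMonoidalCategory
open Groth.Agent.GrpSchLib
open scoped MonObj

noncomputable section

namespace Groth.Agent.Red23Lib.Pinned

variable {S : Scheme.{u}} {G : Over S} [GrpObj G] {D : Red.Pinning G}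

theorem nn_eq_pairing (a b : D.idx) : Groth.Agent.RootData.nn D.P a b = D.P.pairing a b :=
  (Int.cast_id).symm.trans (Groth.Agent.RootData.nn_cast D.P a b)

variable (hd : Duals D) (hax : CellAx D.toSplitRed D.base) {a b : D.idx} (ha : a ∈ D.base.support)
  (hb : b ∈ D.base.support) (hne : a ≠ b)

/-- The root homomorphism of `a + b`. -/
def rpC : RP D :=
  (RP.ofRoot D a).conj hd hax hb (mem_posRoots_of_mem D.base ha) hne

include hd hax ha hb hne

theorem A2_data (hba : D.P.pairing b a = -1) (hab : D.P.pairing a b = -1) (X : Over S) :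
    ∃ Φ : A2Rel Γ(X.left, ⊤) (X ⟶ G), Φ.a = up D.toSplitRed a ∧ Φ.b = up D.toSplitRed b ∧
      Φ.c = (rpC hd hax ha hb hne).fn X ∧ Φ.na = up D.toSplitRed (neg D.toSplitRed a) ∧
      Φ.nb = up D.toSplitRed (neg D.toSplitRed b) := by
  classical
  set c := rpC hd hax ha hb hne with hcdef
  let A := RP.ofRoot D a
  let B := RP.ofRoot D b
  have hc : Comb D a b c.k (1, 1) :=
    (comb_fst D a b).refl_snd (by rw [hab]; rfl)
  have hsa : Comb D a b (D.P.reflectionPerm a b) (1, 1) := (comb_snd D a b).refl_fst (by rw [hba]; rfl)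
  obtain ⟨δ, hδ⟩ := exists_conj_unit hd hax ha (mem_posRoots_of_mem D.base hb) hne.symm
  rw [hsa.idx_eq hc] at hδ
  have hab' : ∀ X x, W D.toSplitRed a X * up D.toSplitRed b x * (W D.toSplitRed a X)⁻¹ =
      c.fn X (cst ((c.unit⁻¹ : _ˣ) : Γ((𝟙_ (Over S)).left, ⊤)) X *
        cst (δ : Γ((𝟙_ (Over S)).left, ⊤)) X * x) := by
    intro X x
    rw [hδ, RP.up_eq_fn, mul_assoc]
  have hcpos := hc.mem_pos ha hb (by norm_num) (by norm_num)
  have hcne : c.k ≠ a := hc.ne_fst ha hb hne (by simp)
  have hca : Comb D a b (D.P.reflectionPerm a c.k) (0, 1) := hc.refl_fst (by rw [hba]; rfl)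
  obtain ⟨ε, hε⟩ := exists_conj_unit hd hax ha hcpos hcne
  rw [hca.idx_eq (comb_snd D a b)] at hε
  have hac' : ∀ X x, W D.toSplitRed a X * c.fn X x * (W D.toSplitRed a X)⁻¹ =
      up D.toSplitRed b (cst (ε : Γ((𝟙_ (Over S)).left, ⊤)) X * cst (c.unit : Γ((𝟙_ (Over S)).left, ⊤)) X * x) := by
    intro X x
    rw [c.eq, hε, mul_assoc]
  have hroots : ∀ (k : D.idx) (i j : ℤ), Comb D a b k (i, j) → (i, j) ∈ setA2 ∨ (-i, -j) ∈ setA2 := fun k i j h =>
    roots_A2 (Groth.Agent.RootData.Simple.of_base D.base) (isIndiv_of_base D.base) ha hb hne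
      ((nn_eq_pairing b a).trans hba) ((nn_eq_pairing a b).trans hab) h
  obtain ⟨C, hC⟩ := RP.exists_rel hax ha hb hne A B (comb_fst D a b) (comb_snd D a b) (by norm_num) (by norm_num)
    ![c] ![(1, 1)] ![(1, 1)] (Function.injective_of_subsingleton _)
    (Fin.forall_fin_one.2 hc) (Fin.forall_fin_one.2 (by norm_num))
    (fun k i j hi hj h => ⟨0, by
      have := hroots k _ _ h
      simp [setA2, Prod.ext_iff] at this ⊢
      omega⟩)
  obtain ⟨C₁, hC₁⟩ := RP.exists_rel hax ha hb hne A c (comb_fst D a b) hc (by norm_num) (by norm_num)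
    ![] ![] ![] (fun i => i.elim0) (fun i => i.elim0) (fun i => i.elim0)
    (fun k i j hi hj h => by
      have := hroots k _ _ h
      simp [setA2] at this
      omega)
  obtain ⟨C₂, hC₂⟩ := RP.exists_rel hax ha hb hne B c (comb_snd D a b) hc (by norm_num) (by norm_num)
    ![] ![] ![] (fun i => i.elim0) (fun i => i.elim0) (fun i => i.elim0)
    (fun k i j hi hj h => by
      have := hroots k _ _ h
      simp [setA2] at this
      omega)
  refine ⟨{
    a := up D.toSplitRed a
    b := up D.toSplitRed b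
    c := c.fn X
    na := up D.toSplitRed (neg D.toSplitRed a)
    nb := up D.toSplitRed (neg D.toSplitRed b)
    ha := isParam_up D.toSplitRed a X
    hb := isParam_up D.toSplitRed b X
    hc := c.isParam X
    hna := isParam_up D.toSplitRed _ X
    hnb := isParam_up D.toSplitRed _ X
    A := C X 0
    ν := cst ((c.unit⁻¹ : _ˣ) : Γ((𝟙_ (Over S)).left, ⊤)) X * cst (δ : Γ((𝟙_ (Over S)).left, ⊤)) X
    «μ» := cst (ε : Γ((𝟙_ (Over S)).left, ⊤)) X * cst (c.unit : Γ((𝟙_ (Over S)).left, ⊤)) X
    rel := fun x y => by simpa [A, B, RP.ofRoot] using hC X x y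
    comm_ac := fun x y => (show c.fn X y * up D.toSplitRed a x = _ by
      simpa [A, RP.ofRoot] using hC₁ X x y : _).symm
    comm_bc := fun x y => (show c.fn X y * up D.toSplitRed b x = _ by
      simpa [B, RP.ofRoot] using hC₂ X x y : _).symm
    conj_a_self := fun x => W_conj_self hd hax ha x
    conj_b_self := fun x => W_conj_self hd hax hb x
    def_c := fun x => rfl
    conj_b_c := fun x => by
      rw [hcdef]
      refine ((RP.ofRoot D a).conj_twice hd hb hab X x).trans ?_
      simp [RP.ofRoot]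
    conj_a_b := fun x => hab' X x
    conj_a_c := fun x => hac' X x
    inj := fun x y z x' y' z' h => by
      have h1 : ![x, y, z] = ![x', y', z'] :=
        RP.prod_inj hax ha hb hne ![A, B, c] ![(1, 0), (0, 1), (1, 1)] (by decide)
          (fun i => by
            fin_cases i
            · exact ⟨comb_fst D a b, by norm_num⟩
            · exact ⟨comb_snd D a b, by norm_num⟩
            · exact ⟨hc, by norm_num⟩)
          (by simpa [A, B, RP.ofRoot, List.ofFn_succ, mul_assoc] using h)
      exact ⟨congrFun h1 0, congrFun h1 1, congrFun h1 2⟩ }, rfl, rfl, rfl, rfl, rfl⟩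

end Groth.Agent.Red23Lib.Pinned

end
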