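import Groth.Agent.Red23Lib.Pinned.Ax
import Groth.Agent.Red23Lib.Pinned.BraidAlg
import Groth.Agent.Red23Lib.Pinned.TypeA2

/-!
# Types `A₁ × A₁` and `A₂`: commutators, conjugations and powers of products of Weyl elements
-/

set_option autoImplicit false
set_option linter.style.haveILetI false

universe u

open CategoryTheory CategoryTheory.Limits AlgebraicGeometry MonoidalCategory CartesianMonoidalCategory
open Groth.Agent.GrpSchLib
open scoped MonObj

noncomputable section

namespace Groth.Agent.Red23Lib.Pinned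

variable {S : Scheme.{u}} {G : Over S} [GrpObj G] {D : Red.Pinning G}
variable (hd : Duals D) (hax : CellAx D.toSplitRed D.base) {a b : D.idx} (ha : a ∈ D.base.support)
  (hb : b ∈ D.base.support) (hne : a ≠ b)

include hd ha in
theorem W_tau_self (X : Over S) :
    W D.toSplitRed a X * tau D.toSplitRed a X = tau D.toSplitRed a X * W D.toSplitRed a X :=
  W_tau_even hd ha a (by rw [RootPairing.pairing_same]; exact even_two) X

include hd hax ha hb hne

theorem A1_fixed (hba : D.P.pairing b a = 0) (hab : D.P.pairing a b = 0) (X : Over S) (x : Γ(X.left, ⊤)) :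
    W D.toSplitRed a X * up D.toSplitRed b x * (W D.toSplitRed a X)⁻¹ = up D.toSplitRed b x := by
  classical
  let A := RP.ofRoot D a
  let B := RP.ofRoot D b
  have hroots : ∀ (k : D.idx) (i j : ℤ), Comb D a b k (i, j) → (i, j) ∈ setA1A1 ∨ (-i, -j) ∈ setA1A1 :=
    fun k i j h => roots_A1A1 (Groth.Agent.RootData.Simple.of_base D.base) (isIndiv_of_base D.base) ha hb hne
      ((nn_eq_pairing b a).trans hba) ((nn_eq_pairing a b).trans hab) h
  obtain ⟨C, hC⟩ := RP.exists_rel hax ha hb hne A B (comb_fst D a b) (comb_snd D a b) (by norm_num) (by norm_num)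
    ![] ![] ![] (fun i => i.elim0) (fun i => i.elim0) (fun i => i.elim0)
    (fun k i j hi hj h => by
      have := hroots k _ _ h
      simp [setA1A1] at this
      omega)
  have hfix : D.P.reflectionPerm a b = b :=
    ((comb_snd D a b).refl_fst (by rw [hba]; rfl)).idx_eq (comb_snd D a b)
  exact B.conj_fixed hd hax ha (mem_posRoots_of_mem D.base hb) hne.symm hfix
      (fun X x y => (show B.fn X y * up D.toSplitRed a x = _ by simpa [A, RP.ofRoot] using hC X x y : _).symm) X x

theorem A1_comm (hba : D.P.pairing b a = 0) (hab : D.P.pairing a b = 0) (X : Over S) :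
    W D.toSplitRed a X * W D.toSplitRed b X = W D.toSplitRed b X * W D.toSplitRed a X := by
  have hfix : D.P.reflectionPerm a b = b :=
    ((comb_snd D a b).refl_fst (by rw [hba]; rfl)).idx_eq (comb_snd D a b)
  have key : ∀ (X : Over S) (x : Γ(X.left, ⊤)),
      W D.toSplitRed a X * up D.toSplitRed b x * (W D.toSplitRed a X)⁻¹ = up D.toSplitRed b x :=
    A1_fixed hd hax ha hb hne hba hab
  have h := conj_W hd hax hb hb (fun X => W D.toSplitRed a X) (fun f => comp_W _ _ f)
    (fun t => sT D.toSplitRed a t) (fun t => by rw [W_conj_T hd ha, sT_sT])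
    (fun t => by rw [sT_ch_root, hfix]) (fun t => ⟨_, W_conj_T hd ha t⟩) key X
  exact mul_inv_eq_iff_eq_mul.1 h

theorem A1_pow (hba : D.P.pairing b a = 0) (hab : D.P.pairing a b = 0) (X : Over S) :
    (W D.toSplitRed a X * W D.toSplitRed b X) ^ 2 = tau D.toSplitRed a X * tau D.toSplitRed b X ∧
      (W D.toSplitRed b X * W D.toSplitRed a X) ^ 2 = tau D.toSplitRed a X * tau D.toSplitRed b X :=
  pow_two_of_commute (W_sq hd ha X) (W_sq hd hb X) (A1_comm hd hax ha hb hne hba hab X)

variable (hba : D.P.pairing b a = -1) (hab : D.P.pairing a b = -1)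

include hba hab

theorem A2_rel (X : Over S) (x y : Γ(X.left, ⊤)) :
    up D.toSplitRed b y * up D.toSplitRed a x = up D.toSplitRed a x * up D.toSplitRed b y *
      (W D.toSplitRed b X * up D.toSplitRed a (x * y) * (W D.toSplitRed b X)⁻¹) := by
  obtain ⟨Φ, hΦa, hΦb, hΦc, -, -⟩ := A2_data hd hax ha hb hne hba hab X
  have h := Φ.commutator x y
  rw [hΦa, hΦb, hΦc] at h
  exact h

theorem A2_tables (X : Over S) (x : Γ(X.left, ⊤)) :
    W D.toSplitRed a X * up D.toSplitRed b x * (W D.toSplitRed a X)⁻¹ =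
        W D.toSplitRed b X * up D.toSplitRed a (-x) * (W D.toSplitRed b X)⁻¹ ∧
      W D.toSplitRed a X * (W D.toSplitRed b X * up D.toSplitRed a x * (W D.toSplitRed b X)⁻¹) *
          (W D.toSplitRed a X)⁻¹ = up D.toSplitRed b x ∧
      W D.toSplitRed b X * (W D.toSplitRed b X * up D.toSplitRed a x * (W D.toSplitRed b X)⁻¹) *
          (W D.toSplitRed b X)⁻¹ = up D.toSplitRed a (-x) := by
  obtain ⟨Φ, hΦa, hΦb, hΦc, hΦna, hΦnb⟩ := A2_data hd hax ha hb hne hba hab X
  have h1 := Φ.conj_a_b x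
  have h2 := Φ.conj_a_c x
  have h3 := Φ.conj_b_c x
  rw [Φ.signs.1, neg_one_mul, hΦa, hΦb, hΦc, hΦna] at h1
  rw [Φ.signs.2, _root_.one_mul, hΦa, hΦb, hΦc, hΦna] at h2
  rw [hΦa, hΦb, hΦc, hΦnb] at h3
  exact ⟨h1, h2, h3⟩

theorem A2_braid (X : Over S) :
    W D.toSplitRed a X * W D.toSplitRed b X * W D.toSplitRed a X =
      W D.toSplitRed b X * W D.toSplitRed a X * W D.toSplitRed b X := by
  have hc : Comb D a b (D.P.reflectionPerm b a) (1, 1) := (comb_fst D a b).refl_snd (by rw [hab]; rfl)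
  have hac : D.P.reflectionPerm a (D.P.reflectionPerm b a) = b :=
    (hc.refl_fst (by rw [hba]; rfl)).idx_eq (comb_snd D a b)
  have hg : ∀ {X : Over S} (t : X ⟶ D.T),
      W D.toSplitRed a X * W D.toSplitRed b X * (sT D.toSplitRed b (sT D.toSplitRed a t) ≫ D.i) *
        (W D.toSplitRed a X * W D.toSplitRed b X)⁻¹ = t ≫ D.i := by
    intro X t
    have e : W D.toSplitRed b X * (sT D.toSplitRed b (sT D.toSplitRed a t) ≫ D.i) * (W D.toSplitRed b X)⁻¹ =
        sT D.toSplitRed a t ≫ D.i := by rw [W_conj_T hd hb, sT_sT]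
    calc _ = W D.toSplitRed a X *
          (W D.toSplitRed b X * (sT D.toSplitRed b (sT D.toSplitRed a t) ≫ D.i) * (W D.toSplitRed b X)⁻¹) *
          (W D.toSplitRed a X)⁻¹ := by group
      _ = t ≫ D.i := by rw [e, W_conj_T hd ha, sT_sT]
  have h := conj_W hd hax ha hb (fun X => W D.toSplitRed a X * W D.toSplitRed b X)
    (fun f => by simp only [MonObj.comp_mul, comp_W])
    (fun t => sT D.toSplitRed b (sT D.toSplitRed a t)) hg
    (fun t => by rw [sT_ch_root, sT_ch_root, hac])
    (fun {X} t => ⟨sT D.toSplitRed a (sT D.toSplitRed b t), by rw [← W_conj_T hd ha, ← W_conj_T hd hb]; group⟩)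
    (fun X x => by
      rw [← (A2_tables hd hax ha hb hne hba hab X x).2.1]
      group) X
  have h' := mul_inv_eq_iff_eq_mul.1 h
  simpa only [mul_assoc] using h'

theorem A2_pow (X : Over S) :
    (W D.toSplitRed a X * W D.toSplitRed b X) ^ 3 = 1 ∧ (W D.toSplitRed b X * W D.toSplitRed a X) ^ 3 = 1 :=
  pow_three_of_braid (W_sq hd ha X) (W_sq hd hb X) (tau_mul_self _ a X) (tau_mul_self _ b X) (W_tau_self hd hb X)
    (W_tau_odd hd ha b (by rw [hab]; decide) X)
    (W_tau_odd hd hb a (by rw [hba]; decide) X)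
    (W_tau_self hd ha X) (A2_braid hd hax ha hb hne hba hab X)

end Groth.Agent.Red23Lib.Pinned

end
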