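import Groth.Agent.Red23Lib.Pinned.TypeA2
import Groth.Agent.Red23Lib.Pinned.AlgB2

/-!
# A pair of simple roots of type `B₂` in a pinning
-/

set_option autoImplicit false
set_option linter.style.haveILetI false

universe u

open CategoryTheory CategoryTheory.Limits AlgebraicGeometry MonoidalCategory CartesianMonoidalCategory
open Groth.Agent.GrpSchLib
open scoped MonObj

noncomputable section

namespace Groth.Agent.Red23Lib.Pinned

variable {S : Scheme.{u}} {G : Over S} [GrpObj G] {D : Red.Pinning G}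
variable (hd : Duals D) (hax : CellAx D.toSplitRed D.base) {a b : D.idx} (ha : a ∈ D.base.support)
  (hb : b ∈ D.base.support) (hne : a ≠ b)

/-- The root homomorphism of `2a + b` in type `B₂`. -/
def rpD : RP D :=
  (RP.ofRoot D b).conj hd hax ha (mem_posRoots_of_mem D.base hb) hne.symm

include hd hax ha hb hne

theorem RP.commute_of_rel (α β : RP D) {pα pβ : ℤ × ℤ} (hα : Comb D a b α.k pα) (hβ : Comb D a b β.k pβ)
    (hp : 0 ≤ pα.1 ∧ 0 ≤ pα.2 ∧ 0 ≤ pβ.1 ∧ 0 ≤ pβ.2) (hdet : pα.1 * pβ.2 - pα.2 * pβ.1 ≠ 0)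
    (hall : ∀ (k : D.idx) (i j : ℕ), 0 < i → 0 < j →
      ¬ Comb D a b k (i * pα.1 + j * pβ.1, i * pα.2 + j * pβ.2))
    (X : Over S) (x y : Γ(X.left, ⊤)) : Commute (α.fn X x) (β.fn X y) := by
  obtain ⟨C, hC⟩ := RP.exists_rel hax ha hb hne α β hα hβ hp hdet ![] ![] ![] (fun i => i.elim0) (fun i => i.elim0)
    (fun i => i.elim0) (fun k i j hi hj h => absurd h (hall k i j hi hj))
  have h := hC X x y
  rw [List.ofFn_zero, List.prod_nil, _root_.mul_one] at h
  exact h.symm

theorem B2_data (hba : D.P.pairing b a = -2) (hab : D.P.pairing a b = -1) (X : Over S) :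
    ∃ Φ : B2Rel Γ(X.left, ⊤) (X ⟶ G), Φ.a = up D.toSplitRed a ∧ Φ.b = up D.toSplitRed b ∧
      Φ.c = (rpC hd hax ha hb hne).fn X ∧ Φ.d = (rpD hd hax ha hb hne).fn X ∧
      Φ.na = up D.toSplitRed (neg D.toSplitRed a) ∧ Φ.nb = up D.toSplitRed (neg D.toSplitRed b) := by
  classical
  set c := rpC hd hax ha hb hne with hcdef
  set d := rpD hd hax ha hb hne with hddef
  let A := RP.ofRoot D a
  let B := RP.ofRoot D b
  have hA : Comb D a b A.k (1, 0) := comb_fst D a b
  have hB : Comb D a b B.k (0, 1) := comb_snd D a b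
  have hc : Comb D a b c.k (1, 1) := (comb_fst D a b).refl_snd (by rw [hab]; rfl)
  have hd' : Comb D a b d.k (2, 1) := (comb_snd D a b).refl_fst (by rw [hba]; rfl)
  have hroots : ∀ (k : D.idx) (i j : ℤ), Comb D a b k (i, j) → (i, j) ∈ setB2 ∨ (-i, -j) ∈ setB2 := fun k i j h =>
    roots_B2 (Groth.Agent.RootData.Simple.of_base D.base) (isIndiv_of_base D.base) ha hb hne
      ((nn_eq_pairing b a).trans hba) ((nn_eq_pairing a b).trans hab) h
  have none_of : ∀ {k : D.idx} {i j : ℤ}, Comb D a b k (i, j) → 0 ≤ i → 0 ≤ j →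
      (i = 1 ∧ j = 0) ∨ (i = 0 ∧ j = 1) ∨ (i = 1 ∧ j = 1) ∨ (i = 2 ∧ j = 1) := fun {k i j} h hi hj => by
    have := hroots k i j h
    simp [setB2] at this
    omega
  obtain ⟨C, hC⟩ := RP.exists_rel hax ha hb hne A B hA hB (by norm_num) (by norm_num)
    ![c, d] ![(1, 1), (2, 1)] ![(1, 1), (2, 1)] (by decide)
    (Fin.forall_fin_two.2 ⟨hc, hd'⟩) (Fin.forall_fin_two.2 ⟨by norm_num, by norm_num⟩)
    (fun k i j hi hj h => by
      have := none_of h (by norm_num) (by norm_num)
      rcases (by omega : (i = 1 ∧ j = 1) ∨ (i = 2 ∧ j = 1)) with ⟨rfl, rfl⟩ | ⟨rfl, rfl⟩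
      · exact ⟨0, rfl⟩
      · exact ⟨1, rfl⟩)
  obtain ⟨E, hE⟩ := RP.exists_rel hax ha hb hne A c hA hc (by norm_num) (by norm_num)
    ![d] ![(2, 1)] ![(1, 1)] (Function.injective_of_subsingleton _)
    (Fin.forall_fin_one.2 hd') (Fin.forall_fin_one.2 (by norm_num))
    (fun k i j hi hj h => by
      have := none_of h (by positivity) (by positivity)
      rcases (by omega : (i = 1 ∧ j = 1)) with ⟨rfl, rfl⟩
      exact ⟨0, rfl⟩)
  have cbc := RP.commute_of_rel hd hax ha hb hne B c hB hc (by norm_num) (by norm_num)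
    (fun k i j hi hj h => by have := none_of h (by positivity) (by positivity); omega)
  have cbd := RP.commute_of_rel hd hax ha hb hne B d hB hd' (by norm_num) (by norm_num)
    (fun k i j hi hj h => by have := none_of h (by positivity) (by positivity); omega)
  have cad := RP.commute_of_rel hd hax ha hb hne A d hA hd' (by norm_num) (by norm_num)
    (fun k i j hi hj h => by have := none_of h (by positivity) (by positivity); omega)
  have ccd := RP.commute_of_rel hd hax ha hb hne c d hc hd' (by norm_num) (by norm_num)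
    (fun k i j hi hj h => by have := none_of h (by positivity) (by positivity); omega)
  have hcpos := hc.mem_pos ha hb (by norm_num) (by norm_num)
  have hdpos := hd'.mem_pos ha hb (by norm_num) (by norm_num)
  obtain ⟨ε, hε⟩ := exists_conj_unit hd hax ha hcpos (hc.ne_fst ha hb hne (by simp))
  rw [(hc.refl_fst (q := (1, 1)) (by rw [hba]; rfl)).idx_eq hc] at hε
  have hca : ∀ x, W D.toSplitRed a X * c.fn X x * (W D.toSplitRed a X)⁻¹ =
      c.fn X (cst (ε : Γ((𝟙_ (Over S)).left, ⊤)) X * x) := by
    intro x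
    rw [c.eq, hε, c.eq]
    congr 1
    ring
  have hbd : ∀ x, W D.toSplitRed b X * d.fn X x * (W D.toSplitRed b X)⁻¹ = d.fn X x := fun x =>
    d.conj_fixed hd hax hb hdpos (hd'.ne_snd ha hb hne (by simp))
      ((hd'.refl_snd (q := (2, 1)) (by rw [hab]; rfl)).idx_eq hd') cbd X x
  refine ⟨{
    a := up D.toSplitRed a
    b := up D.toSplitRed b
    c := c.fn X
    d := d.fn X
    na := up D.toSplitRed (neg D.toSplitRed a)
    nb := up D.toSplitRed (neg D.toSplitRed b)
    ha := isParam_up D.toSplitRed a X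
    hb := isParam_up D.toSplitRed b X
    hc := c.isParam X
    hd := d.isParam X
    hna := isParam_up D.toSplitRed _ X
    hnb := isParam_up D.toSplitRed _ X
    A := C X 0
    B := C X 1
    E := E X 0
    ν := cst (ε : Γ((𝟙_ (Over S)).left, ⊤)) X
    rel_ba := fun x y => by simpa [A, B, RP.ofRoot, List.ofFn_succ, mul_assoc] using hC X x y
    rel_ca := fun x y => by simpa [A, RP.ofRoot] using hE X x y
    comm_bc := fun x y => cbc X x y
    comm_bd := fun x y => cbd X x y
    comm_ad := fun x y => cad X x y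
    comm_cd := fun x y => ccd X x y
    conj_a_self := fun x => W_conj_self hd hax ha x
    conj_b_self := fun x => W_conj_self hd hax hb x
    def_c := fun x => rfl
    def_d := fun x => rfl
    conj_b_c := fun x => by
      rw [hcdef]
      refine ((RP.ofRoot D a).conj_twice hd hb hab X x).trans ?_
      simp [RP.ofRoot]
    conj_b_d := fun x => hbd x
    conj_a_c := fun x => hca x
    conj_a_d := fun x => by
      rw [hddef]
      refine ((RP.ofRoot D b).conj_twice hd ha hba X x).trans ?_
      simp [RP.ofRoot]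
    inj := fun x y z t x' y' z' t' h => by
      have h1 : ![x, y, z, t] = ![x', y', z', t'] :=
        RP.prod_inj hax ha hb hne ![A, B, c, d] ![(1, 0), (0, 1), (1, 1), (2, 1)] (by decide)
          (fun i => by
            fin_cases i
            · exact ⟨hA, by norm_num⟩
            · exact ⟨hB, by norm_num⟩
            · exact ⟨hc, by norm_num⟩
            · exact ⟨hd', by norm_num⟩)
          (by simpa [A, B, RP.ofRoot, List.ofFn_succ, mul_assoc] using h)
      exact ⟨congrFun h1 0, congrFun h1 1, congrFun h1 2, congrFun h1 3⟩ }, rfl, rfl, rfl, rfl, rfl, rfl⟩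

end Groth.Agent.Red23Lib.Pinned

end
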