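import Groth.Agent.Red23Lib.Pinned.ResA
import Groth.Agent.Red23Lib.Pinned.TypeB2

/-!
# Type `B₂`: commutators, conjugations and powers of products of Weyl elements
-/

set_option autoImplicit false
set_option linter.style.haveILetI false

universe u

open CategoryTheory CategoryTheory.Limits AlgebraicGeometry MonoidalCategory CartesianMonoidalCategory
open Groth.Agent.GrpSchLib
open scoped MonObj

noncomputable section

namespace Groth.Agent.Red23Lib.Pinned

variable {S : Scheme.{u}} {G : Over S} [GrpObj G] {D : Red.Pinning G}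
variable (hd : Duals D) (hax : CellAx D.toSplitRed D.base) {a b : D.idx} (ha : a ∈ D.base.support)
  (hb : b ∈ D.base.support) (hne : a ≠ b)

variable (hba : D.P.pairing b a = -2) (hab : D.P.pairing a b = -1)

include hd hax ha hb hne hba hab

theorem B2_rel (X : Over S) (x y : Γ(X.left, ⊤)) :
    up D.toSplitRed b y * up D.toSplitRed a x = up D.toSplitRed a x * up D.toSplitRed b y *
        (W D.toSplitRed b X * up D.toSplitRed a (x * y) * (W D.toSplitRed b X)⁻¹) *
        (W D.toSplitRed a X * up D.toSplitRed b (x ^ 2 * y) * (W D.toSplitRed a X)⁻¹) ∧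
      (W D.toSplitRed b X * up D.toSplitRed a y * (W D.toSplitRed b X)⁻¹) * up D.toSplitRed a x =
        up D.toSplitRed a x * (W D.toSplitRed b X * up D.toSplitRed a y * (W D.toSplitRed b X)⁻¹) *
          (W D.toSplitRed a X * up D.toSplitRed b (2 * (x * y)) * (W D.toSplitRed a X)⁻¹) := by
  obtain ⟨Φ, hΦa, hΦb, hΦc, hΦd, -, -⟩ := B2_data hd hax ha hb hne hba hab X
  have h1 := Φ.commutator_ba x y
  have h2 := Φ.commutator_ca x y
  rw [hΦa, hΦb, hΦc, hΦd] at h1
  rw [hΦa, hΦc, hΦd] at h2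
  exact ⟨h1, h2⟩

theorem B2_tables (X : Over S) (x : Γ(X.left, ⊤)) :
    W D.toSplitRed a X * (W D.toSplitRed b X * up D.toSplitRed a x * (W D.toSplitRed b X)⁻¹) *
          (W D.toSplitRed a X)⁻¹ = W D.toSplitRed b X * up D.toSplitRed a (-x) * (W D.toSplitRed b X)⁻¹ ∧
      W D.toSplitRed a X * (W D.toSplitRed a X * up D.toSplitRed b x * (W D.toSplitRed a X)⁻¹) *
          (W D.toSplitRed a X)⁻¹ = up D.toSplitRed b x ∧
      W D.toSplitRed b X * (W D.toSplitRed b X * up D.toSplitRed a x * (W D.toSplitRed b X)⁻¹) *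
          (W D.toSplitRed b X)⁻¹ = up D.toSplitRed a (-x) ∧
      W D.toSplitRed b X * (W D.toSplitRed a X * up D.toSplitRed b x * (W D.toSplitRed a X)⁻¹) *
          (W D.toSplitRed b X)⁻¹ = W D.toSplitRed a X * up D.toSplitRed b x * (W D.toSplitRed a X)⁻¹ := by
  obtain ⟨Φ, hΦa, hΦb, hΦc, hΦd, hΦna, hΦnb⟩ := B2_data hd hax ha hb hne hba hab X
  have h1 := Φ.conj_a_c x
  have h2 := Φ.conj_a_d x
  have h3 := Φ.conj_b_c x
  have h4 := Φ.conj_b_d x
  rw [Φ.constants.2.2.2, neg_one_mul, hΦa, hΦc, hΦna] at h1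
  rw [hΦa, hΦb, hΦd, hΦna] at h2
  rw [hΦa, hΦb, hΦc, hΦnb] at h3
  rw [hΦb, hΦd, hΦnb] at h4
  exact ⟨h1, h2, h3, h4⟩

theorem B2_braid (X : Over S) :
    W D.toSplitRed a X * W D.toSplitRed b X * W D.toSplitRed a X * W D.toSplitRed b X =
      W D.toSplitRed b X * W D.toSplitRed a X * W D.toSplitRed b X * W D.toSplitRed a X := by
  have hd' : Comb D a b (D.P.reflectionPerm a b) (2, 1) := (comb_snd D a b).refl_fst (by rw [hba]; rfl)
  have hbd : Comb D a b (D.P.reflectionPerm b (D.P.reflectionPerm a b)) (2, 1) := hd'.refl_snd (by rw [hab]; rfl)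
  have hfin : D.P.reflectionPerm a (D.P.reflectionPerm b (D.P.reflectionPerm a b)) = b :=
    (hbd.refl_fst (by rw [hba]; rfl)).idx_eq (comb_snd D a b)
  have h := conj_W hd hax hb hb (fun X => W D.toSplitRed a X * W D.toSplitRed b X * W D.toSplitRed a X)
    (fun f => by simp only [MonObj.comp_mul, comp_W])
    (fun t => sT D.toSplitRed a (sT D.toSplitRed b (sT D.toSplitRed a t)))
    (fun {X} t => by
      have e : ∀ {c : D.idx}, c ∈ D.base.support → ∀ s : X ⟶ D.T,
          W D.toSplitRed c X * (sT D.toSplitRed c s ≫ D.i) * (W D.toSplitRed c X)⁻¹ = s ≫ D.i :=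
        fun hc s => by rw [W_conj_T hd hc, sT_sT]
      calc _ = W D.toSplitRed a X * (W D.toSplitRed b X * (W D.toSplitRed a X *
            (sT D.toSplitRed a (sT D.toSplitRed b (sT D.toSplitRed a t)) ≫ D.i) * (W D.toSplitRed a X)⁻¹) *
            (W D.toSplitRed b X)⁻¹) * (W D.toSplitRed a X)⁻¹ := by group
        _ = t ≫ D.i := by rw [e ha, e hb, e ha])
    (fun t => by rw [sT_ch_root, sT_ch_root, sT_ch_root, hfin])
    (fun {X} t => ⟨sT D.toSplitRed a (sT D.toSplitRed b (sT D.toSplitRed a t)), by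
      rw [← W_conj_T hd ha, ← W_conj_T hd hb, ← W_conj_T hd ha]; group⟩)
    (fun X x => by
      obtain ⟨-, h2, -, h4⟩ := B2_tables hd hax ha hb hne hba hab X x
      conv_rhs => rw [← h2, ← h4]
      group) X
  have h' := mul_inv_eq_iff_eq_mul.1 h
  simpa only [mul_assoc] using h'

theorem B2_pow (X : Over S) :
    (W D.toSplitRed a X * W D.toSplitRed b X) ^ 4 = tau D.toSplitRed a X ∧
      (W D.toSplitRed b X * W D.toSplitRed a X) ^ 4 = tau D.toSplitRed a X :=
  pow_four_of_braid (W_sq hd ha X) (W_sq hd hb X) (tau_mul_self _ a X) (tau_mul_self _ b X) (W_tau_self hd hb X)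
    (W_tau_odd hd ha b (by rw [hab]; decide) X) (B2_braid hd hax ha hb hne hba hab X)

end Groth.Agent.Red23Lib.Pinned

end
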