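import Groth.Agent.Red23Lib.Pinned.TypeB2
import Groth.Agent.Red23Lib.Pinned.AlgG2

/-!
# A pair of simple roots of type `G₂` in a pinning
-/

set_option autoImplicit false
set_option linter.style.haveILetI false

universe u

open CategoryTheory CategoryTheory.Limits AlgebraicGeometry MonoidalCategory CartesianMonoidalCategory
open Groth.Agent.GrpSchLib
open scoped MonObj

noncomputable section

namespace Groth.Agent.Red23Lib.Pinned

variable {S : Scheme.{u}} {G : Over S} [GrpObj G] {D : Red.Pinning G}

/-- The parametrisation composed with the sign change. -/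
def RP.negate (c : RP D) : RP D where
  k := c.k
  fn X x := c.fn X (-x)
  unit := -c.unit
  eq X x := by
    rw [c.eq, Units.val_neg,
      show cst (-(c.unit : Γ((𝟙_ (Over S)).left, ⊤))) X = -cst (c.unit : Γ((𝟙_ (Over S)).left, ⊤)) X from
        map_neg (toUnit X).left.appTop.hom _, neg_mul, mul_neg]

variable (hd : Duals D) (hax : CellAx D.toSplitRed D.base) {a b : D.idx} (ha : a ∈ D.base.support)
  (hb : b ∈ D.base.support) (hne : a ≠ b)

theorem rpC_comb (hab : D.P.pairing a b = -1) : Comb D a b (rpC hd hax ha hb hne).k (1, 1) :=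
  (comb_fst D a b).refl_snd (by rw [hab]; rfl)

/-- The root homomorphism of `3a + b` in type `G₂`. -/
def rpE : RP D :=
  (RP.ofRoot D b).negate.conj hd hax ha (mem_posRoots_of_mem D.base hb) hne.symm

variable (hba : D.P.pairing b a = -3) (hab : D.P.pairing a b = -1)

include hba in
theorem rpE_comb : Comb D a b (rpE hd hax ha hb hne).k (3, 1) :=
  (comb_snd D a b).refl_fst (by rw [hba]; rfl)

/-- The root homomorphism of `2a + b` in type `G₂`. -/
def rpG21 : RP D :=
  (rpC hd hax ha hb hne).conj hd hax ha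
    ((rpC_comb hd hax ha hb hne hab).mem_pos ha hb (by norm_num) (by norm_num))
    ((rpC_comb hd hax ha hb hne hab).ne_fst ha hb hne (by simp))

/-- The root homomorphism of `3a + 2b` in type `G₂`. -/
def rpG32 : RP D :=
  (rpE hd hax ha hb hne).conj hd hax hb
    ((rpE_comb hd hax ha hb hne hba).mem_pos ha hb (by norm_num) (by norm_num))
    ((rpE_comb hd hax ha hb hne hba).ne_snd ha hb hne (by simp))

include hd hax ha hb hne hba hab

set_option maxHeartbeats 1000000 in
theorem G2_data (X : Over S) :
    ∃ Φ : G2Rel Γ(X.left, ⊤) (X ⟶ G), Φ.a = up D.toSplitRed a ∧ Φ.b = up D.toSplitRed b ∧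
      Φ.c = (rpC hd hax ha hb hne).fn X ∧ Φ.d = (rpG21 hd hax ha hb hne hab).fn X ∧
      Φ.e = (rpE hd hax ha hb hne).fn X ∧ Φ.f = (rpG32 hd hax ha hb hne hba).fn X ∧
      Φ.na = up D.toSplitRed (neg D.toSplitRed a) ∧ Φ.nb = up D.toSplitRed (neg D.toSplitRed b) := by
  classical
  have hc : Comb D a b (rpC hd hax ha hb hne).k (1, 1) := rpC_comb hd hax ha hb hne hab
  have he : Comb D a b (rpE hd hax ha hb hne).k (3, 1) := rpE_comb hd hax ha hb hne hba
  have hd' : Comb D a b (rpG21 hd hax ha hb hne hab).k (2, 1) := hc.refl_fst (by rw [hba]; rfl)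
  have hf : Comb D a b (rpG32 hd hax ha hb hne hba).k (3, 2) := he.refl_snd (by rw [hab]; rfl)
  have dca : ∀ (X : Over S) (x : Γ(X.left, ⊤)),
      W D.toSplitRed a X * (rpC hd hax ha hb hne).fn X x * (W D.toSplitRed a X)⁻¹ =
        (rpG21 hd hax ha hb hne hab).fn X x := fun X x => rfl
  have def' : ∀ (X : Over S) (x : Γ(X.left, ⊤)),
      W D.toSplitRed b X * (rpE hd hax ha hb hne).fn X x * (W D.toSplitRed b X)⁻¹ =
        (rpG32 hd hax ha hb hne hba).fn X x := fun X x => rfl
  have dea : ∀ (X : Over S) (x : Γ(X.left, ⊤)),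
      W D.toSplitRed a X * up D.toSplitRed b x * (W D.toSplitRed a X)⁻¹ =
        (rpE hd hax ha hb hne).fn X (-x) := fun X x => by
    show _ = W D.toSplitRed a X * up D.toSplitRed b (-(-x)) * _
    rw [neg_neg]
  have dcb : ∀ (X : Over S) (x : Γ(X.left, ⊤)),
      W D.toSplitRed b X * up D.toSplitRed a x * (W D.toSplitRed b X)⁻¹ = (rpC hd hax ha hb hne).fn X x :=
    fun X x => rfl
  have tad : ∀ (X : Over S) (x : Γ(X.left, ⊤)),
      W D.toSplitRed a X * (rpG21 hd hax ha hb hne hab).fn X x * (W D.toSplitRed a X)⁻¹ =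
        (rpC hd hax ha hb hne).fn X (-x) := by
    intro X x
    rw [← dca]
    refine ((rpC hd hax ha hb hne).conj_twice hd ha (n := -1)
      (by rw [hc.pairing, RootPairing.pairing_same, hba]; rfl) X x).trans ?_
    simp
  have tae : ∀ (X : Over S) (x : Γ(X.left, ⊤)),
      W D.toSplitRed a X * (rpE hd hax ha hb hne).fn X x * (W D.toSplitRed a X)⁻¹ = up D.toSplitRed b x := by
    intro X x
    refine ((RP.ofRoot D b).negate.conj_twice hd ha hba X x).trans ?_
    simp [RP.negate, RP.ofRoot, show ((-1 : (Γ(X.left, ⊤))ˣ)) ^ (-3 : ℤ) = -1 from Odd.neg_one_zpow (by decide)]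
  have tbc : ∀ (X : Over S) (x : Γ(X.left, ⊤)),
      W D.toSplitRed b X * (rpC hd hax ha hb hne).fn X x * (W D.toSplitRed b X)⁻¹ = up D.toSplitRed a (-x) := by
    intro X x
    refine ((RP.ofRoot D a).conj_twice hd hb hab X x).trans ?_
    simp [RP.ofRoot]
  have tbf : ∀ (X : Over S) (x : Γ(X.left, ⊤)),
      W D.toSplitRed b X * (rpG32 hd hax ha hb hne hba).fn X x * (W D.toSplitRed b X)⁻¹ =
        (rpE hd hax ha hb hne).fn X (-x) := by
    intro X x
    rw [← def']
    refine ((rpE hd hax ha hb hne).conj_twice hd hb (n := -1)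
      (by rw [he.pairing, RootPairing.pairing_same, hab]; rfl) X x).trans ?_
    simp
  generalize rpC hd hax ha hb hne = c at *
  generalize rpE hd hax ha hb hne = e at *
  generalize rpG21 hd hax ha hb hne hab = d at *
  generalize rpG32 hd hax ha hb hne hba = f at *
  let A := RP.ofRoot D a
  let B := RP.ofRoot D b
  have hA : Comb D a b A.k (1, 0) := comb_fst D a b
  have hB : Comb D a b B.k (0, 1) := comb_snd D a b
  have hroots : ∀ (k : D.idx) (i j : ℤ), Comb D a b k (i, j) → (i, j) ∈ setG2 ∨ (-i, -j) ∈ setG2 := fun k i j h =>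
    roots_G2 (Groth.Agent.RootData.Simple.of_base D.base) (isIndiv_of_base D.base) ha hb hne
      ((nn_eq_pairing b a).trans hba) ((nn_eq_pairing a b).trans hab) h
  have none_of : ∀ {k : D.idx} {i j : ℤ}, Comb D a b k (i, j) → 0 ≤ i → 0 ≤ j →
      (i = 1 ∧ j = 0) ∨ (i = 0 ∧ j = 1) ∨ (i = 1 ∧ j = 1) ∨ (i = 2 ∧ j = 1) ∨ (i = 3 ∧ j = 1) ∨ (i = 3 ∧ j = 2) :=
    fun {k i j} h hi hj => by
      have := hroots k i j h
      simp [setG2] at this
      omega
  obtain ⟨C, hC⟩ := RP.exists_rel hax ha hb hne A B hA hB (by norm_num) (by norm_num)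
    ![c, d, e, f] ![(1, 1), (2, 1), (3, 1), (3, 2)] ![(1, 1), (2, 1), (3, 1), (3, 2)] (by decide)
    (fun i => by fin_cases i <;> assumption) (fun i => by fin_cases i <;> norm_num)
    (fun k i j hi hj h => by
      have := none_of h (by norm_num) (by norm_num)
      rcases (by omega : (i = 1 ∧ j = 1) ∨ (i = 2 ∧ j = 1) ∨ (i = 3 ∧ j = 1) ∨ (i = 3 ∧ j = 2)) with
        ⟨rfl, rfl⟩ | ⟨rfl, rfl⟩ | ⟨rfl, rfl⟩ | ⟨rfl, rfl⟩
      · exact ⟨0, rfl⟩
      · exact ⟨1, rfl⟩
      · exact ⟨2, rfl⟩
      · exact ⟨3, rfl⟩)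
  obtain ⟨E, hE⟩ := RP.exists_rel hax ha hb hne A c hA hc (by norm_num) (by norm_num)
    ![d, e, f] ![(2, 1), (3, 1), (3, 2)] ![(1, 1), (2, 1), (1, 2)] (by decide)
    (fun i => by fin_cases i <;> assumption) (fun i => by fin_cases i <;> norm_num)
    (fun k i j hi hj h => by
      have := none_of h (by positivity) (by positivity)
      rcases (by omega : (i = 1 ∧ j = 1) ∨ (i = 2 ∧ j = 1) ∨ (i = 1 ∧ j = 2)) with
        ⟨rfl, rfl⟩ | ⟨rfl, rfl⟩ | ⟨rfl, rfl⟩
      · exact ⟨0, rfl⟩
      · exact ⟨1, rfl⟩
      · exact ⟨2, rfl⟩)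
  obtain ⟨H, hH⟩ := RP.exists_rel hax ha hb hne A d hA hd' (by norm_num) (by norm_num)
    ![e] ![(3, 1)] ![(1, 1)] (Function.injective_of_subsingleton _)
    (Fin.forall_fin_one.2 he) (Fin.forall_fin_one.2 (by norm_num))
    (fun k i j hi hj h => by
      have := none_of h (by positivity) (by positivity)
      rcases (by omega : (i = 1 ∧ j = 1)) with ⟨rfl, rfl⟩
      exact ⟨0, rfl⟩)
  obtain ⟨K, hK⟩ := RP.exists_rel hax ha hb hne B e hB he (by norm_num) (by norm_num)
    ![f] ![(3, 2)] ![(1, 1)] (Function.injective_of_subsingleton _)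
    (Fin.forall_fin_one.2 hf) (Fin.forall_fin_one.2 (by norm_num))
    (fun k i j hi hj h => by
      have := none_of h (by positivity) (by positivity)
      rcases (by omega : (i = 1 ∧ j = 1)) with ⟨rfl, rfl⟩
      exact ⟨0, rfl⟩)
  obtain ⟨L, hL⟩ := RP.exists_rel hax ha hb hne c d hc hd' (by norm_num) (by norm_num)
    ![f] ![(3, 2)] ![(1, 1)] (Function.injective_of_subsingleton _)
    (Fin.forall_fin_one.2 hf) (Fin.forall_fin_one.2 (by norm_num))
    (fun k i j hi hj h => by
      have := none_of h (by positivity) (by positivity)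
      rcases (by omega : (i = 1 ∧ j = 1)) with ⟨rfl, rfl⟩
      exact ⟨0, rfl⟩)
  have cm := fun (α β : RP D) {pα pβ : ℤ × ℤ} (hα : Comb D a b α.k pα) (hβ : Comb D a b β.k pβ) hp hdet hall =>
    RP.commute_of_rel hd hax ha hb hne α β hα hβ hp hdet hall
  have cae := cm A e hA he (by norm_num) (by norm_num)
    (fun k i j hi hj h => by have := none_of h (by positivity) (by positivity); omega)
  have caf := cm A f hA hf (by norm_num) (by norm_num)
    (fun k i j hi hj h => by have := none_of h (by positivity) (by positivity); omega)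
  have cbc := cm B c hB hc (by norm_num) (by norm_num)
    (fun k i j hi hj h => by have := none_of h (by positivity) (by positivity); omega)
  have cbd := cm B d hB hd' (by norm_num) (by norm_num)
    (fun k i j hi hj h => by have := none_of h (by positivity) (by positivity); omega)
  have cbf := cm B f hB hf (by norm_num) (by norm_num)
    (fun k i j hi hj h => by have := none_of h (by positivity) (by positivity); omega)
  have cce := cm c e hc he (by norm_num) (by norm_num)
    (fun k i j hi hj h => by have := none_of h (by positivity) (by positivity); omega)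
  have ccf := cm c f hc hf (by norm_num) (by norm_num)
    (fun k i j hi hj h => by have := none_of h (by positivity) (by positivity); omega)
  have cde := cm d e hd' he (by norm_num) (by norm_num)
    (fun k i j hi hj h => by have := none_of h (by positivity) (by positivity); omega)
  have cdf := cm d f hd' hf (by norm_num) (by norm_num)
    (fun k i j hi hj h => by have := none_of h (by positivity) (by positivity); omega)
  have cef := cm e f he hf (by norm_num) (by norm_num)
    (fun k i j hi hj h => by have := none_of h (by positivity) (by positivity); omega)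
  have tbd : ∀ x, W D.toSplitRed b X * d.fn X x * (W D.toSplitRed b X)⁻¹ = d.fn X x := fun x =>
    d.conj_fixed hd hax hb (hd'.mem_pos ha hb (by norm_num) (by norm_num)) (hd'.ne_snd ha hb hne (by simp))
      ((hd'.refl_snd (q := (2, 1)) (by rw [hab]; rfl)).idx_eq hd') cbd X x
  have taf : ∀ x, W D.toSplitRed a X * f.fn X x * (W D.toSplitRed a X)⁻¹ = f.fn X x := fun x =>
    f.conj_fixed hd hax ha (hf.mem_pos ha hb (by norm_num) (by norm_num)) (hf.ne_fst ha hb hne (by simp))
      ((hf.refl_fst (q := (3, 2)) (by rw [hba]; rfl)).idx_eq hf) caf X x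
  refine ⟨{
    a := up D.toSplitRed a
    b := up D.toSplitRed b
    c := c.fn X
    d := d.fn X
    e := e.fn X
    f := f.fn X
    na := up D.toSplitRed (neg D.toSplitRed a)
    nb := up D.toSplitRed (neg D.toSplitRed b)
    ha := isParam_up D.toSplitRed a X
    hb := isParam_up D.toSplitRed b X
    hc := c.isParam X
    hd := d.isParam X
    he := e.isParam X
    hf := f.isParam X
    hna := isParam_up D.toSplitRed _ X
    hnb := isParam_up D.toSplitRed _ X
    A := C X 0
    B := C X 1
    C := C X 2
    D := C X 3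
    E := E X 0
    F := E X 1
    Gc := E X 2
    H := H X 0
    K := K X 0
    L := L X 0
    rel_ba := fun x y => by simpa [A, B, RP.ofRoot, List.ofFn_succ, mul_assoc] using hC X x y
    rel_ca := fun x y => by simpa [A, RP.ofRoot, List.ofFn_succ, mul_assoc] using hE X x y
    rel_da := fun x y => by simpa [A, RP.ofRoot] using hH X x y
    rel_eb := fun x y => by simpa [B, RP.ofRoot] using hK X x y
    rel_dc := fun x y => by simpa using hL X x y
    comm_ae := fun x y => cae X x y
    comm_af := fun x y => caf X x y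
    comm_bc := fun x y => cbc X x y
    comm_bd := fun x y => cbd X x y
    comm_bf := fun x y => cbf X x y
    comm_ce := fun x y => cce X x y
    comm_cf := fun x y => ccf X x y
    comm_de := fun x y => cde X x y
    comm_df := fun x y => cdf X x y
    comm_ef := fun x y => cef X x y
    conj_a_self := fun x => W_conj_self hd hax ha x
    conj_b_self := fun x => W_conj_self hd hax hb x
    def_c := fun x => dcb X x
    def_d := fun x => dca X x
    def_e := fun x => dea X x
    def_f := fun x => def' X x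
    conj_a_d := fun x => tad X x
    conj_a_e := fun x => tae X x
    conj_a_f := fun x => taf x
    conj_b_c := fun x => tbc X x
    conj_b_d := fun x => tbd x
    conj_b_f := fun x => tbf X x
    inj := fun x₁ x₂ x₃ x₄ x₅ x₆ y₁ y₂ y₃ y₄ y₅ y₆ h => by
      have h1 : ![x₁, x₂, x₃, x₄, x₅, x₆] = ![y₁, y₂, y₃, y₄, y₅, y₆] :=
        RP.prod_inj hax ha hb hne ![A, B, c, d, e, f] ![(1, 0), (0, 1), (1, 1), (2, 1), (3, 1), (3, 2)] (by decide)
          (fun i => by
            fin_cases i
            · exact ⟨hA, by norm_num⟩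
            · exact ⟨hB, by norm_num⟩
            · exact ⟨hc, by norm_num⟩
            · exact ⟨hd', by norm_num⟩
            · exact ⟨he, by norm_num⟩
            · exact ⟨hf, by norm_num⟩)
          (by simpa [A, B, RP.ofRoot, List.ofFn_succ, mul_assoc] using h)
      exact ⟨congrFun h1 0, congrFun h1 1, congrFun h1 2, congrFun h1 3, congrFun h1 4, congrFun h1 5⟩ },
    rfl, rfl, rfl, rfl, rfl, rfl, rfl, rfl⟩

end Groth.Agent.Red23Lib.Pinned

end
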