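import Groth.Agent.Red23Lib.Pinned.ResA
import Groth.Agent.Red23Lib.Pinned.TypeG2

/-!
# Type `G₂`: commutators, conjugations and powers of products of Weyl elements
-/

set_option autoImplicit false
set_option linter.style.haveILetI false

universe u

open CategoryTheory CategoryTheory.Limits AlgebraicGeometry MonoidalCategory CartesianMonoidalCategory
open Groth.Agent.GrpSchLib
open scoped MonObj

noncomputable section

namespace Groth.Agent.Red23Lib.Pinned

variable {S : Scheme.{u}} {G : Over S} [GrpObj G] (D : Red.Pinning G) (a b : D.idx)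

/-- `u_{a+b}` in type `G₂`. -/
def g11 (X : Over S) (x : Γ(X.left, ⊤)) : X ⟶ G :=
  W D.toSplitRed b X * up D.toSplitRed a x * (W D.toSplitRed b X)⁻¹

/-- `u_{2a+b}` in type `G₂`. -/
def g21 (X : Over S) (x : Γ(X.left, ⊤)) : X ⟶ G :=
  W D.toSplitRed a X * g11 D a b X x * (W D.toSplitRed a X)⁻¹

/-- `u_{3a+b}` in type `G₂`. -/
def g31 (X : Over S) (x : Γ(X.left, ⊤)) : X ⟶ G :=
  W D.toSplitRed a X * up D.toSplitRed b (-x) * (W D.toSplitRed a X)⁻¹

/-- `u_{3a+2b}` in type `G₂`. -/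
def g32 (X : Over S) (x : Γ(X.left, ⊤)) : X ⟶ G :=
  W D.toSplitRed b X * g31 D a b X x * (W D.toSplitRed b X)⁻¹

variable {D a b} (hd : Duals D) (hax : CellAx D.toSplitRed D.base) (ha : a ∈ D.base.support)
  (hb : b ∈ D.base.support) (hne : a ≠ b) (hba : D.P.pairing b a = -3) (hab : D.P.pairing a b = -1)

include hd hax ha hb hne hba hab

theorem G2_rel (X : Over S) (x y : Γ(X.left, ⊤)) :
    up D.toSplitRed b y * up D.toSplitRed a x =
        up D.toSplitRed a x * up D.toSplitRed b y * g11 D a b X (x * y) * g21 D a b X (x ^ 2 * y) *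
          g31 D a b X (x ^ 3 * y) * g32 D a b X (x ^ 3 * y ^ 2) ∧
      g11 D a b X y * up D.toSplitRed a x = up D.toSplitRed a x * g11 D a b X y * g21 D a b X (2 * (x * y)) *
          g31 D a b X (3 * (x ^ 2 * y)) * g32 D a b X (3 * (x * y ^ 2)) ∧
      g21 D a b X y * up D.toSplitRed a x = up D.toSplitRed a x * g21 D a b X y * g31 D a b X (3 * (x * y)) ∧
      g31 D a b X y * up D.toSplitRed b x = up D.toSplitRed b x * g31 D a b X y * g32 D a b X (-(x * y)) ∧
      g21 D a b X y * g11 D a b X x = g11 D a b X x * g21 D a b X y * g32 D a b X (3 * (x * y)) := by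
  obtain ⟨Φ, hΦa, hΦb, hΦc, hΦd, hΦe, hΦf, -, -⟩ := G2_data hd hax ha hb hne hba hab X
  obtain ⟨hA, hB, hC, hD, hE, hF, hG, hH, hK, hL⟩ := Φ.constants
  have h1 := Φ.rel_ba x y
  have h2 := Φ.rel_ca x y
  have h3 := Φ.rel_da x y
  have h4 := Φ.rel_eb x y
  have h5 := Φ.rel_dc x y
  rw [hA, hB, hC, hD, _root_.one_mul, _root_.one_mul, _root_.one_mul, _root_.one_mul, hΦa, hΦb, hΦc, hΦd, hΦe,
    hΦf] at h1
  rw [hE, hF, hG, hΦa, hΦc, hΦd, hΦe, hΦf] at h2
  rw [hH, hΦa, hΦd, hΦe] at h3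
  rw [hK, neg_one_mul, hΦb, hΦe, hΦf] at h4
  rw [hL, hΦc, hΦd, hΦf] at h5
  exact ⟨h1, h2, h3, h4, h5⟩

theorem G2_tables (X : Over S) (x : Γ(X.left, ⊤)) :
    W D.toSplitRed a X * g21 D a b X x * (W D.toSplitRed a X)⁻¹ = g11 D a b X (-x) ∧
      W D.toSplitRed a X * g31 D a b X x * (W D.toSplitRed a X)⁻¹ = up D.toSplitRed b x ∧
      W D.toSplitRed a X * g32 D a b X x * (W D.toSplitRed a X)⁻¹ = g32 D a b X x ∧
      W D.toSplitRed b X * g11 D a b X x * (W D.toSplitRed b X)⁻¹ = up D.toSplitRed a (-x) ∧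
      W D.toSplitRed b X * g21 D a b X x * (W D.toSplitRed b X)⁻¹ = g21 D a b X x ∧
      W D.toSplitRed b X * g32 D a b X x * (W D.toSplitRed b X)⁻¹ = g31 D a b X (-x) := by
  obtain ⟨Φ, hΦa, hΦb, hΦc, hΦd, hΦe, hΦf, hΦna, hΦnb⟩ := G2_data hd hax ha hb hne hba hab X
  have h1 := Φ.conj_a_d x
  have h2 := Φ.conj_a_e x
  have h3 := Φ.conj_a_f x
  have h4 := Φ.conj_b_c x
  have h5 := Φ.conj_b_d x
  have h6 := Φ.conj_b_f x
  rw [hΦa, hΦna, hΦc, hΦd] at h1
  rw [hΦa, hΦna, hΦb, hΦe] at h2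
  rw [hΦa, hΦna, hΦf] at h3
  rw [hΦb, hΦnb, hΦa, hΦc] at h4
  rw [hΦb, hΦnb, hΦd] at h5
  rw [hΦb, hΦnb, hΦe, hΦf] at h6
  exact ⟨h1, h2, h3, h4, h5, h6⟩

theorem G2_braid (X : Over S) :
    W D.toSplitRed a X * W D.toSplitRed b X * W D.toSplitRed a X * W D.toSplitRed b X * W D.toSplitRed a X *
        W D.toSplitRed b X =
      W D.toSplitRed b X * W D.toSplitRed a X * W D.toSplitRed b X * W D.toSplitRed a X * W D.toSplitRed b X *
        W D.toSplitRed a X := by
  have h1 : Comb D a b (D.P.reflectionPerm a b) (3, 1) := (comb_snd D a b).refl_fst (by rw [hba]; rfl)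
  have h2 := h1.refl_snd (q := (3, 2)) (by rw [hab]; rfl)
  have h3 := h2.refl_fst (q := (3, 2)) (by rw [hba]; rfl)
  have h4 := h3.refl_snd (q := (3, 1)) (by rw [hab]; rfl)
  have h5 := (h4.refl_fst (q := (0, 1)) (by rw [hba]; rfl)).idx_eq (comb_snd D a b)
  have e : ∀ {X : Over S} {c : D.idx}, c ∈ D.base.support → ∀ s : X ⟶ D.T,
      W D.toSplitRed c X * (sT D.toSplitRed c s ≫ D.i) * (W D.toSplitRed c X)⁻¹ = s ≫ D.i :=
    fun hc s => by rw [W_conj_T hd hc, sT_sT]
  have h := conj_W hd hax hb hb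
    (fun X => W D.toSplitRed a X * W D.toSplitRed b X * W D.toSplitRed a X * W D.toSplitRed b X * W D.toSplitRed a X)
    (fun f => by simp only [MonObj.comp_mul, comp_W])
    (fun t => sT D.toSplitRed a (sT D.toSplitRed b (sT D.toSplitRed a (sT D.toSplitRed b (sT D.toSplitRed a t)))))
    (fun {X} t => by
      calc _ = W D.toSplitRed a X * (W D.toSplitRed b X * (W D.toSplitRed a X * (W D.toSplitRed b X *
            (W D.toSplitRed a X *
              (sT D.toSplitRed a (sT D.toSplitRed b (sT D.toSplitRed a (sT D.toSplitRed b (sT D.toSplitRed a t)))) ≫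
                D.i) * (W D.toSplitRed a X)⁻¹) * (W D.toSplitRed b X)⁻¹) * (W D.toSplitRed a X)⁻¹) *
            (W D.toSplitRed b X)⁻¹) * (W D.toSplitRed a X)⁻¹ := by group
        _ = t ≫ D.i := by rw [e ha, e hb, e ha, e hb, e ha])
    (fun t => by rw [sT_ch_root, sT_ch_root, sT_ch_root, sT_ch_root, sT_ch_root, h5])
    (fun {X} t => ⟨sT D.toSplitRed a (sT D.toSplitRed b (sT D.toSplitRed a (sT D.toSplitRed b (sT D.toSplitRed a t)))),
      by rw [← W_conj_T hd ha, ← W_conj_T hd hb, ← W_conj_T hd ha, ← W_conj_T hd hb, ← W_conj_T hd ha]; group⟩)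
    (fun X x => by
      have e0 : W D.toSplitRed a X * up D.toSplitRed b x * (W D.toSplitRed a X)⁻¹ = g31 D a b X (-x) := by
        rw [g31, neg_neg]
      calc _ = W D.toSplitRed a X * (W D.toSplitRed b X * (W D.toSplitRed a X * (W D.toSplitRed b X *
            (W D.toSplitRed a X * up D.toSplitRed b x * (W D.toSplitRed a X)⁻¹) * (W D.toSplitRed b X)⁻¹) *
            (W D.toSplitRed a X)⁻¹) * (W D.toSplitRed b X)⁻¹) * (W D.toSplitRed a X)⁻¹ := by group
        _ = up D.toSplitRed b x := by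
          rw [e0, show W D.toSplitRed b X * g31 D a b X (-x) * (W D.toSplitRed b X)⁻¹ = g32 D a b X (-x) from rfl,
            (G2_tables hd hax ha hb hne hba hab X (-x)).2.2.1, (G2_tables hd hax ha hb hne hba hab X (-x)).2.2.2.2.2,
            neg_neg, (G2_tables hd hax ha hb hne hba hab X x).2.1]) X
  have h' := mul_inv_eq_iff_eq_mul.1 h
  simpa only [mul_assoc] using h'

theorem G2_pow (X : Over S) :
    (W D.toSplitRed a X * W D.toSplitRed b X) ^ 6 = 1 ∧ (W D.toSplitRed b X * W D.toSplitRed a X) ^ 6 = 1 :=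
  pow_six_of_braid (W_sq hd ha X) (W_sq hd hb X) (tau_mul_self _ a X) (tau_mul_self _ b X) (W_tau_self hd hb X)
    (W_tau_odd hd ha b (by rw [hab]; decide) X)
    (W_tau_odd hd hb a (by rw [hba]; decide) X)
    (W_tau_self hd ha X) (G2_braid hd hax ha hb hne hba hab X)

end Groth.Agent.Red23Lib.Pinned

end
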