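import Groth.Agent.Red23Lib.Pinned.Cell
import Groth.Agent.Red23Lib.Pinned.Additive
import Groth.Agent.GrpSchLib.RankOneBraid

/-!
# The rank-one systems of a pinning
-/

set_option autoImplicit false
set_option linter.style.haveILetI false

universe u

open CategoryTheory CategoryTheory.Limits AlgebraicGeometry MonoidalCategory CartesianMonoidalCategory
open Groth.Agent.GrpSchLib
open scoped MonObj

noncomputable section

namespace Groth.Agent.Red23Lib.Pinned

variable {S : Scheme.{u}} {G : Over S} [GrpObj G]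

/-- The coroot as a cocharacter. -/
def corHom (D : Red.SplitRed G) (a : D.idx) : D.M →+ ℤ := LinearMap.toAddMonoidHom (D.P.coroot a)

theorem corHom_root (D : Red.SplitRed G) (a k : D.idx) : corHom D a (D.P.root k) = D.P.pairing k a := by
  show (D.P.coroot a) (D.P.root k) = D.P.toLinearMap (D.P.root k) (D.P.coroot a)
  rw [D.pairing_eq]
  rfl

theorem reflection_eq (D : Red.SplitRed G) (a : D.idx) (m : D.M) :
    D.P.reflection a m = m - corHom D a m • D.P.root a := by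
  rw [RootPairing.reflection_apply]
  show m - D.P.toLinearMap m (D.P.coroot a) • _ = _
  rw [D.pairing_eq]
  rfl

/-- The opposite root. -/
abbrev neg (D : Red.SplitRed G) (a : D.idx) : D.idx := D.P.reflectionPerm a a

theorem root_neg' (D : Red.SplitRed G) (a : D.idx) : D.P.root (neg D a) = -D.P.root a := by simp

/-- The coroot as a morphism. -/
def cor (D : Red.SplitRed G) (a : D.idx) : Red.Gm S ⟶ D.T :=
  Red.DSmap S (corHom D a) ≫ D.split.inv.hom.hom

theorem ptOfUnit_cor (D : Red.SplitRed G) (a : D.idx) {X : Over S} (z : (Γ(X.left, ⊤))ˣ) :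
    GmPts.ptOfUnit z ≫ cor D a = cochar D (corHom D a) z := rfl

theorem isMonHom_cor (D : Red.SplitRed G) (a : D.idx) : IsMonHom (cor D a) := by
  haveI : IsMonHom (M := Red.DS S D.M) (N := D.T) D.split.inv.hom.hom := D.split.inv.hom.isMonHom_hom
  haveI : IsMonHom (Red.DSmap S (corHom D a)) := Groth.Agent.S5427.isMonHom_DSmap S _
  exact inferInstanceAs (IsMonHom (Red.DSmap S (corHom D a) ≫ D.split.inv.hom.hom))

theorem isMonHom_rootChar (D : Red.SplitRed G) (a : D.idx) :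
    IsMonHom (D.split.hom.hom.hom ≫ Red.chi S (D.P.root a)) := by
  haveI : IsMonHom (M := D.T) (N := Red.DS S D.M) D.split.hom.hom.hom := D.split.hom.hom.isMonHom_hom
  haveI : IsMonHom (Red.DSmap S (zmultiplesHom D.M (D.P.root a) : ℤ →+ D.M)) := Groth.Agent.S5427.isMonHom_DSmap S _
  exact inferInstanceAs (IsMonHom (D.split.hom.hom.hom ≫ Red.DSmap S (zmultiplesHom D.M (D.P.root a) : ℤ →+ D.M)))

theorem val_ch (D : Red.SplitRed G) {X : Over S} (t : X ⟶ D.T) (m : D.M) :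
    (ch D t m : Γ(X.left, ⊤)) = Red.gmFn (t ≫ D.split.hom.hom.hom ≫ Red.chi S m) := by
  rw [ch, val_dsCh, Category.assoc]

/-- The rank-one commutation rule for the simple roots. -/
def Duals (D : Red.Pinning G) : Prop :=
  ∀ a ∈ D.base.support, ∀ (X : Over S) (x y : X ⟶ Red.Ga S), IsUnit (1 + Red.gaFn x * Red.gaFn y) →
    ∃ (x' y' : X ⟶ Red.Ga S) (z : X ⟶ Red.Gm S), Red.gmFn z = 1 + Red.gaFn x * Red.gaFn y ∧
      Red.gaFn x' * Red.gmFn z = Red.gaFn x ∧ Red.gaFn y' * Red.gmFn z = Red.gaFn y ∧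
      (x ≫ D.u a) * (y ≫ D.u (neg D.toSplitRed a)) =
        (y' ≫ D.u (neg D.toSplitRed a)) * (z ≫ cor D.toSplitRed a ≫ D.i) * (x' ≫ D.u a)

/-- The Weyl element of a root. -/
def W (D : Red.SplitRed G) (a : D.idx) (X : Over S) : X ⟶ G :=
  weylElt (R := Γ(X.left, ⊤)) (up D a) (up D (neg D a))

theorem comp_W (D : Red.SplitRed G) (a : D.idx) {X Y : Over S} (g : Y ⟶ X) : g ≫ W D a X = W D a Y := by
  simp only [W, weylElt, MonObj.comp_mul, comp_up, map_neg, map_one]

theorem isParam_up (D : Red.SplitRed G) (c : D.idx) (X : Over S) :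
    IsParam (up D c : Γ(X.left, ⊤) → (X ⟶ G)) := up_add D c

variable (D : Red.Pinning G)

theorem duals_of (avc : D.idx → (Red.Gm S ⟶ D.T))
    (havc : ∀ a, avc a = Red.DSmap S (D.P.coroot a).toAddMonoidHom ≫ D.split.inv.hom.hom)
    (hpair : ∀ a ∈ D.base.support, ∀ (X : Over S) (x y : X ⟶ Red.Ga S), IsUnit (1 + Red.gaFn x * Red.gaFn y) →
        ∃ (x' y' : X ⟶ Red.Ga S) (z : X ⟶ Red.Gm S), Red.gmFn z = 1 + Red.gaFn x * Red.gaFn y ∧
          Red.gaFn x' * Red.gmFn z = Red.gaFn x ∧ Red.gaFn y' * Red.gmFn z = Red.gaFn y ∧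
          (x ≫ D.u a) * (y ≫ D.u (D.P.reflectionPerm a a)) =
            (y' ≫ D.u (D.P.reflectionPerm a a)) * (z ≫ avc a ≫ D.i) * (x' ≫ D.u a)) : Duals D := by
  intro a ha X x y h
  obtain ⟨x', y', z, h1, h2, h3, h4⟩ := hpair a ha X x y h
  exact ⟨x', y', z, h1, h2, h3, by rw [havc] at h4; exact h4⟩

theorem toUnit_w (e₁ : 𝟙_ (Over S) ⟶ Red.Ga S) (he₁ : Red.gaFn e₁ = 1) (w : D.idx → (𝟙_ (Over S) ⟶ G))
    (hw : ∀ a, w a = (e₁ ≫ D.u a) * (e₁ ≫ D.u (D.P.reflectionPerm a a))⁻¹ * (e₁ ≫ D.u a)) (a : D.idx)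
    (X : Over S) : toUnit X ≫ w a = W D.toSplitRed a X := by
  have h : ∀ c, e₁ ≫ D.u c = up D.toSplitRed c (1 : Γ((𝟙_ (Over S)).left, ⊤)) := fun c => by
    rw [up_eq (D := D.toSplitRed), he₁]
  rw [hw, h, h, ← (isParam_up D.toSplitRed _ _).neg]
  exact comp_W D.toSplitRed a (toUnit X)

variable {D} (hd : Duals D) {a : D.idx} (ha : a ∈ D.base.support)

/-- The rank-one system of a simple root. -/
def rsys (X : Over S) : RankOne.Sys Γ(X.left, ⊤) (X ⟶ G) (X ⟶ D.T) :=
  haveI := D.maximalTorus.1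
  haveI : IsMonHom (D.u a) := (D.rootHom a).1
  haveI : IsMonHom (D.u (neg D.toSplitRed a)) := (D.rootHom _).1
  haveI := isMonHom_rootChar D.toSplitRed a
  haveI := isMonHom_cor D.toSplitRed a
  RankOne.sys D.i (D.split.hom.hom.hom ≫ Red.chi S (D.P.root a)) (D.u a) (D.u (neg D.toSplitRed a))
    (D.rootHom a).2.2
    (fun X t y => by
      obtain ⟨y', h1, h2⟩ := (D.rootHom (neg D.toSplitRed a)).2.2 X t y
      refine ⟨y', h1, ?_⟩
      rw [h2, ← val_ch (D := D.toSplitRed), ← val_ch (D := D.toSplitRed), root_neg' D.toSplitRed a, mul_assoc, mul_comm (Red.gaFn y), ← mul_assoc,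
        ← Units.val_mul, ch, ch, dsCh_neg, inv_mul_cancel, Units.val_one, _root_.one_mul])
    (cor D.toSplitRed a)
    (by
      let z := GmPts.unitOfPt (𝟙 (Red.Gm S))
      have e : GmPts.ptOfUnit z = 𝟙 (Red.Gm S) := GmPts.ptOfUnit_unitOfPt _
      apply (GmPts.equiv (Red.Gm S)).injective
      show GmPts.unitOfPt _ = GmPts.unitOfPt _
      rw [pow_two, GmPts.unitOfPt_mul]
      conv_lhs => rw [← Category.id_comp (cor D.toSplitRed a), ← e, ptOfUnit_cor, ← Category.assoc]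
      show ch D.toSplitRed (cochar D.toSplitRed (corHom D.toSplitRed a) z) (D.P.root a) = z * z
      rw [ch_cochar, corHom_root]
      exact (congrArg (z ^ ·) (D.P.pairing_same a)).trans (zpow_two z))
    (hd a ha) X

theorem rsys_w (X : Over S) : (rsys hd ha X).w 1 = W D.toSplitRed a X := by
  simp [RankOne.Sys.w, rsys, RankOne.sys, W, weylElt, up]

include hd ha

theorem W_sq (X : Over S) :
    W D.toSplitRed a X * W D.toSplitRed a X = cochar D.toSplitRed (corHom D.toSplitRed a) (-1) ≫ D.i := by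
  rw [← rsys_w hd ha, (rsys hd ha X).w_mul_w, inv_one, mul_one]
  rfl

/-- The reflection on points of the torus. -/
def sT (D : Red.SplitRed G) (a : D.idx) {X : Over S} (t : X ⟶ D.T) : X ⟶ D.T :=
  (cochar D (corHom D a) (ch D t (D.P.root a)))⁻¹ * t

omit hd ha in
theorem ch_sT (D : Red.SplitRed G) (a : D.idx) {X : Over S} (t : X ⟶ D.T) (m : D.M) :
    ch D (sT D a t) m = ch D t (D.P.reflection a m) := by
  rw [sT, ch_mul, ch_inv, ch_cochar, reflection_eq, sub_eq_neg_add]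
  simp only [ch, dsCh_add, dsCh_neg, dsCh_zsmul]

omit hd ha in
theorem sT_sT (D : Red.SplitRed G) (a : D.idx) {X : Over S} (t : X ⟶ D.T) : sT D a (sT D a t) = t :=
  ch_ext D fun m => by rw [ch_sT, ch_sT, RootPairing.reflection_same]

theorem W_conj_T {X : Over S} (t : X ⟶ D.T) :
    W D.toSplitRed a X * (t ≫ D.i) * (W D.toSplitRed a X)⁻¹ = sT D.toSplitRed a t ≫ D.i := by
  haveI := D.maximalTorus.1
  rw [← rsys_w hd ha, sT, MonObj.mul_comp, GrpObj.inv_comp]
  exact (rsys hd ha X).w_conj 1 t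

theorem W_inv_conj_T {X : Over S} (t : X ⟶ D.T) :
    (W D.toSplitRed a X)⁻¹ * (t ≫ D.i) * W D.toSplitRed a X = sT D.toSplitRed a t ≫ D.i := by
  conv_lhs => rw [← sT_sT D.toSplitRed a t, ← W_conj_T hd ha]
  group

/-- Conjugating by the Weyl element twice. -/
theorem W_W_conj {X : Over S} (k : D.idx) (x : Γ(X.left, ⊤)) :
    W D.toSplitRed a X * (W D.toSplitRed a X * up D.toSplitRed k x * (W D.toSplitRed a X)⁻¹) *
        (W D.toSplitRed a X)⁻¹ =
      up D.toSplitRed k ((((-1 : (Γ(X.left, ⊤))ˣ) ^ D.P.pairing k a : _ˣ) : Γ(X.left, ⊤)) * x) := by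
  rw [show W D.toSplitRed a X * (W D.toSplitRed a X * up D.toSplitRed k x * (W D.toSplitRed a X)⁻¹) *
      (W D.toSplitRed a X)⁻¹ = (W D.toSplitRed a X * W D.toSplitRed a X) * up D.toSplitRed k x *
      (W D.toSplitRed a X * W D.toSplitRed a X)⁻¹ by group, W_sq hd ha, conj_up, ch_cochar, corHom_root]

/-- The Weyl element conjugates the root homomorphism to the opposite one, at the parameter one. -/
theorem W_conj_one (X : Over S) :
    W D.toSplitRed a X * up D.toSplitRed a (1 : Γ(X.left, ⊤)) * (W D.toSplitRed a X)⁻¹ =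
      up D.toSplitRed (neg D.toSplitRed a) (-1 : Γ(X.left, ⊤)) := by
  haveI := D.maximalTorus.1
  haveI : IsMonHom (D.u a) := (D.rootHom a).1
  haveI : IsMonHom (D.u (neg D.toSplitRed a)) := (D.rootHom _).1
  haveI := isMonHom_rootChar D.toSplitRed a
  haveI := isMonHom_cor D.toSplitRed a
  -- the other factorisation of the Weyl element
  have e2 : (rsys hd ha X).m (-1) * (rsys hd ha X).p 1 * (rsys hd ha X).m (-1) = W D.toSplitRed a X := by
    have h : (rsys hd ha X).m (((-1 : (Γ(X.left, ⊤))ˣ)⁻¹ : _ˣ) : Γ(X.left, ⊤)) *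
        (rsys hd ha X).p (-((-1 : (Γ(X.left, ⊤))ˣ) : Γ(X.left, ⊤))) *
        (rsys hd ha X).m (((-1 : (Γ(X.left, ⊤))ˣ)⁻¹ : _ˣ) : Γ(X.left, ⊤)) = (rsys hd ha X).w (-(-1)) :=
      RankOne.braid _ _ _ _ _ _ _ _ _ X (-1)
    rw [neg_neg, rsys_w] at h
    simpa using h
  set p := (rsys hd ha X).p with hp
  set m := (rsys hd ha X).m with hm
  have e1 : p 1 * m (-1) * p 1 = W D.toSplitRed a X := rfl
  set Wa := W D.toSplitRed a X with hWa
  show Wa * p 1 * Wa⁻¹ = m (-1)
  have h1 : Wa * p 1 * Wa⁻¹ = Wa * Wa * (Wa⁻¹ * p 1 * Wa) * (Wa * Wa)⁻¹ := by group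
  have h2 : Wa⁻¹ * p 1 * Wa = m (-1) := by
    have : p 1 * Wa = Wa * m (-1) := by
      conv_lhs => rw [← e2]
      conv_rhs => rw [← e1]
      group
    rw [mul_assoc, this, inv_mul_cancel_left]
  rw [h1, h2, hWa, W_sq hd ha]
  show _ * up D.toSplitRed (neg D.toSplitRed a) (-1 : Γ(X.left, ⊤)) * _ = up D.toSplitRed _ _
  rw [conj_up, ch_cochar, corHom_root]
  have : D.P.pairing (neg D.toSplitRed a) a = -2 := by
    rw [← corHom_root D.toSplitRed, root_neg', map_neg, corHom_root, RootPairing.pairing_same]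
  rw [this]
  simp

end Groth.Agent.Red23Lib.Pinned

end
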