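import Groth.Agent.Red23Lib.Pinned.Homog
import Groth.Agent.S5427

/-!
# Points of a diagonalisable group as characters
-/

set_option autoImplicit false
set_option linter.style.haveILetI false

universe u

open CategoryTheory CategoryTheory.Limits AlgebraicGeometry MonoidalCategory CartesianMonoidalCategory
open Groth.Agent.GrpSchLib Groth.Agent.GrpSchLib.RankOne
open scoped MonObj

noncomputable section

namespace Groth.Agent.Red23Lib.Pinned

variable {S : Scheme.{u}} {M N P : Type} [AddCommGroup M] [AddCommGroup N] [AddCommGroup P]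

theorem diagMap_comp (R : Type u) [CommRing R] (φ : M →+ N) (ψ : N →+ P) :
    Red.diagMap R (ψ.comp φ) = Red.diagMap R ψ ≫ Red.diagMap R φ := by
  refine Over.OverMorphism.ext ?_
  show Spec.map _ = Spec.map _ ≫ Spec.map _
  rw [← Spec.map_comp, ← CommRingCat.ofHom_comp]
  congr 2
  refine MonoidAlgebra.ringHom_ext (fun r => ?_) (fun m => ?_) <;> simp

theorem DSmap_comp (φ : M →+ N) (ψ : N →+ P) :
    Red.DSmap S (ψ.comp φ) = Red.DSmap S ψ ≫ Red.DSmap S φ := by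
  rw [Red.DSmap, diagMap_comp, Functor.map_comp]
  rfl

theorem DSmap_chi (φ : M →+ N) (m : M) : Red.DSmap S φ ≫ Red.chi S m = Red.chi S (φ m) := by
  rw [Red.chi, Red.chi, ← DSmap_comp]
  congr 1
  exact AddMonoidHom.ext_int (by simp)

theorem chi_one : Red.chi S (1 : ℤ) = 𝟙 (Red.Gm S) := by
  have h : Red.diagMap (ULift.{u} ℤ) (zmultiplesHom ℤ (1 : ℤ)) = 𝟙 _ := by
    refine Over.OverMorphism.ext ?_
    show Spec.map _ = 𝟙 _
    rw [← Spec.map_id]
    congr 1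
    refine CommRingCat.hom_ext (MonoidAlgebra.ringHom_ext (fun r => ?_) (fun m => ?_)) <;> simp
  rw [Red.chi, Red.DSmap, h, CategoryTheory.Functor.map_id]

/-- The value of a character at a point. -/
def dsCh {X : Over S} (t : X ⟶ Red.DS S M) (m : M) : (Γ(X.left, ⊤))ˣ := GmPts.unitOfPt (t ≫ Red.chi S m)

theorem val_dsCh {X : Over S} (t : X ⟶ Red.DS S M) (m : M) :
    (dsCh t m : Γ(X.left, ⊤)) = Red.gmFn (t ≫ Red.chi S m) := rfl

theorem dsCh_comp {X Y : Over S} (g : Y ⟶ X) (t : X ⟶ Red.DS S M) (m : M) :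
    (dsCh (g ≫ t) m : Γ(Y.left, ⊤)) = g.left.appTop (dsCh t m : Γ(X.left, ⊤)) := by
  rw [val_dsCh, val_dsCh, Category.assoc]
  exact GmPts.gmFn_comp g _

theorem sval_dsCh {X : Over S} (t : X ⟶ Red.DS S M) {A : CommRingCat.{u}} (b : Spec A ⟶ S) (j : Over.mk b ⟶ X)
    (f : DSPtsLib.CoordM.{u} M →+* A) (hf : j ≫ t = DSPtsLib.pt b f) (m : M) :
    sval b (j.left.appTop (dsCh t m : Γ(X.left, ⊤))) = f (MonoidAlgebra.single (Multiplicative.ofAdd m) 1) := by
  rw [← dsCh_comp, val_dsCh, hf]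
  exact sval_gmFn_pt_chi b f m

theorem dsCh_DSmap {X : Over S} (φ : M →+ N) (t : X ⟶ Red.DS S N) (m : M) :
    dsCh (t ≫ Red.DSmap S φ) m = dsCh t (φ m) := by
  rw [dsCh, dsCh, Category.assoc, DSmap_chi]

theorem dsCh_add {X : Over S} (t : X ⟶ Red.DS S M) (m n : M) : dsCh t (m + n) = dsCh t m * dsCh t n := by
  refine Units.ext (NatFn.eq_of_val_eq fun A b j => (sval b).injective ?_)
  obtain ⟨f, hf⟩ := DSPtsLib.exists_eq_pt b (j ≫ t)
  simp only [Units.val_mul, map_mul]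
  erw [sval_dsCh t b j f hf, sval_dsCh t b j f hf, sval_dsCh t b j f hf]
  rw [← map_mul, MonoidAlgebra.single_mul_single]
  rw [_root_.mul_one]
  rfl

/-- The character map of a point. -/
def dsChHom {X : Over S} (t : X ⟶ Red.DS S M) : Multiplicative M →* (Γ(X.left, ⊤))ˣ :=
  MonoidHom.mk' (fun m => dsCh t m.toAdd) fun m n => dsCh_add t m.toAdd n.toAdd

theorem dsCh_zero {X : Over S} (t : X ⟶ Red.DS S M) : dsCh t (0 : M) = 1 := map_one (dsChHom t)

theorem dsCh_zsmul {X : Over S} (t : X ⟶ Red.DS S M) (k : ℤ) (m : M) : dsCh t (k • m) = dsCh t m ^ k :=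
  map_zpow (dsChHom t) (Multiplicative.ofAdd m) k

theorem dsCh_nsmul {X : Over S} (t : X ⟶ Red.DS S M) (k : ℕ) (m : M) : dsCh t (k • m) = dsCh t m ^ k :=
  map_pow (dsChHom t) (Multiplicative.ofAdd m) k

theorem dsCh_neg {X : Over S} (t : X ⟶ Red.DS S M) (m : M) : dsCh t (-m) = (dsCh t m)⁻¹ :=
  map_inv (dsChHom t) (Multiplicative.ofAdd m)

theorem dsCh_ptOfUnit {X : Over S} (z : (Γ(X.left, ⊤))ˣ) (k : ℤ) :
    dsCh (GmPts.ptOfUnit z : X ⟶ Red.DS S ℤ) k = z ^ k := by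
  have h1 : dsCh (GmPts.ptOfUnit z : X ⟶ Red.DS S ℤ) (1 : ℤ) = z := by
    rw [dsCh, chi_one, Category.comp_id, GmPts.unitOfPt_ptOfUnit]
  conv_lhs => rw [show k = k • (1 : ℤ) by simp, dsCh_zsmul, h1]

/-- Points are determined by their characters. -/
theorem dsCh_ext {X : Over S} {t t' : X ⟶ Red.DS S M} (h : ∀ m, dsCh t m = dsCh t' m) : t = t' := by
  refine ext_spec fun A b j => ?_
  obtain ⟨f, hf⟩ := DSPtsLib.exists_eq_pt b (j ≫ t)
  obtain ⟨f', hf'⟩ := DSPtsLib.exists_eq_pt b (j ≫ t')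
  refine hf.trans (Eq.trans ?_ hf'.symm)
  congr 1
  refine MonoidAlgebra.ringHom_ext (fun r => RingHom.congr_fun
    (DSPtsLib.ulift_ringHom_ext (f.comp MonoidAlgebra.singleOneRingHom) (f'.comp MonoidAlgebra.singleOneRingHom)) r)
    fun m => ?_
  have e := congrArg (fun w : (Γ(X.left, ⊤))ˣ => sval b (j.left.appTop (w : Γ(X.left, ⊤)))) (h m.toAdd)
  exact (sval_dsCh t b j f hf m.toAdd).symm.trans (e.trans (sval_dsCh t' b j f' hf' m.toAdd))

theorem dsCh_mul {X : Over S} (t t' : X ⟶ Red.DS S M) (m : M) : dsCh (t * t') m = dsCh t m * dsCh t' m := by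
  haveI : IsMonHom (Red.DSmap S (zmultiplesHom M m : ℤ →+ M)) := Groth.Agent.S5427.isMonHom_DSmap S _
  exact (congrArg GmPts.unitOfPt (MonObj.mul_comp t t' (Red.DSmap S (zmultiplesHom M m : ℤ →+ M)))).trans
    (GmPts.unitOfPt_mul _ _)

theorem dsCh_one {X : Over S} (m : M) : dsCh (1 : X ⟶ Red.DS S M) m = 1 := by
  haveI : IsMonHom (Red.DSmap S (zmultiplesHom M m : ℤ →+ M)) := Groth.Agent.S5427.isMonHom_DSmap S _
  exact (congrArg GmPts.unitOfPt (MonObj.one_comp (Red.DSmap S (zmultiplesHom M m : ℤ →+ M)))).trans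
    GmPts.unitOfPt_one

end Groth.Agent.Red23Lib.Pinned

end
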