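import Groth.Agent.Red23Lib.Pinned.WeylPair

/-!
# The elements of a rank two Weyl group preserving the simplicity of a simple root
-/

set_option autoImplicit false

universe u

open CategoryTheory AlgebraicGeometry MonoidalCategory CartesianMonoidalCategory
open RootPairing (Equiv.reflection)

noncomputable section

namespace Groth.Agent.Red23Lib.Pinned

open Groth.Agent.RootData RootD

/-- The product of two reflections on coordinates, for the given pairings. -/
def coxF (n n' : ℤ) (p : ℤ × ℤ) : ℤ × ℤ := (-p.1 - n * (-p.2 - n' * p.1), -p.2 - n' * p.1)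

variable {S : Scheme.{u}} {G : Over S} [GrpObj G] {D : Red.Pinning G} {a b : D.idx}

/-- The product of the two reflections. -/
abbrev cprod (D : Red.Pinning G) (a b : D.idx) : D.P.Aut := Equiv.reflection D.P a * Equiv.reflection D.P b

theorem Comb.cox_pow {k : D.idx} {p : ℤ × ℤ} (h : Comb D a b k p) :
    ∀ i : ℕ, Comb D a b (cprod D a b ^ i • k) ((coxF (D.P.pairing b a) (D.P.pairing a b))^[i] p)
  | 0 => by simpa using h
  | i + 1 => by
    rw [pow_succ', mul_smul, Function.iterate_succ_apply']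
    exact (h.cox_pow i).cox rfl

variable (ha : a ∈ D.base.support) (hb : b ∈ D.base.support) (hne : a ≠ b)

include ha hb hne

theorem orderOf_cox {n n' : ℤ} (hba : D.P.pairing b a = n) (hab : D.P.pairing a b = n') {m : ℕ} (hm : 0 < m)
    (h1 : (coxF n n')^[m] (1, 0) = (1, 0)) (h2 : (coxF n n')^[m] (0, 1) = (0, 1))
    (h3 : ∀ i < m, 0 < i → (coxF n n')^[i] (1, 0) ≠ (1, 0)) : orderOf (cprod D a b) = m := by
  refine orderOf_pair ha hb hne hm (fun k p h hp => ?_) fun i hi him p h e => ?_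
  · have := h.cox_pow m
    rw [hba, hab] at this
    rcases hp with rfl | rfl
    · rwa [h1] at this
    · rwa [h2] at this
  · have h' := (comb_fst D a b).cox_pow i
    rw [hba, hab] at h'
    exact h3 i him hi ((h'.ext ha hb hne h rfl).trans e)

theorem order_A1 (hba : D.P.pairing b a = 0) (hab : D.P.pairing a b = 0) : orderOf (cprod D a b) = 2 :=
  orderOf_cox ha hb hne hba hab (by norm_num) (by decide) (by decide) (by decide)

theorem order_A2 (hba : D.P.pairing b a = -1) (hab : D.P.pairing a b = -1) : orderOf (cprod D a b) = 3 :=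
  orderOf_cox ha hb hne hba hab (by norm_num) (by decide) (by decide) (by decide)

theorem order_B2 (h : (D.P.pairing b a = -2 ∧ D.P.pairing a b = -1) ∨ (D.P.pairing b a = -1 ∧ D.P.pairing a b = -2)) :
    orderOf (cprod D a b) = 4 := by
  rcases h with ⟨hba, hab⟩ | ⟨hba, hab⟩ <;>
    exact orderOf_cox ha hb hne hba hab (by norm_num) (by decide) (by decide) (by decide)

theorem order_G2 (h : (D.P.pairing b a = -3 ∧ D.P.pairing a b = -1) ∨ (D.P.pairing b a = -1 ∧ D.P.pairing a b = -3)) :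
    orderOf (cprod D a b) = 6 := by
  rcases h with ⟨hba, hab⟩ | ⟨hba, hab⟩ <;>
    exact orderOf_cox ha hb hne hba hab (by norm_num) (by decide) (by decide) (by decide)

theorem cand_of_order {n n' : ℤ} (hba : D.P.pairing b a = n) (hab : D.P.pairing a b = n') {m : ℕ} (hm : 0 < m)
    (hord : orderOf (cprod D a b) = m) {v : D.P.Aut}
    (hv : v ∈ Subgroup.closure ({Equiv.reflection D.P a, Equiv.reflection D.P b} : Set D.P.Aut)) {k : D.idx}
    (hk : v • a = k) (hk' : k = a ∨ k = b) :
    (∃ i < m, v = cprod D a b ^ i ∧ ((coxF n n')^[i] (1, 0) = (1, 0) ∨ (coxF n n')^[i] (1, 0) = (0, 1))) ∨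
      ∃ i < m, v = cprod D a b ^ i * Equiv.reflection D.P a ∧
        ((coxF n n')^[i] (-1, 0) = (1, 0) ∨ (coxF n n')^[i] (-1, 0) = (0, 1)) := by
  obtain ⟨i, hi, hv⟩ := exists_pow_of_mem_closure hm (refl_mul_self a) (refl_mul_self b)
    (hord ▸ pow_orderOf_eq_one (cprod D a b)) hv
  rcases hv with rfl | rfl
  · have h := (comb_fst D a b).cox_pow i
    rw [hba, hab, hk] at h
    refine .inl ⟨i, hi, rfl, hk'.imp (fun e => ?_) fun e => ?_⟩
    · exact h.ext ha hb hne (comb_fst D a b) e
    · exact h.ext ha hb hne (comb_snd D a b) e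
  · have h0 : Comb D a b (Equiv.reflection D.P a • a) (-1, 0) := by
      simpa [RootPairing.pairing_same] using (comb_fst D a b).refl_self
    have h := h0.cox_pow i
    rw [hba, hab, ← mul_smul, hk] at h
    refine .inr ⟨i, hi, rfl, hk'.imp (fun e => ?_) fun e => ?_⟩
    · exact h.ext ha hb hne (comb_fst D a b) e
    · exact h.ext ha hb hne (comb_snd D a b) e

/-- The candidates in terms of words. -/
theorem cand {v : D.P.Aut}
    (hv : v ∈ Subgroup.closure ({Equiv.reflection D.P a, Equiv.reflection D.P b} : Set D.P.Aut)) {k : D.idx}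
    (hk : v • a = k) (hk' : k = a ∨ k = b) :
    (v = 1 ∧ k = a) ∨
    ((D.P.pairing b a = 0 ∧ D.P.pairing a b = 0) ∧ v = Equiv.reflection D.P b ∧ k = a) ∨
    ((D.P.pairing b a = -1 ∧ D.P.pairing a b = -1) ∧ v = cprod D a b ∧ k = b) ∨
    (((D.P.pairing b a = -2 ∧ D.P.pairing a b = -1) ∨ (D.P.pairing b a = -1 ∧ D.P.pairing a b = -2)) ∧
      v = word D.P [b, a, b] ∧ k = a) ∨
    (((D.P.pairing b a = -3 ∧ D.P.pairing a b = -1) ∨ (D.P.pairing b a = -1 ∧ D.P.pairing a b = -3)) ∧
      v = word D.P [b, a, b, a, b] ∧ k = a) := by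
  have ida : ∀ {p : ℤ × ℤ}, Comb D a b k p → p = (1, 0) → k = a := fun h e => (e ▸ h).idx_eq (comb_fst D a b)
  have idb : ∀ {p : ℤ × ℤ}, Comb D a b k p → p = (0, 1) → k = b := fun h e => (e ▸ h).idx_eq (comb_snd D a b)
  have hcoord : ∀ i : ℕ, ∀ n n', D.P.pairing b a = n → D.P.pairing a b = n' →
      (v = cprod D a b ^ i → Comb D a b k ((coxF n n')^[i] (1, 0))) ∧
      (v = cprod D a b ^ i * Equiv.reflection D.P a → Comb D a b k ((coxF n n')^[i] (-1, 0))) := by
    intro i n n' hn hn'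
    refine ⟨fun e => ?_, fun e => ?_⟩
    · rw [← hk, e, ← hn, ← hn']; exact (comb_fst D a b).cox_pow i
    · rw [← hk, e, ← hn, ← hn', mul_smul]
      refine Comb.cox_pow ?_ i
      simpa [RootPairing.pairing_same] using (comb_fst D a b).refl_self
  have hx := refl_mul_self (P := D.P) a
  have hy := refl_mul_self (P := D.P) b
  have hinv : ∀ {x : D.P.Aut}, x * x = 1 → x⁻¹ = x := fun h => inv_eq_of_mul_eq_one_left h
  rcases pair_cases ha hb hne with h | h | h | h | h | h
  · have ho := order_A1 ha hb hne h.1 h.2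
    have hc := cand_of_order ha hb hne h.1 h.2 (by norm_num) ho hv hk hk'
    rcases hc with ⟨i, hi, e, hcd⟩ | ⟨i, hi, e, hcd⟩ <;> interval_cases i <;>
      simp [coxF, Function.iterate_succ_apply'] at hcd
    · exact .inl ⟨by simpa using e, ida ((hcoord 0 0 0 h.1 h.2).1 e) rfl⟩
    · refine .inr (.inl ⟨h, ?_, ida ((hcoord 1 0 0 h.1 h.2).2 e) (by decide)⟩)
      have h2 : (cprod D a b) ^ 2 = 1 := by rw [← ho]; exact pow_orderOf_eq_one _
      have h3 : cprod D a b = (cprod D a b)⁻¹ := eq_inv_of_mul_eq_one_left (by rwa [← pow_two])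
      rw [e, pow_one, h3, cprod, mul_inv_rev, hinv hx, hinv hy, mul_assoc, hx, mul_one]
  · have ho := order_A2 ha hb hne h.1 h.2
    have hc := cand_of_order ha hb hne h.1 h.2 (by norm_num) ho hv hk hk'
    rcases hc with ⟨i, hi, e, hcd⟩ | ⟨i, hi, e, hcd⟩ <;> interval_cases i <;>
      simp [coxF, Function.iterate_succ_apply'] at hcd
    · exact .inl ⟨by simpa using e, ida ((hcoord 0 (-1) (-1) h.1 h.2).1 e) rfl⟩
    · exact .inr (.inr (.inl ⟨h, by simpa using e, idb ((hcoord 1 (-1) (-1) h.1 h.2).1 e) (by decide)⟩))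
  · have ho := order_B2 ha hb hne (.inl h)
    have hc := cand_of_order ha hb hne h.1 h.2 (by norm_num) ho hv hk hk'
    rcases hc with ⟨i, hi, e, hcd⟩ | ⟨i, hi, e, hcd⟩ <;> interval_cases i <;>
      simp [coxF, Function.iterate_succ_apply'] at hcd
    · exact .inl ⟨by simpa using e, ida ((hcoord 0 _ _ h.1 h.2).1 e) rfl⟩
    · refine .inr (.inr (.inr (.inl ⟨.inl h, ?_, ida ((hcoord 2 _ _ h.1 h.2).2 e) (by decide)⟩)))
      have h2 : (cprod D a b) ^ 4 = 1 := by rw [← ho]; exact pow_orderOf_eq_one _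
      have h3 : cprod D a b ^ 2 = (cprod D a b ^ 2)⁻¹ := eq_inv_of_mul_eq_one_left (by rwa [← pow_add])
      rw [e, h3]
      simp only [cprod, pow_succ, pow_zero, one_mul, mul_inv_rev, hinv hx, hinv hy, word, List.map_cons, List.map_nil,
        List.prod_cons, List.prod_nil, mul_assoc, hx, mul_one]
  · have ho := order_B2 ha hb hne (.inr h)
    have hc := cand_of_order ha hb hne h.1 h.2 (by norm_num) ho hv hk hk'
    rcases hc with ⟨i, hi, e, hcd⟩ | ⟨i, hi, e, hcd⟩ <;> interval_cases i <;>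
      simp [coxF, Function.iterate_succ_apply'] at hcd
    · exact .inl ⟨by simpa using e, ida ((hcoord 0 _ _ h.1 h.2).1 e) rfl⟩
    · refine .inr (.inr (.inr (.inl ⟨.inr h, ?_, ida ((hcoord 2 _ _ h.1 h.2).2 e) (by decide)⟩)))
      have h2 : (cprod D a b) ^ 4 = 1 := by rw [← ho]; exact pow_orderOf_eq_one _
      have h3 : cprod D a b ^ 2 = (cprod D a b ^ 2)⁻¹ := eq_inv_of_mul_eq_one_left (by rwa [← pow_add])
      rw [e, h3]
      simp only [cprod, pow_succ, pow_zero, one_mul, mul_inv_rev, hinv hx, hinv hy, word, List.map_cons, List.map_nil,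
        List.prod_cons, List.prod_nil, mul_assoc, hx, mul_one]
  · have ho := order_G2 ha hb hne (.inl h)
    have hc := cand_of_order ha hb hne h.1 h.2 (by norm_num) ho hv hk hk'
    rcases hc with ⟨i, hi, e, hcd⟩ | ⟨i, hi, e, hcd⟩ <;> interval_cases i <;>
      simp [coxF, Function.iterate_succ_apply'] at hcd
    · exact .inl ⟨by simpa using e, ida ((hcoord 0 _ _ h.1 h.2).1 e) rfl⟩
    · refine .inr (.inr (.inr (.inr ⟨.inl h, ?_, ida ((hcoord 3 _ _ h.1 h.2).2 e) (by decide)⟩)))
      have h2 : (cprod D a b) ^ 6 = 1 := by rw [← ho]; exact pow_orderOf_eq_one _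
      have h3 : cprod D a b ^ 3 = (cprod D a b ^ 3)⁻¹ := eq_inv_of_mul_eq_one_left (by rwa [← pow_add])
      rw [e, h3]
      simp only [cprod, pow_succ, pow_zero, one_mul, mul_inv_rev, hinv hx, hinv hy, word, List.map_cons, List.map_nil,
        List.prod_cons, List.prod_nil, mul_assoc, hx, mul_one]
  · have ho := order_G2 ha hb hne (.inr h)
    have hc := cand_of_order ha hb hne h.1 h.2 (by norm_num) ho hv hk hk'
    rcases hc with ⟨i, hi, e, hcd⟩ | ⟨i, hi, e, hcd⟩ <;> interval_cases i <;>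
      simp [coxF, Function.iterate_succ_apply'] at hcd
    · exact .inl ⟨by simpa using e, ida ((hcoord 0 _ _ h.1 h.2).1 e) rfl⟩
    · refine .inr (.inr (.inr (.inr ⟨.inr h, ?_, ida ((hcoord 3 _ _ h.1 h.2).2 e) (by decide)⟩)))
      have h2 : (cprod D a b) ^ 6 = 1 := by rw [← ho]; exact pow_orderOf_eq_one _
      have h3 : cprod D a b ^ 3 = (cprod D a b ^ 3)⁻¹ := eq_inv_of_mul_eq_one_left (by rwa [← pow_add])
      rw [e, h3]
      simp only [cprod, pow_succ, pow_zero, one_mul, mul_inv_rev, hinv hx, hinv hy, word, List.map_cons, List.map_nil,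
        List.prod_cons, List.prod_nil, mul_assoc, hx, mul_one]

end Groth.Agent.Red23Lib.Pinned

end
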