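import Groth.Agent.Red23Lib.Pinned.ResB
import Groth.Agent.Red23Lib.Pinned.ResG
import Groth.Agent.Red23Lib.Pinned.WeylTypes

/-!
# Lifting the Weyl group to the points of a pinned group, modulo signs
-/

set_option autoImplicit false
set_option linter.style.haveILetI false

universe u

open CategoryTheory CategoryTheory.Limits AlgebraicGeometry MonoidalCategory CartesianMonoidalCategory
open Groth.Agent.GrpSchLib
open RootPairing (Equiv.reflection)
open scoped MonObj

noncomputable section

namespace Groth.Agent.Red23Lib.Pinned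

open Groth.Agent.RootData Groth.Agent.RootCox RootD

variable {S : Scheme.{u}} {G : Over S} [GrpObj G]

/-- A character value is a sign. -/
def IsSign {X : Over S} (z : (Γ(X.left, ⊤))ˣ) : Prop := z = 1 ∨ z = -1

theorem IsSign.mul {X : Over S} {z z' : (Γ(X.left, ⊤))ˣ} (h : IsSign z) (h' : IsSign z') : IsSign (z * z') := by
  rcases h with rfl | rfl <;> rcases h' with rfl | rfl <;> simp [IsSign]

theorem IsSign.inv {X : Over S} {z : (Γ(X.left, ⊤))ˣ} (h : IsSign z) : IsSign z⁻¹ := by
  rcases h with rfl | rfl <;> simp [IsSign]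

theorem isSign_zpow {X : Over S} (k : ℤ) : IsSign (X := X) ((-1) ^ k) := by
  rcases Int.even_or_odd k with h | h
  · exact .inl h.neg_one_zpow
  · exact .inr h.neg_one_zpow

/-- The elements of the torus all of whose characters are signs. -/
def sgn (D : Red.SplitRed G) (X : Over S) : Subgroup (X ⟶ G) where
  carrier := {g | ∃ t : X ⟶ D.T, g = t ≫ D.i ∧ ∀ m, IsSign (ch D t m)}
  one_mem' := by
    haveI := D.maximalTorus.1
    exact ⟨1, (MonObj.one_comp D.i).symm, fun m => .inl (ch_one D m)⟩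
  mul_mem' := by
    haveI := D.maximalTorus.1
    rintro g g' ⟨t, rfl, h⟩ ⟨t', rfl, h'⟩
    exact ⟨t * t', (MonObj.mul_comp _ _ D.i).symm, fun m => by rw [ch_mul]; exact (h m).mul (h' m)⟩
  inv_mem' := by
    haveI := D.maximalTorus.1
    rintro g ⟨t, rfl, h⟩
    exact ⟨t⁻¹, (GrpObj.inv_comp _ D.i).symm, fun m => by rw [ch_inv]; exact (h m).inv⟩

theorem tau_mem (D : Red.SplitRed G) (a : D.idx) (X : Over S) : tau D a X ∈ sgn D X :=
  ⟨_, rfl, fun m => by rw [ch_cochar]; exact isSign_zpow _⟩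

/-- Conjugation by a point sends one root homomorphism to another, up to sign. -/
def SignConj (D : Red.SplitRed G) (g : 𝟙_ (Over S) ⟶ G) (α β : D.idx) : Prop :=
  ∃ ε : ℤ, (ε = 1 ∨ ε = -1) ∧ ∀ (X : Over S) (x : Γ(X.left, ⊤)),
    (toUnit X ≫ g) * up D α x * (toUnit X ≫ g)⁻¹ = up D β ((ε : Γ(X.left, ⊤)) * x)

theorem SignConj.one (D : Red.SplitRed G) (α : D.idx) : SignConj D 1 α α :=
  ⟨1, .inl rfl, fun X x => by simp [MonObj.comp_one]⟩

theorem SignConj.mul {D : Red.SplitRed G} {g g' : 𝟙_ (Over S) ⟶ G} {α β δ : D.idx}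
    (h' : SignConj D g' β δ) (h : SignConj D g α β) : SignConj D (g' * g) α δ := by
  obtain ⟨ε, hε, hg⟩ := h
  obtain ⟨ε', hε', hg'⟩ := h'
  refine ⟨ε' * ε, ?_, fun X x => ?_⟩
  · rcases hε with rfl | rfl <;> rcases hε' with rfl | rfl <;> simp
  · rw [MonObj.comp_mul, Int.cast_mul, mul_assoc (ε' : Γ(X.left, ⊤)), ← hg', ← hg]
    group

theorem signConj_of_mem (D : Red.SplitRed G) {g : 𝟙_ (Over S) ⟶ G} (hg : g ∈ sgn D (𝟙_ (Over S))) (α : D.idx) :
    SignConj D g α α := by
  obtain ⟨t, rfl, ht⟩ := hg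
  have key : ∀ ε : ℤ, (ch D t (D.P.root α) : Γ((𝟙_ (Over S)).left, ⊤)) = ε → ∀ (X : Over S) (x : Γ(X.left, ⊤)),
      (toUnit X ≫ t ≫ D.i) * up D α x * (toUnit X ≫ t ≫ D.i)⁻¹ = up D α ((ε : Γ(X.left, ⊤)) * x) := by
    intro ε he X x
    rw [← Category.assoc, conj_up, ch_comp]
    refine congrArg (fun z => up D α (z * x)) ?_
    exact (congrArg _ he).trans (map_intCast _ _)
  rcases ht (D.P.root α) with e | e
  · exact ⟨1, .inl rfl, key 1 (by simp [e])⟩
  · exact ⟨-1, .inr rfl, key (-1) (by simp [e])⟩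

/-- The product of Weyl elements along a word. -/
def WW (D : Red.SplitRed G) (l : List D.idx) (X : Over S) : X ⟶ G := (l.map fun c => W D c X).prod

theorem comp_WW (D : Red.SplitRed G) (l : List D.idx) {X Y : Over S} (g : Y ⟶ X) :
    g ≫ WW D l X = WW D l Y := by
  induction l with
  | nil => simp [WW, MonObj.comp_one]
  | cons c t ih =>
    simp only [WW, List.map_cons, List.prod_cons, MonObj.comp_mul, comp_W] at ih ⊢
    rw [ih]

variable {D : Red.Pinning G} (hd : Duals D) (hax : CellAx D.toSplitRed D.base)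

include hd in
theorem W_conj_mem {c : D.idx} (hc : c ∈ D.base.support) {X : Over S} {g : X ⟶ G} (hg : g ∈ sgn D.toSplitRed X) :
    W D.toSplitRed c X * g * (W D.toSplitRed c X)⁻¹ ∈ sgn D.toSplitRed X ∧
      (W D.toSplitRed c X)⁻¹ * g * W D.toSplitRed c X ∈ sgn D.toSplitRed X := by
  obtain ⟨t, rfl, ht⟩ := hg
  exact ⟨⟨_, W_conj_T hd hc t, fun m => by rw [ch_sT]; exact ht _⟩,
    ⟨_, W_inv_conj_T hd hc t, fun m => by rw [ch_sT]; exact ht _⟩⟩

include hd in
theorem W_mem_normalizer {c : D.idx} (hc : c ∈ D.base.support) (X : Over S) :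
    W D.toSplitRed c X ∈ Subgroup.normalizer (sgn D.toSplitRed X : Set (X ⟶ G)) := by
  rw [Subgroup.mem_normalizer_iff]
  refine fun g => ⟨fun hg => (W_conj_mem hd hc hg).1, fun hg => ?_⟩
  have := (W_conj_mem hd hc hg).2
  simpa [mul_assoc] using this

include hd in
theorem W_sq_mem {c : D.idx} (hc : c ∈ D.base.support) (X : Over S) :
    W D.toSplitRed c X * W D.toSplitRed c X ∈ sgn D.toSplitRed X := by
  rw [W_sq hd hc]
  exact tau_mem D.toSplitRed c X

include hd hax in
theorem W_pow_mem {a b : D.idx} (ha : a ∈ D.base.support) (hb : b ∈ D.base.support) (hne : a ≠ b) (X : Over S) :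
    (W D.toSplitRed a X * W D.toSplitRed b X) ^ orderOf (cprod D a b) ∈ sgn D.toSplitRed X := by
  rcases pair_cases ha hb hne with h | h | h | h | h | h
  · rw [order_A1 ha hb hne h.1 h.2, (A1_pow hd hax ha hb hne h.1 h.2 X).1]
    exact mul_mem (tau_mem _ _ _) (tau_mem _ _ _)
  · rw [order_A2 ha hb hne h.1 h.2, (A2_pow hd hax ha hb hne h.1 h.2 X).1]
    exact one_mem _
  · rw [order_B2 ha hb hne (.inl h), (B2_pow hd hax ha hb hne h.1 h.2 X).1]
    exact tau_mem _ _ _
  · rw [order_B2 ha hb hne (.inr h), (B2_pow hd hax hb ha hne.symm h.2 h.1 X).2]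
    exact tau_mem _ _ _
  · rw [order_G2 ha hb hne (.inl h), (G2_pow hd hax ha hb hne h.1 h.2 X).1]
    exact one_mem _
  · rw [order_G2 ha hb hne (.inr h), (G2_pow hd hax hb ha hne.symm h.2 h.1 X).2]
    exact one_mem _

include hd in
theorem WW_mem_normalizer {l : List D.idx} (hl : ∀ c ∈ l, c ∈ D.base.support) (X : Over S) :
    WW D.toSplitRed l X ∈ Subgroup.normalizer (sgn D.toSplitRed X : Set (X ⟶ G)) :=
  list_prod_mem fun g hg => by
    obtain ⟨c, hc, rfl⟩ := List.mem_map.1 hg
    exact W_mem_normalizer hd (hl c hc) X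

include hd hax in
/-- Two words with the same image in the Weyl group give the same element modulo signs. -/
theorem WW_inv_mul_mem {l l' : List D.idx} (hl : ∀ c ∈ l, c ∈ D.base.support)
    (hl' : ∀ c ∈ l', c ∈ D.base.support) (he : word D.P l = word D.P l') (X : Over S) :
    (WW D.toSplitRed l' X)⁻¹ * WW D.toSplitRed l X ∈ sgn D.toSplitRed X := by
  haveI := isReduced_pinning D
  let Δ : Set D.idx := ↑D.base.support
  obtain ⟨C, cs, hcs, hM⟩ := exists_coxeterSystem (P := D.P) (Δ := Δ) (Simple.of_base D.base)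
  let N := Subgroup.normalizer (sgn D.toSplitRed X : Set (X ⟶ G))
  let K : Subgroup N := (sgn D.toSplitRed X).subgroupOf N
  haveI hK : K.Normal := inferInstance
  let f : Δ → N ⧸ K := fun c => QuotientGroup.mk ⟨W D.toSplitRed c.1 X, W_mem_normalizer hd c.2 X⟩
  have hf : CoxeterMatrix.IsLiftable C f := by
    intro j k
    simp only [f, ← QuotientGroup.mk_mul, ← QuotientGroup.mk_pow, QuotientGroup.eq_one_iff, K,
      Subgroup.mem_subgroupOf, SubmonoidClass.coe_pow, Subgroup.coe_mul]
    rcases eq_or_ne j k with rfl | hjk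
    · rw [C.diagonal, pow_one]; exact W_sq_mem hd j.2 X
    · rw [hM]
      exact W_pow_mem hd hax j.2 k.2 (fun e => hjk (Subtype.ext e)) X
  let π : D.P.weylGroup →* N ⧸ K := cs.lift ⟨f, hf⟩
  have hπ : ∀ w : List Δ, π (w.map (simpleRefl D.P Δ)).prod =
      QuotientGroup.mk (w.map fun c => (⟨W D.toSplitRed c.1 X, W_mem_normalizer hd c.2 X⟩ : N)).prod := by
    intro w
    induction w with
    | nil => simp
    | cons c t ih =>
      rw [List.map_cons, List.map_cons, List.prod_cons, List.prod_cons, map_mul, ih, ← hcs,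
        cs.lift_apply_simple hf c, QuotientGroup.mk_mul]
  have hval : ∀ w : List Δ, ((w.map fun c => (⟨W D.toSplitRed c.1 X, W_mem_normalizer hd c.2 X⟩ : N)).prod : X ⟶ G) =
      WW D.toSplitRed (w.map Subtype.val) X := by
    intro w
    rw [WW, List.map_map, SubmonoidClass.coe_list_prod, List.map_map]
    rfl
  lift l to List Δ using hl
  lift l' to List Δ using hl'
  have h := (hπ l').symm.trans ((congrArg π (Subtype.ext (((coe_prod_simpleRefl l').trans he.symm).trans
    (coe_prod_simpleRefl l).symm))).trans (hπ l))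
  rw [QuotientGroup.eq] at h
  simp only [K, Subgroup.mem_subgroupOf, Subgroup.coe_mul, Subgroup.coe_inv, hval] at h
  exact h

theorem WW_append (D : Red.SplitRed G) (l l' : List D.idx) (X : Over S) :
    WW D (l ++ l') X = WW D l X * WW D l' X := by simp [WW]

include hd hax in
theorem signConj_pair {a b : D.idx} (ha : a ∈ D.base.support) (hb : b ∈ D.base.support) {v : D.P.Aut}
    (hv : v ∈ Subgroup.closure ({Equiv.reflection D.P a, Equiv.reflection D.P b} : Set D.P.Aut)) {k : D.idx}
    (hk : v • a = k) (hks : k ∈ D.base.support) (hk' : k = a ∨ k = b) :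
    ∃ l : List D.idx, (∀ c ∈ l, c ∈ D.base.support) ∧ word D.P l = v ∧
      SignConj D.toSplitRed (WW D.toSplitRed l (𝟙_ (Over S))) a k := by
  have triv : v = 1 → k = a → ∃ l : List D.idx, (∀ c ∈ l, c ∈ D.base.support) ∧ word D.P l = v ∧
      SignConj D.toSplitRed (WW D.toSplitRed l (𝟙_ (Over S))) a k := by
    rintro rfl rfl
    exact ⟨[], by simp, by simp [word], by simpa [WW] using SignConj.one D.toSplitRed _⟩
  rcases eq_or_ne a b with rfl | hne
  · have hv' : v ∈ Subgroup.closure ({Equiv.reflection D.P a} : Set D.P.Aut) := by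
      rwa [Set.pair_eq_singleton] at hv
    rw [← Subgroup.zpowers_eq_closure, Subgroup.mem_zpowers_iff] at hv'
    obtain ⟨n, rfl⟩ := hv'
    obtain rfl : k = a := hk'.elim id id
    rcases Int.even_or_odd' n with ⟨r, rfl | rfl⟩
    · refine triv ?_ rfl
      rw [zpow_mul, zpow_two, refl_mul_self, one_zpow]
    · exfalso
      rw [zpow_add_one, zpow_mul, zpow_two, refl_mul_self, one_zpow, one_mul, refl_smul_idx] at hk
      exact D.P.ne_zero _ (by
        have h1 := congrArg D.P.root hk
        rw [root_neg' D.toSplitRed, neg_eq_iff_add_eq_zero, ← two_nsmul] at h1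
        rwa [← Nat.cast_smul_eq_nsmul ℤ, smul_eq_zero, or_iff_right (by norm_num : ((2 : ℕ) : ℤ) ≠ 0)] at h1)
  have mk : ∀ l : List D.idx, (∀ c ∈ l, c = a ∨ c = b) → word D.P l = v →
      (∀ (X : Over S) (x : Γ(X.left, ⊤)),
        WW D.toSplitRed l X * up D.toSplitRed a x * (WW D.toSplitRed l X)⁻¹ = up D.toSplitRed k x) →
      ∃ l : List D.idx, (∀ c ∈ l, c ∈ D.base.support) ∧ word D.P l = v ∧
        SignConj D.toSplitRed (WW D.toSplitRed l (𝟙_ (Over S))) a k := by
    intro l hl he hx
    refine ⟨l, fun c hc => ?_, he, 1, .inl rfl, fun X x => ?_⟩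
    · rcases hl c hc with rfl | rfl <;> assumption
    · rw [comp_WW, hx, Int.cast_one, one_mul]
  rcases cand ha hb hne hv hk hk' with ⟨h1, h2⟩ | ⟨h, h1, e⟩ | ⟨h, h1, e⟩ | ⟨h, h1, e⟩ | ⟨h, h1, e⟩ <;>
    (try (rw [e] at mk ⊢))
  · exact triv h1 h2
  · refine mk [b] (by simp) (by rw [h1]; simp [word]) fun X x => ?_
    simpa [WW] using A1_fixed hd hax hb ha hne.symm h.2 h.1 X x
  · refine mk [a, b] (by simp) (by rw [h1]; simp [word]) fun X x => ?_
    rw [← (A2_tables hd hax ha hb hne h.1 h.2 X x).2.1]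
    simp only [WW, List.map_cons, List.map_nil, List.prod_cons, List.prod_nil]
    group
  · refine mk [b, a, b] (by simp) h1.symm fun X x => ?_
    simp only [WW, List.map_cons, List.map_nil, List.prod_cons, List.prod_nil, mul_one]
    rcases h with h | h
    · obtain ⟨e1, -, -, -⟩ := B2_tables hd hax ha hb hne h.1 h.2 X x
      obtain ⟨-, -, e3, -⟩ := B2_tables hd hax ha hb hne h.1 h.2 X (-x)
      conv_rhs => rw [← neg_neg x, ← e3, ← e1]
      group
    · obtain ⟨-, e2, -, e4⟩ := B2_tables hd hax hb ha hne.symm h.2 h.1 X x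
      conv_rhs => rw [← e2, ← e4]
      group
  · refine mk [b, a, b, a, b] (by simp) h1.symm fun X x => ?_
    simp only [WW, List.map_cons, List.map_nil, List.prod_cons, List.prod_nil, mul_one]
    rcases h with h | h
    · have t := G2_tables hd hax ha hb hne h.1 h.2 X
      calc _ = W D.toSplitRed b X * (W D.toSplitRed a X * (W D.toSplitRed b X * (W D.toSplitRed a X *
            (W D.toSplitRed b X * up D.toSplitRed a x * (W D.toSplitRed b X)⁻¹) * (W D.toSplitRed a X)⁻¹) *
            (W D.toSplitRed b X)⁻¹) * (W D.toSplitRed a X)⁻¹) * (W D.toSplitRed b X)⁻¹ := by group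
        _ = up D.toSplitRed a x := by
          rw [show W D.toSplitRed a X * (W D.toSplitRed b X * up D.toSplitRed a x * (W D.toSplitRed b X)⁻¹) *
              (W D.toSplitRed a X)⁻¹ = g21 D a b X x from rfl, (t x).2.2.2.2.1, (t x).1, (t (-x)).2.2.2.1, neg_neg]
    · have t := G2_tables hd hax hb ha hne.symm h.2 h.1 X
      have e0 : W D.toSplitRed b X * up D.toSplitRed a x * (W D.toSplitRed b X)⁻¹ = g31 D b a X (-x) := by
        rw [g31, neg_neg]
      calc _ = W D.toSplitRed b X * (W D.toSplitRed a X * (W D.toSplitRed b X * (W D.toSplitRed a X *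
            (W D.toSplitRed b X * up D.toSplitRed a x * (W D.toSplitRed b X)⁻¹) * (W D.toSplitRed a X)⁻¹) *
            (W D.toSplitRed b X)⁻¹) * (W D.toSplitRed a X)⁻¹) * (W D.toSplitRed b X)⁻¹ := by group
        _ = up D.toSplitRed a x := by
          rw [e0, show W D.toSplitRed a X * g31 D b a X (-x) * (W D.toSplitRed a X)⁻¹ = g32 D b a X (-x) from rfl,
            (t (-x)).2.2.1, (t (-x)).2.2.2.2.2, neg_neg, (t x).2.1]

include hd hax in
/-- A word sending a simple root to a simple root conjugates the one root homomorphism to the other up to sign. -/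
theorem signConj_word {l : List D.idx} (hl : ∀ c ∈ l, c ∈ D.base.support) {α β : D.idx}
    (hα : α ∈ D.base.support) (hβ : β ∈ D.base.support) (h : word D.P l • α = β) :
    SignConj D.toSplitRed (WW D.toSplitRed l (𝟙_ (Over S))) α β := by
  haveI := isReduced_pinning D
  have hΔ := Simple.of_base D.base
  have hw : ∀ {l : List D.idx}, word D.P l ∈ D.P.weylGroup := fun {l} =>
    list_prod_mem fun g hg => by
      obtain ⟨c, -, rfl⟩ := List.mem_map.1 hg
      exact D.P.reflection_mem_weylGroup c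
  suffices main : ∀ n : ℕ, ∀ w : D.P.Aut, (inv' D.P (↑D.base.support) w).ncard = n → w ∈ D.P.weylGroup →
      ∀ α : D.idx, α ∈ D.base.support → w • α = β → ∃ l : List D.idx, (∀ c ∈ l, c ∈ D.base.support) ∧
        word D.P l = w ∧ SignConj D.toSplitRed (WW D.toSplitRed l (𝟙_ (Over S))) α β by
    obtain ⟨l', hl', he, hs⟩ := main _ _ rfl hw α hα h
    have hm := WW_inv_mul_mem hd hax hl hl' he.symm (𝟙_ (Over S))
    have := hs.mul (signConj_of_mem D.toSplitRed hm α)
    rwa [mul_inv_cancel_left] at this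
  intro n
  induction n using Nat.strong_induction_on with
  | _ n ih =>
    intro w hn hw α hα h
    by_cases h1 : w = 1
    · subst h1
      rw [one_smul] at h
      subst h
      exact ⟨[], by simp, by simp [word], by simpa [WW] using SignConj.one D.toSplitRed _⟩
    obtain ⟨δ, hδ, w', hw', α', hα', hv, hlt, hwk, hvα, himp⟩ := tits_step hΔ hα hβ hw h h1
    obtain ⟨l₁, hl₁, he₁, hs₁⟩ := ih _ (hn ▸ hlt) w' rfl hw' α' hα' hwk
    have hv' : w'⁻¹ * w ∈ Subgroup.closure ({Equiv.reflection D.P α, Equiv.reflection D.P δ} : Set D.P.Aut) := by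
      simpa [gen, Set.image_pair] using hv
    have hk' : α' = α ∨ α' = δ := by
      by_cases e : α = α'
      · exact .inl e.symm
      · exact .inr (himp e).symm
    obtain ⟨l₂, hl₂, he₂, hs₂⟩ := signConj_pair hd hax hα hδ hv' hvα hα' hk'
    refine ⟨l₁ ++ l₂, fun c hc => (List.mem_append.1 hc).elim (hl₁ c) (hl₂ c), ?_, ?_⟩
    · rw [word_append, he₁, he₂, mul_inv_cancel_left]
    · rw [WW_append]
      exact hs₁.mul hs₂

end Groth.Agent.Red23Lib.Pinned

end
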