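import Groth.Agent.Red23Lib.Pinned.TypeA2
import Groth.Agent.RootCox.Tits
import Groth.Agent.RootCox.Weyl

/-!
# The subgroup of the Weyl group generated by two simple reflections
-/

set_option autoImplicit false

universe u

open CategoryTheory AlgebraicGeometry MonoidalCategory CartesianMonoidalCategory
open RootPairing (Equiv.reflection)

noncomputable section

namespace Groth.Agent.Red23Lib.Pinned

open Groth.Agent.RootData RootD

theorem exists_pow_of_mem_closure {W : Type*} [Group W] {x y : W} {m : ℕ} (hm : 0 < m) (hx : x * x = 1)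
    (hy : y * y = 1) (hxy : (x * y) ^ m = 1) {v : W} (hv : v ∈ Subgroup.closure ({x, y} : Set W)) :
    ∃ i < m, v = (x * y) ^ i ∨ v = (x * y) ^ i * x := by
  set c := x * y with hc
  suffices h : ∃ i : ℕ, v = c ^ i ∨ v = c ^ i * x by
    obtain ⟨i, hi⟩ := h
    exact ⟨i % m, Nat.mod_lt _ hm, by rw [← pow_eq_pow_mod i hxy]; exact hi⟩
  have hyc : y = c ^ (m - 1) * x := by
    have h1 : c ^ (m - 1) * c = 1 := by rw [← pow_succ, Nat.sub_add_cancel hm, hxy]
    rw [← mul_one y, eq_inv_of_mul_eq_one_left h1, hc, mul_inv_rev, inv_mul_cancel_right,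
      inv_eq_of_mul_eq_one_left hy, mul_one]
  have hci : ∀ i : ℕ, x * c ^ i = c ^ ((m - 1) * i) * x := fun i => by
    induction i with
    | zero => simp
    | succ i ih =>
      have h1 : c ^ (m - 1) * c = 1 := by rw [← pow_succ, Nat.sub_add_cancel hm, hxy]
      have e1 : x * c = c ^ (m - 1) * x := by rw [← hyc, hc, ← mul_assoc, hx, one_mul]
      rw [pow_succ', ← mul_assoc, e1, mul_assoc, ih, ← mul_assoc, ← pow_add, Nat.mul_succ, add_comm]
  induction hv using Subgroup.closure_induction with
  | mem z hz =>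
    rcases hz with rfl | rfl
    · exact ⟨0, .inr (by simp)⟩
    · exact ⟨m - 1, .inr hyc⟩
  | one => exact ⟨0, .inl (by simp)⟩
  | mul a b _ _ ha hb =>
    obtain ⟨i, rfl | rfl⟩ := ha <;> obtain ⟨j, rfl | rfl⟩ := hb
    · exact ⟨i + j, .inl (pow_add c i j).symm⟩
    · exact ⟨i + j, .inr (by rw [pow_add, mul_assoc])⟩
    · exact ⟨i + (m - 1) * j, .inr (by rw [mul_assoc, hci, ← mul_assoc, pow_add])⟩
    · exact ⟨i + (m - 1) * j, .inl (by rw [mul_assoc, ← mul_assoc x, hci, mul_assoc _ x x, hx, mul_one, pow_add])⟩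
  | inv a _ ha =>
    have hk : ∀ i : ℕ, c ^ (i + (m - 1) * i) = 1 := fun i => by
      obtain ⟨n, rfl⟩ : ∃ n, m = n + 1 := ⟨m - 1, by omega⟩
      rw [Nat.add_sub_cancel, show i + n * i = (n + 1) * i by ring, pow_mul, hxy, one_pow]
    obtain ⟨i, rfl | rfl⟩ := ha
    · exact ⟨(m - 1) * i, .inl (inv_eq_of_mul_eq_one_right (by rw [← pow_add, hk]))⟩
    · refine ⟨i, .inr (inv_eq_of_mul_eq_one_right ?_)⟩
      rw [mul_assoc, ← mul_assoc x, hci, mul_assoc _ x x, hx, mul_one, ← pow_add, hk]

variable {S : Scheme.{u}} {G : Over S} [GrpObj G] {D : Red.Pinning G}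

variable (D) in
/-- The root datum of a pinning is reduced. -/
theorem isReduced_pinning : D.P.IsReduced := by
  rw [RootPairing.isReduced_iff]
  intro i j hli
  rw [LinearIndependent.pair_iff] at hli
  push Not at hli
  obtain ⟨s, t, hst, h0⟩ := hli
  have ht : t ≠ 0 := by
    rintro rfl
    rw [zero_smul, add_zero, smul_eq_zero] at hst
    exact h0 (hst.resolve_right (D.P.ne_zero i)) rfl
  have h1 : s • D.P.root i = (-t) • D.P.root j := by rw [neg_smul]; exact eq_neg_of_add_eq_zero_left hst
  rcases proportional_cases (P := D.P) (neg_ne_zero.2 ht) h1 with e | e | e | e | e | e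
  · exact .inl e.symm
  · exact .inr (by rw [e, neg_neg])
  · exact absurd e.symm (isIndiv_of_base D.base j i)
  · refine absurd ?_ (isIndiv_of_base D.base j (neg D.toSplitRed i))
    rw [root_neg' D.toSplitRed, e, smul_neg, neg_smul]
  · exact absurd e.symm (isIndiv_of_base D.base i j)
  · refine absurd ?_ (isIndiv_of_base D.base i (neg D.toSplitRed j))
    rw [root_neg' D.toSplitRed, e, smul_neg, neg_smul]

variable {a b : D.idx} (ha : a ∈ D.base.support) (hb : b ∈ D.base.support) (hne : a ≠ b)

include ha hb hne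

theorem pair_cases :
    (D.P.pairing b a = 0 ∧ D.P.pairing a b = 0) ∨ (D.P.pairing b a = -1 ∧ D.P.pairing a b = -1) ∨
    (D.P.pairing b a = -2 ∧ D.P.pairing a b = -1) ∨ (D.P.pairing b a = -1 ∧ D.P.pairing a b = -2) ∨
    (D.P.pairing b a = -3 ∧ D.P.pairing a b = -1) ∨ (D.P.pairing b a = -1 ∧ D.P.pairing a b = -3) := by
  classical
  haveI := isReduced_pinning D
  have hΔ := Simple.of_base D.base
  have h1 : D.P.root a ≠ D.P.root b := fun e => hne (D.P.root.injective e)
  have h2 : D.P.root a ≠ -D.P.root b := fun e => by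
    have := indep_pair ha hb hne (i := 1) (j := 1) (by rw [one_smul, one_smul, e, neg_add_cancel])
    omega
  have hmem := D.P.pairingIn_pairingIn_mem_set_of_isCrystal_of_isRed' a b h1 h2
  have e : ∀ i j, D.P.pairingIn ℤ i j = D.P.pairing i j := fun i j => D.P.algebraMap_pairingIn ℤ i j
  rw [e, e] at hmem
  have o1 : D.P.pairing a b ≤ 0 := nn_eq_pairing a b ▸ hΔ.obtuse ha hb hne
  have o2 : D.P.pairing b a ≤ 0 := nn_eq_pairing b a ▸ hΔ.obtuse hb ha hne.symm
  simp only [Set.mem_insert_iff, Set.mem_singleton_iff, Prod.mk.injEq] at hmem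
  omega

/-- An element generated by two simple reflections which fixes both simple roots is trivial. -/
theorem eq_one_of_fix_pair {v : D.P.Aut}
    (hv : v ∈ Subgroup.closure ({Equiv.reflection D.P a, Equiv.reflection D.P b} : Set D.P.Aut))
    (hva : v • a = a) (hvb : v • b = b) : v = 1 := by
  classical
  haveI := isReduced_pinning D
  have hΔ := Simple.of_base D.base
  have hmem : v ∈ D.P.weylGroup := by
    refine (Subgroup.closure_le _).2 ?_ hv
    rintro _ (rfl | rfl) <;> exact D.P.reflection_mem_weylGroup _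
  refine hΔ.eq_one_of_pos hmem fun x hx => ?_
  by_cases hxa : x = a
  · rw [hxa, hva]; exact hΔ.subset_posOf ha
  by_cases hxb : x = b
  · rw [hxb, hvb]; exact hΔ.subset_posOf hb
  have key : ∀ u ∈ Subgroup.closure ({Equiv.reflection D.P a, Equiv.reflection D.P b} : Set D.P.Aut),
      ∀ k, hΔ.co (u • k) x = hΔ.co k x := by
    intro u hu
    induction hu using Subgroup.closure_induction with
    | mem z hz =>
      intro k
      rcases hz with rfl | rfl
      · rw [refl_smul_idx, hΔ.co_refl ha, Pi.sub_apply, Pi.single_eq_of_ne hxa, sub_zero]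
      · rw [refl_smul_idx, hΔ.co_refl hb, Pi.sub_apply, Pi.single_eq_of_ne hxb, sub_zero]
    | one => intro k; rw [one_smul]
    | mul p q _ _ hp hq => intro k; rw [mul_smul, hp, hq]
    | inv p _ hp => intro k; rw [← hp (p⁻¹ • k), smul_inv_smul]
  exact hΔ.mem_posOf_iff'.2 ⟨x, by rw [key v hv, hΔ.co_simple hx, Pi.single_eq_same]; norm_num⟩

omit ha hb hne

/-- The product of two simple reflections on coordinates. -/
theorem Comb.cox {k : D.idx} {p q : ℤ × ℤ} (h : Comb D a b k p)
    (hq : (-p.1 - D.P.pairing b a * (-p.2 - D.P.pairing a b * p.1), -p.2 - D.P.pairing a b * p.1) = q) :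
    Comb D a b ((Equiv.reflection D.P a * Equiv.reflection D.P b) • k) q := by
  rw [mul_smul, refl_smul_idx, refl_smul_idx]
  exact (h.refl_snd rfl).refl_fst hq

theorem Comb.refl_self {k : D.idx} {p : ℤ × ℤ} (h : Comb D a b k p) :
    Comb D a b (Equiv.reflection D.P a • k) (-p.1 - D.P.pairing b a * p.2, p.2) := by
  rw [refl_smul_idx]
  exact h.refl_fst rfl

include ha hb hne

/-- The types of a pair of simple roots with the order of the product of the reflections. -/
theorem orderOf_pair {m : ℕ} (hm : 0 < m)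
    (hfix : ∀ k p, Comb D a b k p →
      (p = (1, 0) ∨ p = (0, 1)) → Comb D a b ((Equiv.reflection D.P a * Equiv.reflection D.P b) ^ m • k) p)
    (hmove : ∀ i, 0 < i → i < m → ∀ p, Comb D a b ((Equiv.reflection D.P a * Equiv.reflection D.P b) ^ i • a) p →
      p ≠ (1, 0)) :
    orderOf (Equiv.reflection D.P a * Equiv.reflection D.P b) = m := by
  refine (orderOf_eq_iff hm).2 ⟨eq_one_of_fix_pair ha hb hne ?_ ?_ ?_, fun i him hi h => ?_⟩
  · exact pow_mem (mul_mem (Subgroup.subset_closure (by simp)) (Subgroup.subset_closure (by simp))) m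
  · exact (hfix _ _ (comb_fst D a b) (.inl rfl)).idx_eq (comb_fst D a b)
  · exact (hfix _ _ (comb_snd D a b) (.inr rfl)).idx_eq (comb_snd D a b)
  · exact hmove i hi him (1, 0) (by rw [h, one_smul]; exact comb_fst D a b) rfl

end Groth.Agent.Red23Lib.Pinned

end
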